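import Cfsg.Agent.Lib.OddOrder.S13.Columns
import Cfsg.Agent.Lib.Blocks.ComplexAut

/-!
Peterfalvi (13.10) for the pair `(S, T)`: the input of the abstract inequality from the coherence of both sides.
-/

set_option autoImplicit false
set_option linter.unusedSectionVars false
set_option linter.style.haveILetI false
set_option maxHeartbeats 1000000

namespace CfsgLib.OddOrder.S13

open Subgroup Cfsg CfsgLib.MinSimpleOdd CfsgLib.OddOrder.S9 CfsgLib.CharTheory CfsgLib.OddOrder.Found CfsgLib.Dade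
open scoped commutatorElement ComplexConjugate Pointwise IsMulCommutative

universe u

variable {G : Type u} [Group G]

/-- The exceptional case of (13.3)(c). -/
def FullGalois (S U W₁ W₂ : Subgroup G) : Prop :=
  IsGalois (fittingHallOf S) U ⊥ ∧ Nat.card (sideC S U) = 1 ∧
    (sideC S U).relIndex U = geom (Nat.card W₂) (Nat.card W₁)

namespace FTPair

variable [Fintype G] {S T W₁ W₂ U V : Subgroup G} (h : FTPair S T W₁ W₂ U V) (imp : FTImports G)
include h imp

/-- The conjugates of `F(S)#` and `F(T)#` are disjoint. -/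
theorem disjoint_conjSpan : Disjoint (conjSpan (fittingOf S)) (conjSpan (fittingOf T)) := by
  rw [Finset.disjoint_left]
  intro g hS hT
  obtain ⟨hg1, k, x, hx, rfl⟩ := mem_conjSpan.mp hS
  obtain ⟨-, l, y, hy, e⟩ := mem_conjSpan.mp hT
  have hx1 : x ≠ 1 := fun e' => hg1 (by rw [e']; simp)
  have hle : MulAut.conj (k⁻¹ * l) • fittingOf T ≤ S := by
    refine le_trans ?_ (h.centralizer_le imp hx hx1)
    rintro _ ⟨z, hz, rfl⟩
    refine mem_centralizer_singleton_iff.mpr ?_
    show k⁻¹ * l * z * (k⁻¹ * l)⁻¹ * x = x * (k⁻¹ * l * z * (k⁻¹ * l)⁻¹)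
    have hx' : x = k⁻¹ * l * y * (k⁻¹ * l)⁻¹ := by
      calc x = k⁻¹ * (k * x * k⁻¹) * k := by group
        _ = k⁻¹ * (l * y * l⁻¹) * k := by rw [e]
        _ = _ := by group
    have hc := congrArg Subtype.val (h.swap.fitting_comm imp ⟨z, hz⟩ ⟨y, hy⟩)
    simp only [Subgroup.coe_mul] at hc
    rw [hx']
    calc k⁻¹ * l * z * (k⁻¹ * l)⁻¹ * (k⁻¹ * l * y * (k⁻¹ * l)⁻¹) = k⁻¹ * l * (z * y) * (k⁻¹ * l)⁻¹ := by group
      _ = k⁻¹ * l * (y * z) * (k⁻¹ * l)⁻¹ := by rw [hc]
      _ = _ := by group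
  have hdvd := Subgroup.card_dvd_of_le hle
  rw [CfsgLib.card_conj_smul, h.swap.card_fitting imp, (h.typeData imp).card_M] at hdvd
  have hq := h.q_prime imp
  have hp2 := (h.p_prime imp).two_le
  have hqH : ¬ Nat.card W₁ ∣ Nat.card (fittingHallOf S) * Nat.card U := fun hd =>
    ((Nat.Prime.dvd_mul hq).mp hd).elim (h.typeData imp).q_not_dvd_H (h.typeData imp).q_not_dvd_U
  have h2 : Nat.card W₁ ^ 2 ∣ Nat.card (fittingHallOf S) * Nat.card U * Nat.card W₁ :=
    ((pow_dvd_pow _ hp2).trans (dvd_mul_right _ _)).trans hdvd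
  rw [sq] at h2
  exact hqH (Nat.dvd_of_mul_dvd_mul_right hq.pos h2)

theorem order_V_not_dvd {a b : G} (ha : a ∈ W₁) (ha1 : a ≠ 1) (hb : b ∈ W₂) (hb1 : b ≠ 1) (k : G) :
    k * (a * b) * k⁻¹ ∉ fittingOf S := fun hmem => by
  haveI := Fact.mk (h.q_prime imp)
  have hc : Commute a b := h.hSP.selfNormalizing.2.2.2.1 a ha b hb
  have hoa : orderOf a = Nat.card W₁ := by
    have h0 := orderOf_eq_prime (pow_card_eq_one' (x := (⟨a, ha⟩ : W₁))) (fun e => ha1 (congrArg Subtype.val e))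
    rwa [Subgroup.orderOf_mk] at h0
  have hdvd : Nat.card W₁ ∣ orderOf (a * b) := by
    have hob : orderOf b = Nat.card W₂ := by
      haveI := Fact.mk (h.p_prime imp)
      have h0 := orderOf_eq_prime (pow_card_eq_one' (x := (⟨b, hb⟩ : W₂))) (fun e => hb1 (congrArg Subtype.val e))
      rwa [Subgroup.orderOf_mk] at h0
    rw [hc.orderOf_mul_eq_mul_orderOf_of_coprime (by
      rw [hoa, hob]; exact (Nat.coprime_primes (h.q_prime imp) (h.p_prime imp)).mpr (h.p_ne_q imp).symm), hoa]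
    exact dvd_mul_right _ _
  have h1 : orderOf (k * (a * b) * k⁻¹) = orderOf (a * b) := by
    exact orderOf_injective (MulAut.conj k).toMonoidHom (MulAut.conj k).injective (a * b)
  refine (h.typeData imp).q_not_dvd_der ((hdvd.trans ?_).trans (Subgroup.card_dvd_of_le (h.fitting_le_der imp)))
  rw [← h1]
  exact Subgroup.orderOf_dvd_natCard _ hmem

/-- The identity of (13.6) between the image of a member of degree `q u` and a column, at every element outside
the conjugates of `F(S)` and of `V`, and on `F(S)#`. -/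
theorem member_relation [Fintype S] [Fintype (fittingOf S)] [Fintype (derK S)]
    [Fintype (W₁.subgroupOf S →* ℂˣ)] [DecidableEq (W₁.subgroupOf S →* ℂˣ)] {A₀ : Set G} {R : G → Subgroup G}
    (d : IsPrimeDade S (derK S) ((fittingHallOf S).subgroupOf S) W₁ W₂ A₀ R) {χ : WLin W₁ W₂ → (G → ℂ)}
    {τ₁ : (S → ℂ) → (G → ℂ)} {ε : ℤ} {π : (W₂.subgroupOf S →* ℂˣ) → (W₂.subgroupOf S →* ℂˣ)}
    (hc : CohData d χ τ₁ ε π) {ψ : fittingOf S →* ℂˣ} (hψ : NonTrivP S ψ) {b : W₂.subgroupOf S →* ℂˣ} (hb : b ≠ 1)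
    {g : G} (hg : ∀ k : G, ∀ w ∈ W₁ ⊔ W₂, w ∉ W₁ → w ∉ W₂ → g ≠ k * w * k⁻¹) :
    (g ∉ conjSpan (fittingOf S) → τ₁ (indF ψ) g = (ε : ℂ) * (1 +
      ∑ i : {a : W₁.subgroupOf S →* ℂˣ // a ≠ 1}, χ (d.idx i.1 1) g + (Nat.card W₁ : ℂ) * χ (d.idx 1 (π b)) g -
      Nat.card W₁)) ∧
    ∀ x : fittingOf S, x ≠ 1 → (x : G) = g → τ₁ (indF ψ) g - (indF ψ) (inclS S x) = (ε : ℂ) * (1 +
      ∑ i : {a : W₁.subgroupOf S →* ℂˣ // a ≠ 1}, χ (d.idx i.1 1) g + (Nat.card W₁ : ℂ) * χ (d.idx 1 (π b)) g -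
      Nat.card W₁) - (Nat.card W₁ : ℂ) * d.ti.colChar b (h.jK imp x) := by
  classical
  have hmem1 := h.indF_mem imp d hψ
  have hmem2 : d.ti.muSum b ∈ zspan (memberSet S) := Submodule.subset_span (h.muSum_mem imp d hb)
  have hβ : indF ψ - d.ti.muSum b ∈ zspanOn (memberSet S) {1}ᶜ := by
    refine ⟨Submodule.sub_mem _ hmem1 hmem2, fun x hx => ?_⟩
    rw [Set.mem_compl_iff, Set.mem_singleton_iff, not_not] at hx
    subst hx
    rw [Pi.sub_apply, indF_apply_one, h.index_fitting_subgroupOf imp d, h.muSum_one imp d hb, sub_self]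
  have hcl : IsClassFunction S (indF ψ - d.ti.muSum b) := isClassFunction_sub (indFun_isClassFunction _ _)
    (by rw [← d.ti.indFun_colChar]; exact indFun_isClassFunction _ _)
  obtain ⟨hv1, hv2, -⟩ := h.dade_support imp d hcl fun x hx => by
    by_contra hno
    refine hx ?_
    by_cases hx1 : x = 1
    · exact hβ.2 x (by simp [hx1])
    · have hxF : (x : G) ∉ fittingOf S := fun hf => hno ⟨hf, hx1⟩
      rw [Pi.sub_apply, indF_support ψ hxF, h.muSum_off imp d hb hxF, sub_zero]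
  have hτ := congrFun (hc.agree _ hβ) g
  rw [isometryOn_sub hc.iso hmem1 hmem2, Pi.sub_apply, hc.col b hb, Pi.smul_apply, Finset.sum_apply,
    smul_eq_mul] at hτ
  have hcol : ∑ a : W₁.subgroupOf S →* ℂˣ, χ (d.idx a (π b)) g =
      1 + ∑ i : {a : W₁.subgroupOf S →* ℂˣ // a ≠ 1}, χ (d.idx i.1 1) g +
        (Nat.card W₁ : ℂ) * χ (d.idx 1 (π b)) g - Nat.card W₁ := by
    rw [← Finset.add_sum_erase _ _ (Finset.mem_univ 1),
      Finset.sum_congr rfl fun a ha => table_off_V d hc.fam (Finset.ne_of_mem_erase ha) (hc.ne_one b hb) hg,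
      Finset.sum_sub_distrib, Finset.sum_add_distrib, Finset.sum_const, Finset.sum_const,
      Finset.card_erase_of_mem (Finset.mem_univ _), Finset.card_univ, d.ti.card_hom₁, d.card₁, nsmul_eq_mul,
      nsmul_eq_mul, Nat.cast_sub Nat.card_pos, Nat.cast_one,
      Finset.sum_subtype (Finset.univ.erase (1 : W₁.subgroupOf S →* ℂˣ)) (p := fun a => a ≠ 1) (by simp)]
    ring
  rw [hcol] at hτ
  refine ⟨fun hgS => ?_, fun x hx hxg => ?_⟩
  · rw [hv2 g hgS] at hτ
    linear_combination hτ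
  · subst hxg
    have hx' : inclS S x ≠ 1 := fun e => hx (Subtype.ext (congrArg (fun s : S => (s : G)) e))
    rw [show (x : G) = ((inclS S x : S) : G) from rfl, hv1 (inclS S x) x.2 hx', Pi.sub_apply,
      show d.ti.muSum b (inclS S x) = d.ti.muSum b ((h.jK imp x : derK S) : S) from rfl, h.muSum_on_der imp d] at hτ
    rw [show (x : G) = ((inclS S x : S) : G) from rfl]
    linear_combination hτ

/-- (13.10). -/
theorem mBound_lt [Fintype S] [Fintype T] [Fintype (W₁.subgroupOf S →* ℂˣ)] [Fintype (W₂.subgroupOf T →* ℂˣ)]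
    {A₀ A₀' : Set G} {R R' : G → Subgroup G}
    (dS : IsPrimeDade S (derK S) ((fittingHallOf S).subgroupOf S) W₁ W₂ A₀ R)
    (dT : IsPrimeDade T (derK T) ((fittingHallOf T).subgroupOf T) W₂ W₁ A₀' R')
    {χ : WLin W₁ W₂ → (G → ℂ)} {τS : (S → ℂ) → (G → ℂ)} {εS : ℤ}
    {πS : (W₂.subgroupOf S →* ℂˣ) → (W₂.subgroupOf S →* ℂˣ)} (hcS : CohData dS χ τS εS πS)
    {χ' : WLin W₂ W₁ → (G → ℂ)} {τT : (T → ℂ) → (G → ℂ)} {εT : ℤ}
    {πT : (W₁.subgroupOf T →* ℂˣ) → (W₁.subgroupOf T →* ℂˣ)} (hcT : CohData dT χ' τT εT πT)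
    (hex : ¬ FullGalois S U W₁ W₂) :
    mBound (Nat.card W₂) (Nat.card W₁) * (Nat.card W₂ : ℝ) ^ (Nat.card W₁ - 1) * Nat.card (sideC S U) <
      (Nat.card W₁ : ℝ) * ((sideC S U).relIndex U : ℕ) := by
  classical
  haveI := Fintype.ofFinite (fittingOf S)
  haveI := Fintype.ofFinite (fittingOf T)
  haveI := Fintype.ofFinite (derK S)
  haveI := Fintype.ofFinite (derK T)
  haveI := (h.fitting_eq imp).2
  haveI := (h.swap.fitting_eq imp).2
  have dd := h.typeData imp
  have hW : IsSelfNormalizingCyclic W₁ W₂ := dS.selfNormG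
  haveI := finite_homC (H := W₂.subgroupOf S) dS.ti.comm₂
  -- the regular member
  obtain ⟨ψ₀, hψ₀, hreg⟩ := h.exists_regular imp dS.ti hex
  haveI hnS : (inclS S).range.Normal := ⟨by
    rintro _ ⟨x, rfl⟩ g
    exact ⟨conjF S g x, Subtype.ext rfl⟩⟩
  obtain ⟨lam, O, hlam, hOcard, hψO, hO, hlamval, -, hlamdef, -⟩ :=
    exists_orbit_of_regular (inclS S) (Subgroup.inclusion_injective _) ψ₀ fun g hg =>
      ⟨⟨g, hreg g fun y => hg y _ (Subtype.ext rfl)⟩, Subtype.ext rfl⟩
  have hrange : (fittingOf S).subgroupOf S = (inclS S).range := by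
    ext x
    exact ⟨fun hx => ⟨⟨x, Subgroup.mem_subgroupOf.mp hx⟩, Subtype.ext rfl⟩,
      by rintro ⟨y, rfl⟩; exact Subgroup.mem_subgroupOf.mpr y.2⟩
  have hindF : indF ψ₀ = lam := by
    rw [hlamdef, indF, indFun_congr_subgroup hrange]
    congr 1
    funext a
    congr 2
    refine (MonoidHom.ofInjective (Subgroup.inclusion_injective (fittingOf_le S))).eq_symm_apply.mpr ?_
    exact Subtype.ext (Subtype.ext rfl)
  have hO' : ∀ φ ∈ O, NonTrivP S φ := fun φ hφ => by
    obtain ⟨g, hg⟩ := hO φ hφ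
    obtain ⟨z, hz, hz1⟩ := hψ₀
    refine ⟨(conjF S g).symm z, by rw [← h.conjF_mem_P imp g, MulEquiv.apply_symm_apply]; exact hz, ?_⟩
    rwa [hg ((conjF S g).symm z) z (Subtype.ext (by
      show (z : G) = (g : G) * ((conjF S g).symm z : G) * (g : G)⁻¹
      rw [← coe_conjF S g, MulEquiv.apply_symm_apply]))]
  have hOc : O.card = Nat.card W₁ * (sideC S U).relIndex U := by
    rw [hOcard, ← hrange, h.index_fitting_subgroupOf imp dS]
  -- a column
  obtain ⟨b₁, hb₁⟩ : ∃ b : W₂.subgroupOf S →* ℂˣ, b ≠ 1 := by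
    haveI : Nontrivial (W₂.subgroupOf S →* ℂˣ) := Finite.one_lt_card_iff_nontrivial.mp (by
      rw [card_homC dS.ti.comm₂, dS.card₂]; exact (h.p_prime imp).one_lt)
    exact exists_ne 1
  -- the rows
  have hnontrivA : Nonempty {a : W₁.subgroupOf S →* ℂˣ // a ≠ 1} := by
    haveI : Nontrivial (W₁.subgroupOf S →* ℂˣ) := Fintype.one_lt_card_iff_nontrivial.mp (by
      rw [dS.ti.card_hom₁, dS.card₁]; exact (h.q_prime imp).one_lt)
    obtain ⟨a, ha⟩ := exists_ne (1 : W₁.subgroupOf S →* ℂˣ)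
    exact ⟨⟨a, ha⟩⟩
  obtain ⟨i₀⟩ := hnontrivA
  let eW := wSwap W₁ W₂
  let ω' : {a : W₁.subgroupOf S →* ℂˣ // a ≠ 1} → WLin W₂ W₁ := fun i => (dS.idx i.1 1).comp eW.toMonoidHom
  have hrow : ∀ i, ∃ c, c ≠ 1 ∧ ω' i = dT.idx 1 c := fun i => by
    obtain ⟨⟨a, c⟩, hac⟩ := dT.idx_bijective.2 (ω' i)
    have ha : a = 1 := by
      ext y
      let w : ↥(W₂ ⊔ W₁) := ⟨((y : T) : G), Subgroup.mem_sup_left (Subgroup.mem_subgroupOf.mp y.2)⟩
      have e := DFunLike.congr_fun hac w
      have h1 : ω' i w = 1 := dS.idx_apply₂ i.1 (w := eW w) (Subgroup.mem_subgroupOf.mp y.2)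
      simp only [h1] at e
      rw [IsPrimeDade.idx_apply, dT.ti.row_apply₁ a (w := dT.wEquiv.symm w) y.2,
        dT.ti.col_apply₁ c (w := dT.wEquiv.symm w) y.2, mul_one] at e
      exact congrArg Units.val e
    subst ha
    refine ⟨c, fun e => ?_, hac.symm⟩
    subst e
    have h1 : dS.idx i.1 1 = 1 := MonoidHom.ext fun w => by
      have := DFunLike.congr_fun hac (eW.symm w)
      simp only [dT.idx_one, MonoidHom.one_apply, ω', MonoidHom.comp_apply, MulEquiv.coe_toMonoidHom,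
        MulEquiv.apply_symm_apply] at this
      simp [← this]
    exact dS.idx_left_ne_one i.2 h1
  choose cT hcT1 hcTe using hrow
  have hbex := fun i => h.swap.pi_bij imp dT hcT (hcT1 i)
  choose bT hbT using fun i => (hbex i).exists
  have hbTu : ∀ i b, b ≠ 1 → πT b = cT i → b = bT i := fun i b hb e => (hbex i).unique ⟨hb, e⟩ (hbT i)
  choose OK hOKc hOKn hOKv _ _ hOKd using fun i => h.swap.col_orbit imp dT (hbT i).1
  have hOKcoef : ∀ i φ, classInner (fun y => dT.ti.colChar (bT i) (h.swap.jK imp y)) (fun y => (φ y : ℂ)) =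
      if φ ∈ OK i then 1 else 0 := fun i φ => by rw [funext (hOKv i), classInner_linear_sum]
  have hfam : ∀ i, χ (dS.idx i.1 1) = χ' (ω' i) := fun i => (family_swap hW dS.oddW hcS.fam hcT.fam _).symm
  have hidx₁ : ∀ {i a b}, dT.idx a b = ω' i → a = 1 ∧ b = cT i := fun {i a b} e => dT.idx_eq_iff.mp (e.trans (hcTe i))
  obtain ⟨cB, hcB⟩ : ∃ a, (dS.idx 1 (πS b₁)).comp eW.toMonoidHom = dT.idx a 1 := by
    obtain ⟨⟨a, c⟩, hac⟩ := dT.idx_bijective.2 ((dS.idx 1 (πS b₁)).comp eW.toMonoidHom)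
    refine ⟨a, ?_⟩
    rw [← hac]
    suffices hc1 : c = 1 by rw [hc1]
    ext y
    let w : ↥(W₂ ⊔ W₁) := ⟨((y : T) : G), Subgroup.mem_sup_right (Subgroup.mem_subgroupOf.mp y.2)⟩
    have e := DFunLike.congr_fun hac w
    have h1 : (dS.idx 1 (πS b₁)).comp eW.toMonoidHom w = 1 := dS.idx_apply₁ _ (w := eW w) (Subgroup.mem_subgroupOf.mp y.2)
    simp only [h1] at e
    rw [IsPrimeDade.idx_apply, dT.ti.row_apply₂ a (w := dT.wEquiv.symm w) y.2,
      dT.ti.col_apply₂ c (w := dT.wEquiv.symm w) y.2, one_mul] at e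
    exact congrArg Units.val e
  have hq := h.q_prime imp
  have hp := h.p_prime imp
  have hpodd := h.p_odd imp
  obtain ⟨-, -, hqu, hule, -⟩ := h.u_facts imp
  obtain ⟨-, -, -, hvle, -⟩ := h.swap.u_facts imp
  have hgen : ∀ ω, IsGeneralizedCharacter G (χ ω) := cycFamily_signed hcS.fam
  refine IneqData.bound (S := S) (T := T) (H := fittingOf S) (K := fittingOf T) (P := fittingHallOf S)
    (Q := fittingHallOf T) (v := (sideC T V).relIndex V) (i₀ := i₀)
    (A := fun i : {a : W₁.subgroupOf S →* ℂˣ // a ≠ 1} => χ (dS.idx i.1 1))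
    (B := χ (dS.idx 1 (πS b₁))) (D := τS (indF ψ₀)) (ε := εS) (a := εT) (O := O) (OK := OK) ?_
  exact
    { hp := hp.two_le
      hq := hq
      hq3 := by have := h.q_odd imp; have := hq.two_le; obtain ⟨k, hk⟩ := h.q_odd imp; omega
      card_ι := by
        rw [Fintype.card_subtype, Finset.filter_ne', Finset.card_erase_of_mem (Finset.mem_univ _), Finset.card_univ,
          dS.ti.card_hom₁, dS.card₁]
      tiH := h.isTIIn_fitting imp
      tiK := h.swap.isTIIn_fitting imp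
      disj := h.disjoint_conjSpan imp
      commH := (h.fitting_eq imp).2
      commK := (h.swap.fitting_eq imp).2
      leH := h.P_le_fitting imp
      leK := h.swap.P_le_fitting imp
      cardP := h.card_P imp
      cardQ := h.swap.card_P imp
      cardH := h.card_fitting imp
      cardS := h.card_S imp
      cardT := by rw [h.swap.card_S imp]; ring
      posu := by omega
      posv := by have := (h.swap.u_facts imp).2.2.1; omega
      posc := Nat.card_pos
      u_le := by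
        have h1 := geom_mul_pred (p := Nat.card W₂) (q := Nat.card W₁) hp.one_le
        have h2 : 2 ≤ Nat.card W₂ - 1 := by obtain ⟨k, hk⟩ := hpodd; have := hp.two_le; omega
        have h3 := Nat.mul_le_mul_left (geom (Nat.card W₂) (Nat.card W₁)) h2
        omega
      v_le := hvle
      eps := hcS.eps
      sign := hcT.eps
      genA := fun i => hgen _
      genB := hgen _
      genD := hcS.iso.2.2.2 _ (h.indF_mem imp dS hψ₀)
      normA := by rw [hcS.fam.orthonormal, if_pos rfl]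
      normD := by
        rw [hcS.iso.2.2.1 _ (h.indF_mem imp dS hψ₀) _ (h.indF_mem imp dS hψ₀), hindF, classInner_irr_self hlam]
      galA := fun i => by
        obtain ⟨⟨y, hy⟩, hy1⟩ := Subgroup.ne_bot_iff_exists_ne_one.mp dS.ti.ne_bot₁
        haveI := Fact.mk (dS.card₁.symm ▸ hq : (Nat.card (W₁.subgroupOf S)).Prime)
        have hz := zpowers_eq_top_of_prime_card (p := Nat.card (W₁.subgroupOf S)) rfl hy1
        have hpow : ∀ a : W₁.subgroupOf S →* ℂˣ, ((a ⟨y, hy⟩ : ℂˣ) : ℂ) ^ Nat.card W₁ = 1 := fun a => by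
          rw [← Units.val_pow_eq_pow_val, ← map_pow, ← dS.card₁, pow_card_eq_one', map_one, Units.val_one]
        have hprim : IsPrimitiveRoot ((i₀.1 ⟨y, hy⟩ : ℂˣ) : ℂ) (Nat.card W₁) := by
          rw [IsPrimitiveRoot.iff_orderOf]
          haveI := Fact.mk hq
          refine orderOf_eq_prime (hpow _) fun e => i₀.2 (MonoidHom.ext fun z => ?_)
          obtain ⟨n, hn⟩ := Subgroup.mem_zpowers_iff.mp (show z ∈ _ by rw [hz]; trivial)
          rw [← hn, map_zpow, show i₀.1 ⟨y, hy⟩ = 1 from Units.ext e, one_zpow, MonoidHom.one_apply]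
        obtain ⟨m, hmlt, hm⟩ := hprim.eq_pow_of_pow_eq_one (hpow i.1)
        have hm0 : m ≠ 0 := fun e => i.2 (MonoidHom.ext fun z => by
          obtain ⟨n, hn⟩ := Subgroup.mem_zpowers_iff.mp (show z ∈ _ by rw [hz]; trivial)
          rw [← hn, map_zpow, Units.ext (by rw [← hm, e, pow_zero]; rfl : ((i.1 ⟨y, hy⟩ : ℂˣ) : ℂ) = (1 : ℂˣ)),
            one_zpow, MonoidHom.one_apply])
        obtain ⟨σ, hσ⟩ := CfsgLib.Blocks.ComplexAut.exists_aut_pow hq.ne_zero
          ((Nat.coprime_of_lt_prime hm0 hmlt hq).symm)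
        refine ⟨σ, fun g => ?_⟩
        rw [show i.1 = wLinMap σ i₀.1 from MonoidHom.ext fun z => by
          obtain ⟨n, hn⟩ := Subgroup.mem_zpowers_iff.mp (show z ∈ _ by rw [hz]; trivial)
          rw [← hn, map_zpow, map_zpow]
          congr 1
          refine Units.ext ?_
          rw [wLinMap_apply, hσ _ (hpow _), hm]]
        rw [show dS.idx (wLinMap σ i₀.1) 1 = wLinMap σ (dS.idx i₀.1 1) from MonoidHom.ext fun w => Units.ext (by
          simp [wLinMap_apply, IsPrimeDade.idx_apply, IsPrimeTI.col_one, IsPrimeTI.row_apply])]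
        exact (congrFun (cycFamily_galois hW dS.oddW hcS.fam σ _) g).symm
      rel := fun g hg1 hgS => by
        by_cases hgV : ∀ k : G, ∀ w ∈ W₁ ⊔ W₂, w ∉ W₁ → w ∉ W₂ → g ≠ k * w * k⁻¹
        · exact Or.inr ((h.member_relation imp dS hcS hψ₀ hb₁ hgV).1 hgS)
        · push Not at hgV
          obtain ⟨k, w, hw, hw1, hw2, rfl⟩ := hgV
          refine Or.inl ⟨fun i => ?_, fun hT => ?_⟩
          · rw [(isGenChar_iff_coeff_int.mp (hgen _)).1 w k, hcS.fam.eq_on _ ⟨w, hw⟩ hw1 hw2]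
            exact Units.ne_zero _
          · obtain ⟨e, he⟩ := exists_prod_equiv hW.2.2.1 hW.2.2.2.1
            obtain ⟨⟨a, b⟩, hab⟩ := e.surjective ⟨w, hw⟩
            have hwab : w = (a : G) * b := (congrArg Subtype.val hab).symm.trans (he (a, b))
            obtain ⟨-, l, y, hy, ey⟩ := mem_conjSpan.mp hT
            refine h.swap.order_V_not_dvd imp (a := (b : G)) (b := (a : G)) b.2 (fun e' => hw1 ?_) a.2
              (fun e' => hw2 ?_) (l⁻¹ * k) ?_
            · rw [hwab, e', mul_one]; exact a.2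
            · rw [hwab, e', one_mul]; exact b.2
            · rw [← hW.2.2.2.1 a a.2 b b.2, ← hwab,
                show l⁻¹ * k * w * (l⁻¹ * k)⁻¹ = l⁻¹ * (k * w * k⁻¹) * l by group, ey]
              simpa [mul_assoc] using hy
      relH := fun x hx => by
        have hgV : ∀ k : G, ∀ w ∈ W₁ ⊔ W₂, w ∉ W₁ → w ∉ W₂ → (x : G) ≠ k * w * k⁻¹ := by
          intro k w hw hw1 hw2 e
          obtain ⟨e', he⟩ := exists_prod_equiv hW.2.2.1 hW.2.2.2.1
          obtain ⟨⟨a, b⟩, hab⟩ := e'.surjective ⟨w, hw⟩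
          have hwab : w = (a : G) * b := (congrArg Subtype.val hab).symm.trans (he (a, b))
          exact h.order_V_not_dvd imp a.2 (fun e2 => hw2 (by rw [hwab, e2, one_mul]; exact b.2)) b.2
            (fun e2 => hw1 (by rw [hwab, e2, mul_one]; exact a.2)) k (by rw [← hwab, ← e]; exact x.2)
        refine ⟨dS.ti.colChar b₁ (h.jK imp x),
          isIntegral_of_genChar (isGenChar_of_char (isCharacter_of_irr (dS.ti.isIrr_colChar b₁))) _, ?_⟩
        have := (h.member_relation imp dS hcS hψ₀ hb₁ hgV).2 x hx rfl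
        rw [show indF ψ₀ (inclS S x) = ∑ ψ ∈ O, (ψ x : ℂ) by rw [hindF]; exact hlamval x] at this
        exact this
      cardO := hOc
      edgeO := ⟨fun φ hφ => by
        obtain ⟨z, hz, hz1⟩ := hO' φ hφ
        exact ⟨z, Subgroup.mem_subgroupOf.mpr hz, hz1⟩⟩
      coefHA := hasCoef_of_induced (isGenChar_iff_coeff_int.mp (hgen _)).1 fun ψ φ hψ hφ => by
        rw [h.classInner_indFun_sub imp dS hcS _ hψ hφ, h.classInner_family_indF imp dS hcS _ hψ,
          h.classInner_family_indF imp dS hcS _ hφ]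
        have hemp : {b | b ≠ 1 ∧ ∃ a, dS.idx a (πS b) = dS.idx i₀.1 1} = (∅ : Set _) :=
          Set.eq_empty_of_forall_notMem fun b hb => by
            obtain ⟨hb1, a, ha⟩ := hb
            exact hcS.ne_one b hb1 (dS.idx_eq_iff.mp ha).2
        simp [hemp]
      coefHD := hasCoef_of_induced (isGenChar_iff_coeff_int.mp (hcS.iso.2.2.2 _ (h.indF_mem imp dS hψ₀))).1
        fun ψ φ hψ hφ => by
          rw [h.classInner_indFun_sub imp dS hcS _ hψ hφ,
            hcS.iso.2.2.1 _ (h.indF_mem imp dS hψ₀) _ (h.indF_mem imp dS hψ),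
            hcS.iso.2.2.1 _ (h.indF_mem imp dS hψ₀) _ (h.indF_mem imp dS hφ), hindF,
            ← classInner_comm (indF ψ) lam, ← classInner_comm (indF φ) lam,
            indF_classInner ψ (isClassFunction_irr hlam), indF_classInner φ (isClassFunction_irr hlam),
            classInner_comm, classInner_comm, funext hlamval, classInner_linear_sum, classInner_linear_sum]
          simp
      congrP := by
        obtain ⟨⟨y, hy⟩, hy1⟩ := Subgroup.ne_bot_iff_exists_ne_one.mp dS.ti.ne_bot₁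
        obtain ⟨⟨z, hz⟩, hz1⟩ := Subgroup.ne_bot_iff_exists_ne_one.mp dd.W2_ne
        have hzF : z ∈ fittingOf S := h.P_le_fitting imp (dd.W2_le hz)
        have hyW : (y : G) ∈ W₁ := Subgroup.mem_subgroupOf.mp hy
        have hy1' : (y : G) ≠ 1 := fun e => hy1 (Subtype.ext (Subtype.ext e))
        have hz1' : z ≠ 1 := fun e => hz1 (Subtype.ext e)
        refine ⟨⟨z, hzF⟩, dd.W2_le hz, fun e => hz1' (congrArg Subtype.val e), ?_⟩
        obtain ⟨h1, h2⟩ := mul_notMem_of_ne_one hW.2.2.1 hyW hy1' hz hz1'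
        have hζ0 := Complex.isPrimitiveRoot_exp (Nat.card W₁) hq.ne_zero
        set ζ := Complex.exp (2 * Real.pi * Complex.I / (Nat.card W₁))
        have hy' : (y : G) ^ Nat.card W₁ = 1 := congrArg Subtype.val (pow_card_eq_one' (x := (⟨(y : G), hyW⟩ : W₁)))
        obtain ⟨ω, hω, he⟩ := value_congr_one_sub_root (hgen (dS.idx i₀.1 1)) hq hζ0 hy'
          (hW.2.2.2.1 (y : G) hyW z hz)
        have hval : χ (dS.idx i₀.1 1) ((y : G) * z) = (dS.idx i₀.1 1
            ⟨(y : G), Subgroup.mem_sup_left hyW⟩ : ℂ) := by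
          refine (hcS.fam.eq_on (dS.idx i₀.1 1)
            (⟨(y : G), Subgroup.mem_sup_left hyW⟩ * ⟨z, Subgroup.mem_sup_right hz⟩) h1 h2).trans ?_
          rw [map_mul, dS.idx_apply₂ i₀.1 (w := ⟨z, Subgroup.mem_sup_right hz⟩) hz, mul_one]
        set v := (dS.idx i₀.1 1 ⟨(y : G), Subgroup.mem_sup_left hyW⟩ : ℂ)
        have hv : v ^ Nat.card W₁ = 1 := by
          rw [show v = ((dS.idx i₀.1 1 ⟨(y : G), Subgroup.mem_sup_left hyW⟩ : ℂˣ) : ℂ) from rfl,
            ← Units.val_pow_eq_pow_val, ← map_pow,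
            show (⟨(y : G), Subgroup.mem_sup_left hyW⟩ : ↥(W₁ ⊔ W₂)) ^ Nat.card W₁ = 1 from
              Subtype.ext (by rw [SubmonoidClass.coe_pow]; exact hy'), map_one, Units.val_one]
        obtain ⟨k, -, hk⟩ := hζ0.eq_pow_of_pow_eq_one hv
        haveI : NeZero (Nat.card W₁) := ⟨hq.ne_zero⟩
        have hζi : IsIntegral ℤ ζ := hζ0.isIntegral hq.pos
        refine ⟨ζ, -ω - ∑ j ∈ Finset.range k, ζ ^ j, hζ0, hω.neg.sub (IsIntegral.sum _ fun j _ => hζi.pow j), ?_⟩
        have hgs : (1 - ζ) * ∑ j ∈ Finset.range k, ζ ^ j = 1 - ζ ^ k := mul_neg_geom_sum ζ k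
        show χ (dS.idx i₀.1 1) z - 1 = _
        rw [hval, ← hk] at he
        linear_combination hgs - he
      cardOK := fun i => hOKc i
      disjOK := fun i j hij => Finset.disjoint_left.mpr fun φ hi hj => hij (by
        have e : bT j = bT i := hOKd i φ hi (bT j) (by rw [hOKcoef, if_pos hj]; exact one_ne_zero)
        have e2 : cT j = cT i := by rw [← (hbT j).2, ← (hbT i).2, e]
        have e3 : dS.idx j.1 1 = dS.idx i.1 1 := MonoidHom.ext fun w => by
          have := DFunLike.congr_fun ((hcTe j).trans (e2 ▸ (hcTe i).symm)) (eW.symm w)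
          simpa [ω'] using this
        exact Subtype.ext (dS.idx_eq_iff.mp e3).1.symm)
      edgeOK := ⟨fun φ hφ => by
        obtain ⟨i, -, hi⟩ := Finset.mem_biUnion.mp hφ
        obtain ⟨z, hz, hz1⟩ := hOKn i φ hi
        exact ⟨z, Subgroup.mem_subgroupOf.mpr hz, hz1⟩⟩
      coefKA := fun i => hasCoef_of_induced (isGenChar_iff_coeff_int.mp (hgen _)).1 fun ψ φ hψ hφ => by
        show classInner (χ (dS.idx i.1 1)) _ - classInner (χ (dS.idx i.1 1)) _ = _
        rw [hfam, h.swap.classInner_indFun_sub imp dT hcT _ hψ hφ, h.swap.classInner_family_indF imp dT hcT _ hψ,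
          h.swap.classInner_family_indF imp dT hcT _ hφ]
        have hset : {b | b ≠ 1 ∧ ∃ a, dT.idx a (πT b) = ω' i} = ({bT i} : Set _) := by
          ext b
          refine ⟨fun ⟨hb, a, ha⟩ => hbTu i b hb (hidx₁ ha).2, fun hb => ?_⟩
          rw [Set.mem_singleton_iff.mp hb]
          exact ⟨(hbT i).1, 1, by rw [(hbT i).2, hcTe i]⟩
        rw [hset, finsum_mem_singleton, finsum_mem_singleton, hOKcoef, hOKcoef]
        simp
      coefKB := hasCoef_of_induced (isGenChar_iff_coeff_int.mp (hgen _)).1 fun ψ φ hψ hφ => by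
        rw [← family_swap hW dS.oddW hcS.fam hcT.fam, h.swap.classInner_indFun_sub imp dT hcT _ hψ hφ,
          h.swap.classInner_family_indF imp dT hcT _ hψ, h.swap.classInner_family_indF imp dT hcT _ hφ, hcB]
        have hemp : {b | b ≠ 1 ∧ ∃ a, dT.idx a (πT b) = dT.idx cB 1} = (∅ : Set _) :=
          Set.eq_empty_of_forall_notMem fun b hb => by
            obtain ⟨hb1, a, ha⟩ := hb
            exact hcT.ne_one b hb1 (dT.idx_eq_iff.mp ha).2
        simp [hemp] }

end FTPair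

end CfsgLib.OddOrder.S13
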