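import Mathlib

/-!
Peterfalvi section 13: the arithmetic behind (13.10) to (13.19), see `blueprint/ft/S13.md`.
-/

set_option autoImplicit false

namespace CfsgLib.OddOrder.S13

open Finset

/-- `1 + p + ... + p ^ (q - 1)`. -/
def geom (p q : ℕ) : ℕ := ∑ i ∈ range q, p ^ i

theorem geom_eq_div {p q : ℕ} (hp : 2 ≤ p) : geom p q = (p ^ q - 1) / (p - 1) := Nat.geomSum_eq hp q

theorem geom_mul_pred {p q : ℕ} (hp : 1 ≤ p) : geom p q * (p - 1) + 1 = p ^ q := by
  obtain ⟨k, rfl⟩ := Nat.exists_eq_add_of_le hp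
  rw [Nat.add_sub_cancel_left, add_comm 1 k]
  exact geom_sum_mul_add k q

theorem pow_pred_le_geom {p q : ℕ} (hq : 1 ≤ q) : p ^ (q - 1) ≤ geom p q :=
  Finset.single_le_sum (f := fun i => p ^ i) (fun _ _ => Nat.zero_le _) (mem_range.mpr (by omega))

theorem geom_pos {p q : ℕ} (hq : 1 ≤ q) : 0 < geom p q := by
  have : p ^ 0 ≤ geom p q :=
    Finset.single_le_sum (f := fun i => p ^ i) (fun _ _ => Nat.zero_le _) (mem_range.mpr (by omega))
  simpa using lt_of_lt_of_le (by simp) this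

theorem geom_odd {p q : ℕ} (hp : Odd p) (hq : Odd q) : Odd (geom p q) := by
  rw [geom, Nat.odd_iff, sum_nat_mod, sum_congr rfl (fun i _ => Nat.odd_iff.mp (hp.pow (n := i))), sum_const,
    card_range, smul_eq_mul, mul_one]
  exact Nat.odd_iff.mp hq

/-- A prime divisor of the geometric sum is `q` or is `1` modulo `q`. -/
theorem geom_prime_dvd {p q r : ℕ} (hp : p.Prime) (hq : q.Prime) (hr : r.Prime) (h : r ∣ geom p q)
    (hne : r ≠ q) : r % q = 1 := by
  haveI := Fact.mk hr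
  haveI := Fact.mk hq
  have h0 : ((geom p q : ℕ) : ZMod r) = 0 := (ZMod.natCast_eq_zero_iff _ _).mpr h
  rw [geom] at h0
  push_cast at h0
  have h1 : (p : ZMod r) ≠ 1 := fun e => by
    rw [e] at h0
    simp only [one_pow, sum_const, card_range, nsmul_eq_mul, mul_one] at h0
    exact hne ((Nat.prime_dvd_prime_iff_eq hr hq).mp ((ZMod.natCast_eq_zero_iff _ _).mp h0))
  have h2 : (p : ZMod r) ^ q = 1 := by
    have := geom_sum_mul (p : ZMod r) q
    rw [h0, zero_mul, eq_comm, sub_eq_zero] at this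
    exact this
  have h3 : (p : ZMod r) ≠ 0 := fun e => by rw [e, zero_pow hq.ne_zero] at h2; exact zero_ne_one h2
  have h4 : q ∣ r - 1 := orderOf_eq_prime h2 h1 ▸ orderOf_dvd_of_pow_eq_one (ZMod.pow_card_sub_one_eq_one h3)
  rw [← (Nat.modEq_iff_dvd' hr.one_lt.le).mpr h4, Nat.mod_eq_of_lt hq.one_lt]

theorem sq_not_dvd_geom {p q : ℕ} (hq : q.Prime) (hq2 : q ≠ 2) : ¬ q ^ 2 ∣ geom p q := by
  intro h
  haveI := Fact.mk hq
  have h0 : ((geom p q : ℕ) : ZMod q) = 0 :=
    (ZMod.natCast_eq_zero_iff _ _).mpr ((dvd_pow_self q two_ne_zero).trans h)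
  have hp1 : (p : ZMod q) = 1 := by
    rw [geom] at h0
    push_cast at h0
    have := geom_sum_mul (p : ZMod q) q
    rw [h0, zero_mul, ZMod.pow_card, eq_comm, sub_eq_zero] at this
    exact this
  obtain ⟨b, hb⟩ : (q : ℤ) ∣ (p : ℤ) - 1 := by
    rw [← ZMod.intCast_zmod_eq_zero_iff_dvd]
    push_cast
    rw [hp1, sub_self]
  have h1 := odd_sq_dvd_geom_sum₂_sub (R := ℤ) (hq.odd_of_ne_two hq2) (a := 1) (b := b)
  simp only [one_pow, mul_one, ← hb, add_sub_cancel] at h1
  have h2 : (q : ℤ) ^ 2 ∣ ∑ i ∈ range q, (p : ℤ) ^ i := by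
    have := Int.natCast_dvd_natCast.mpr h
    rw [geom] at this
    push_cast at this
    exact this
  have h3 : (q : ℤ) ^ 2 ∣ (q : ℤ) := by
    have := dvd_sub h2 h1
    rwa [sub_sub_cancel] at this
  have h4 := Int.le_of_dvd (by exact_mod_cast hq.pos) h3
  have : (2 : ℤ) ≤ q := by exact_mod_cast hq.two_le
  nlinarith

/-- The cofactor of a divisor of the geometric sum other than `1` and `q` is at least `2 q + 1`. -/
theorem cofactor_large {p q k : ℕ} (hp : p.Prime) (hp2 : p ≠ 2) (hq : q.Prime) (hq2 : q ≠ 2)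
    (hk : k ∣ geom p q) (h1 : k ≠ 1) (h2 : k ≠ q) : 2 * q + 1 ≤ k := by
  have hodd : Odd k := (geom_odd (hp.odd_of_ne_two hp2) (hq.odd_of_ne_two hq2)).of_dvd_nat hk
  suffices ∃ r : ℕ, r ∣ k ∧ r % q = 1 ∧ r ≠ 1 by
    obtain ⟨r, hr, hr1, hr2⟩ := this
    have hro : Odd r := hodd.of_dvd_nat hr
    refine le_trans ?_ (Nat.le_of_dvd hodd.pos hr)
    have := Nat.div_add_mod r q
    rw [hr1] at this
    rcases (r / q).lt_trichotomy 1 with h | h | h
    · have h0 : r / q = 0 := Nat.lt_one_iff.mp h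
      rw [h0, mul_zero, zero_add] at this
      exact absurd this.symm hr2
    · rw [h, mul_one] at this
      have hqo := Nat.odd_iff.mp (hq.odd_of_ne_two hq2)
      rw [Nat.odd_iff] at hro
      omega
    · have := Nat.mul_le_mul_left q (show 2 ≤ r / q by omega)
      omega
  by_cases hex : ∃ r : ℕ, r.Prime ∧ r ∣ k ∧ r ≠ q
  · obtain ⟨r, hr, hrk, hrq⟩ := hex
    exact ⟨r, hrk, geom_prime_dvd hp hq hr (hrk.trans hk) hrq, hr.ne_one⟩
  exfalso
  push Not at hex
  have := Nat.eq_prime_pow_of_unique_prime_dvd hodd.pos.ne' fun {d} hd hdk => hex d hd hdk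
  generalize k.primeFactorsList.length = e at this
  rcases e with _ | _ | e
  · exact h1 (by simpa using this)
  · exact h2 (by simpa using this)
  · exact sq_not_dvd_geom hq hq2 ((pow_dvd_pow q (by omega : 2 ≤ e + 1 + 1)).trans (this ▸ hk))

/-- The constant of (13.10). -/
noncomputable def mBound (p q : ℕ) : ℝ :=
  1 - (1 - 1 / (q : ℝ) ^ p) / ((q : ℝ) - 1) - ((q : ℝ) - 1) / (q : ℝ) ^ p

theorem mBound_ge {p q k : ℕ} (hq : 2 ≤ q) (hk : k ≤ p) :
    1 - 1 / ((q : ℝ) - 1) - ((q : ℝ) - 1) / (q : ℝ) ^ k ≤ mBound p q := by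
  have hq' : (2 : ℝ) ≤ q := by exact_mod_cast hq
  have h1 : (0 : ℝ) < (q : ℝ) ^ k := pow_pos (by linarith) k
  have h2 : (q : ℝ) ^ k ≤ (q : ℝ) ^ p := pow_le_pow_right₀ (by linarith) hk
  have h3 : ((q : ℝ) - 1) / (q : ℝ) ^ p ≤ ((q : ℝ) - 1) / (q : ℝ) ^ k :=
    div_le_div_of_nonneg_left (by linarith) h1 h2
  have h4 : (1 - 1 / (q : ℝ) ^ p) / ((q : ℝ) - 1) ≤ 1 / ((q : ℝ) - 1) := by
    gcongr
    · linarith
    · have : (0 : ℝ) ≤ 1 / (q : ℝ) ^ p := by positivity
      linarith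
  unfold mBound
  linarith

theorem mBound_five {p : ℕ} (hp : 3 ≤ p) : (718 : ℝ) / 1000 ≤ mBound p 5 := by
  refine le_trans ?_ (mBound_ge (k := 3) (by norm_num) hp)
  norm_num

theorem mBound_seven {p q : ℕ} (hq : 7 ≤ q) (hp : 3 ≤ p) : (8 : ℝ) / 10 ≤ mBound p q := by
  refine le_trans ?_ (mBound_ge (k := 3) (by omega) hp)
  have hq' : (7 : ℝ) ≤ q := by exact_mod_cast hq
  have h1 : 1 / ((q : ℝ) - 1) ≤ 1 / 6 := one_div_le_one_div_of_le (by norm_num) (by linarith)
  have h2 : ((q : ℝ) - 1) / (q : ℝ) ^ 3 ≤ 1 / 49 := by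
    rw [div_le_div_iff₀ (by positivity) (by norm_num)]
    nlinarith [mul_nonneg (show (0 : ℝ) ≤ q by linarith) (mul_nonneg (show (0 : ℝ) ≤ q by linarith)
      (show (0 : ℝ) ≤ (q : ℝ) - 7 by linarith))]
  linarith

theorem mBound_three {p : ℕ} (hp : 5 ≤ p) :
    (49 : ℝ) / 100 ≤ mBound p 3 ∧ (7 ≤ p → (499 : ℝ) / 1000 ≤ mBound p 3) := by
  have e : mBound p 3 = 1 / 2 - 3 / 2 * (1 / (3 : ℝ) ^ p) := by
    unfold mBound; push_cast; ring
  have hb : ∀ k, k ≤ p → 1 / (3 : ℝ) ^ p ≤ 1 / (3 : ℝ) ^ k := fun k hk =>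
    one_div_le_one_div_of_le (pow_pos (by norm_num) k) (pow_le_pow_right₀ (by norm_num) hk)
  refine ⟨?_, fun h7 => ?_⟩
  · have := hb 5 hp
    norm_num at this ⊢
    rw [e, one_div ((3 : ℝ) ^ p)]
    linarith
  · have := hb 7 h7
    norm_num at this ⊢
    rw [e, one_div ((3 : ℝ) ^ p)]
    linarith

/-- `mBound` beats `1 / 2` once the exponent is at least five. -/
theorem mBound_large {p q : ℕ} (hq : q.Prime) (h5 : 5 ≤ q) (hp : 3 ≤ p) : (718 : ℝ) / 1000 ≤ mBound p q := by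
  rcases lt_or_ge q 7 with h | h
  · interval_cases q
    · exact mBound_five hp
    · exact absurd hq (by norm_num)
  · exact le_trans (by norm_num) (mBound_seven h hp)

theorem prime_cases {q : ℕ} (hq : q.Prime) (hq2 : q ≠ 2) : q = 3 ∨ q = 5 ∨ 7 ≤ q := by
  have := hq.two_le
  by_contra h
  have h6 : q ≤ 6 := by omega
  interval_cases q <;> first | omega | exact absurd hq (by norm_num)

/-- (13.11) in the irreducible case. -/
theorem values_galois {p q u c : ℕ} (hp : p.Prime) (hp2 : p ≠ 2) (hq : q.Prime) (hq2 : q ≠ 2) (hpq : p ≠ q)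
    (hu : u ∣ geom p q) (huq : ¬ q ∣ u) (hu1 : 1 < u) (hc : c = 1 ∨ (2 * q + 1 ≤ c ∧ c % q = 1 ∧ Odd c))
    (hineq : mBound p q * (p : ℝ) ^ (q - 1) * c < q * u) :
    (c = 1 ∧ (u = geom p q ∨ q * u = geom p q)) ∨ (p = 5 ∧ q = 3 ∧ c = 7 ∧ u = 31) := by
  by_cases hgood : c = 1 ∧ (u = geom p q ∨ q * u = geom p q)
  · exact Or.inl hgood
  right
  have hN := geom_pos (p := p) hq.one_le
  obtain ⟨k, hk⟩ := hu
  have hkey : u * (2 * q + 1) ≤ geom p q * c := by
    rcases hc with rfl | ⟨hc, -⟩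
    · have hk1 : k ≠ 1 := fun e => hgood ⟨rfl, Or.inl (by rw [hk, e, mul_one])⟩
      have hk2 : k ≠ q := fun e => hgood ⟨rfl, Or.inr (by rw [hk, e, mul_comm])⟩
      rw [mul_one, hk]
      exact Nat.mul_le_mul_left u (cofactor_large hp hp2 hq hq2 (hk ▸ dvd_mul_left k u) hk1 hk2)
    · exact Nat.mul_le_mul (Nat.le_of_dvd hN (hk ▸ dvd_mul_right u k)) hc
  have hp3 : 3 ≤ p := by have := hp.two_le; omega
  have hc1 : 1 ≤ c := by rcases hc with rfl | ⟨h, -⟩ <;> omega
  -- the general bound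
  have hgen : mBound p q * (2 * q + 1) * ((p : ℝ) - 1) < q * p := by
    have hu' : (u : ℝ) * (2 * q + 1) ≤ geom p q * c := by exact_mod_cast hkey
    have hg : (geom p q : ℝ) * ((p : ℝ) - 1) + 1 = (p : ℝ) ^ (q - 1) * p := by
      have := congrArg (fun n : ℕ => (n : ℝ)) (geom_mul_pred (p := p) (q := q) hp.one_le)
      rw [← pow_succ, Nat.sub_add_cancel hq.one_le]
      push_cast [hp.one_le] at this
      exact this
    have hpq' : (0 : ℝ) < (p : ℝ) ^ (q - 1) := pow_pos (by exact_mod_cast hp.pos) _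
    have hq' : (2 : ℝ) ≤ q := by exact_mod_cast hq.two_le
    have hc' : (1 : ℝ) ≤ c := by exact_mod_cast hc1
    have hp' : (3 : ℝ) ≤ p := by exact_mod_cast hp3
    have h1 : mBound p q * (p : ℝ) ^ (q - 1) * c * (2 * q + 1) < q * (geom p q * c) :=
      (mul_lt_mul_of_pos_right hineq (by linarith)).trans_le (by rw [mul_assoc]; gcongr)
    have h2 : mBound p q * (p : ℝ) ^ (q - 1) * (2 * q + 1) < q * geom p q := by
      refine lt_of_mul_lt_mul_right ?_ (show (0 : ℝ) ≤ c by linarith)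
      calc mBound p q * (p : ℝ) ^ (q - 1) * (2 * q + 1) * c
          = mBound p q * (p : ℝ) ^ (q - 1) * c * (2 * q + 1) := by ring
        _ < q * (geom p q * c) := h1
        _ = q * geom p q * c := by ring
    refine lt_of_mul_lt_mul_right (a := (p : ℝ) ^ (q - 1)) ?_ hpq'.le
    calc mBound p q * (2 * q + 1) * ((p : ℝ) - 1) * (p : ℝ) ^ (q - 1)
        = mBound p q * (p : ℝ) ^ (q - 1) * (2 * q + 1) * ((p : ℝ) - 1) := by ring
      _ < q * geom p q * ((p : ℝ) - 1) := mul_lt_mul_of_pos_right h2 (by linarith)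
      _ = q * (geom p q * ((p : ℝ) - 1)) := by ring
      _ ≤ q * ((p : ℝ) ^ (q - 1) * p) := mul_le_mul_of_nonneg_left (by linarith) (by linarith)
      _ = q * p * (p : ℝ) ^ (q - 1) := by ring
  rcases prime_cases hq hq2 with rfl | rfl | hq7
  · -- q = 3
    have h5 : 5 ≤ p := by
      rcases prime_cases hp hp2 with h | h | h <;> omega
    obtain ⟨hm, hm7⟩ := mBound_three h5
    rcases lt_or_ge p 11 with hlt | hge
    · have hp57 : p = 5 ∨ p = 7 := by
        rcases prime_cases hp hp2 with h | h | h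
        · omega
        · omega
        · rcases (show p = 7 ∨ p = 8 ∨ p = 9 ∨ p = 10 by omega) with h | h | h | h <;>
            first | omega | (subst h; exact absurd hp (by norm_num))
      rcases hp57 with rfl | rfl
      · have hg : geom 5 3 = 31 := by decide
        rw [hg] at hk hgood
        have hu31 : u = 31 := by
          rcases (Nat.dvd_prime (by norm_num : (31 : ℕ).Prime)).mp (hk ▸ dvd_mul_right u k) with h | h
          · omega
          · exact h
        subst hu31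
        rcases hc with rfl | ⟨hc7, hcm, hco⟩
        · exact absurd ⟨rfl, Or.inl rfl⟩ hgood
        · refine ⟨rfl, rfl, ?_, rfl⟩
          have h7 : (c : ℝ) < 8 := by norm_num at hineq; nlinarith
          have : c < 8 := by exact_mod_cast h7
          omega
      · exfalso
        have hg : geom 7 3 = 57 := by decide
        rw [hg] at hk hgood
        have hu19 : u = 19 := by
          have hd : u ∣ 57 := hk ▸ dvd_mul_right u k
          have := Nat.le_of_dvd (by norm_num) hd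
          interval_cases u <;> omega
        subst hu19
        rcases hc with rfl | ⟨hc7, -, -⟩
        · exact hgood ⟨rfl, Or.inr rfl⟩
        · have h7 : (7 : ℝ) ≤ c := by exact_mod_cast hc7
          have := hm7 le_rfl
          norm_num at hineq
          nlinarith
    · exfalso
      have := hm7 (by omega)
      have hp' : (11 : ℝ) ≤ p := by exact_mod_cast hge
      push_cast at hgen
      nlinarith
  · exfalso
    have := mBound_five hp3
    have hp' : (3 : ℝ) ≤ p := by exact_mod_cast hp3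
    push_cast at hgen
    nlinarith
  · exfalso
    have := mBound_seven hq7 hp3
    have hp' : (3 : ℝ) ≤ p := by exact_mod_cast hp3
    have hq' : (7 : ℝ) ≤ q := by exact_mod_cast hq7
    have h1 : (8 : ℝ) / 10 * (2 * q + 1) * ((p : ℝ) - 1) ≤ mBound p q * (2 * q + 1) * ((p : ℝ) - 1) := by
      gcongr
      · linarith
    nlinarith [mul_nonneg (show (0 : ℝ) ≤ q by linarith) (show (0 : ℝ) ≤ (p : ℝ) - 3 by linarith)]

/-- (13.11) in the reducible case. -/
theorem values_lines {p q u c a : ℕ} (hp : p.Prime) (hp2 : p ≠ 2) (hq : q.Prime) (hq2 : q ≠ 2) (hpq : p ≠ q)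
    (hu : u ∣ a ^ (q - 1)) (ha : 2 * a ∣ p - 1) (hc : 1 ≤ c)
    (hineq : mBound p q * (p : ℝ) ^ (q - 1) * c < q * u) : c = 1 ∧ q = 3 := by
  have hp3 : 3 ≤ p := by have := hp.two_le; omega
  have ha0 : 0 < a := Nat.pos_of_ne_zero fun e => by rw [e, mul_zero, zero_dvd_iff] at ha; omega
  have h2a : 2 * a ≤ p := by have := Nat.le_of_dvd (by omega) ha; omega
  have hu' : 2 ^ (q - 1) * u ≤ p ^ (q - 1) :=
    le_trans (Nat.mul_le_mul_left _ (Nat.le_of_dvd (pow_pos ha0 _) hu))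
      (by rw [← mul_pow]; exact Nat.pow_le_pow_left h2a _)
  have h' : (2 : ℝ) ^ (q - 1) * u ≤ (p : ℝ) ^ (q - 1) := by exact_mod_cast hu'
  have hP : (0 : ℝ) < (p : ℝ) ^ (q - 1) := pow_pos (by exact_mod_cast hp.pos) _
  have hc' : (1 : ℝ) ≤ c := by exact_mod_cast hc
  have hT : (0 : ℝ) < (2 : ℝ) ^ (q - 1) := pow_pos (by norm_num) _
  have key : mBound p q * c * (2 : ℝ) ^ (q - 1) < q := by
    refine lt_of_mul_lt_mul_right (a := (p : ℝ) ^ (q - 1)) ?_ hP.le
    calc mBound p q * c * (2 : ℝ) ^ (q - 1) * (p : ℝ) ^ (q - 1)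
        = mBound p q * (p : ℝ) ^ (q - 1) * c * (2 : ℝ) ^ (q - 1) := by ring
      _ < q * u * (2 : ℝ) ^ (q - 1) := mul_lt_mul_of_pos_right hineq hT
      _ = q * ((2 : ℝ) ^ (q - 1) * u) := by ring
      _ ≤ q * (p : ℝ) ^ (q - 1) := mul_le_mul_of_nonneg_left h' (by positivity)
  rcases prime_cases hq hq2 with rfl | hq5
  · refine ⟨?_, rfl⟩
    have := (mBound_three (p := p) (by rcases prime_cases hp hp2 with h | h | h <;> omega)).1
    norm_num at key
    have : (c : ℝ) < 2 := by nlinarith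
    have : c < 2 := by exact_mod_cast this
    omega
  · exfalso
    have h5 : 5 ≤ q := by omega
    have hm := mBound_large hq h5 hp3
    have h2 : 2 * q ≤ 2 ^ (q - 1) := by
      have : ∀ n, 5 ≤ n → 2 * n ≤ 2 ^ (n - 1) := by
        intro n hn
        induction n, hn using Nat.le_induction with
        | base => norm_num
        | succ n hn ih =>
          have e : n + 1 - 1 = n - 1 + 1 := by omega
          rw [e, pow_succ]
          omega
      exact this q h5
    have h2' : 2 * (q : ℝ) ≤ (2 : ℝ) ^ (q - 1) := by exact_mod_cast h2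
    have hq' : (5 : ℝ) ≤ q := by exact_mod_cast h5
    have : (718 : ℝ) / 1000 * 1 * (2 * q) ≤ mBound p q * c * (2 : ℝ) ^ (q - 1) :=
      mul_le_mul (mul_le_mul hm hc' zero_le_one (le_trans (by norm_num) hm)) h2' (by linarith)
        (mul_nonneg (le_trans (by norm_num) hm) (by linarith))
    linarith

/-- (13.12): the inequality of a reducible action has no solution. -/
theorem lines_impossible {p u a v : ℕ} (hp : 5 ≤ p) (ha : 2 * a ∣ p - 1) (hau : a ≤ u) (hu : 0 < u)
    (hv : 2 * p + 1 ≤ v) :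
    ¬ (1 / (p : ℝ) * (1 / 2 - 1 / (v : ℝ)) ≤ 3 * (a : ℝ) ^ 2 / ((p : ℝ) ^ 3 * u)) := by
  intro h
  have h2a : 2 * a ≤ p := by have := Nat.le_of_dvd (by omega) ha; omega
  have hp' : (5 : ℝ) ≤ p := by exact_mod_cast hp
  have hv' : (11 : ℝ) ≤ v := by exact_mod_cast (show 11 ≤ v by omega)
  have hau' : (a : ℝ) ≤ u := by exact_mod_cast hau
  have hu' : (1 : ℝ) ≤ u := by exact_mod_cast hu
  have h2a' : 2 * (a : ℝ) ≤ p := by exact_mod_cast h2a
  have h1 : 3 * (a : ℝ) ^ 2 / ((p : ℝ) ^ 3 * u) ≤ 3 / (2 * (p : ℝ) ^ 2) := by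
    rw [div_le_div_iff₀ (by positivity) (by positivity)]
    have : 2 * ((a : ℝ) * a) ≤ p * u := by
      calc 2 * ((a : ℝ) * a) = (2 * a) * a := by ring
        _ ≤ p * u := mul_le_mul h2a' hau' (by positivity) (by linarith)
    nlinarith [mul_nonneg (sq_nonneg (p : ℝ)) (sub_nonneg.mpr this)]
  have h2 : 1 / (p : ℝ) * (409 / 1000) ≤ 1 / (p : ℝ) * (1 / 2 - 1 / (v : ℝ)) := by
    gcongr
    have : 1 / (v : ℝ) ≤ 1 / 11 := one_div_le_one_div_of_le (by norm_num) hv'
    linarith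
  have h3 : 1 / (p : ℝ) * (409 / 1000) ≤ 3 / (2 * (p : ℝ) ^ 2) := h2.trans (h.trans h1)
  rw [div_mul_div_comm, one_mul, div_le_div_iff₀ (by positivity) (by positivity)] at h3
  nlinarith

/-- (13.19): the kernel of `L` is too large for a complement of order `q`. -/
theorem kernel_bound {p q u H : ℕ} (hp : p.Prime) (hq : q.Prime) (hq2 : q ≠ 2) (hqp : q < p) (hu : p ^ (q - 1) ≤ q * u)
    (hH : (2 * q + 1) * u ≤ H) : ¬ (mBound p q * (H : ℝ) < p * q) := by
  intro h
  have hp3 : 3 ≤ p := by have := hq.two_le; omega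
  have hq3 : 3 ≤ q := by have := hq.two_le; omega
  have hpow : p ≤ p ^ (q - 2) := Nat.le_self_pow (by omega) p
  have hu2 : p * p ^ (q - 2) ≤ q * u := by rwa [← pow_succ', show q - 2 + 1 = q - 1 by omega]
  have h2 : (2 * q + 1) * (p * p) ≤ q * H :=
    calc (2 * q + 1) * (p * p) ≤ (2 * q + 1) * (q * u) :=
          Nat.mul_le_mul_left _ ((Nat.mul_le_mul_left p hpow).trans hu2)
      _ = q * ((2 * q + 1) * u) := by ring
      _ ≤ q * H := Nat.mul_le_mul_left _ hH
  have h2' : (2 * (q : ℝ) + 1) * (p * p) ≤ q * H := by exact_mod_cast h2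
  have hp' : (q : ℝ) + 1 ≤ p := by exact_mod_cast hqp
  have hq' : (3 : ℝ) ≤ q := by exact_mod_cast hq3
  have hkey : ∀ μ : ℝ, 0 ≤ μ → μ ≤ mBound p q → μ * (2 * (q : ℝ) + 1) * p < (q : ℝ) ^ 2 := fun μ h0 hμ => by
    refine lt_of_mul_lt_mul_right (a := (p : ℝ)) ?_ (by linarith)
    calc μ * (2 * (q : ℝ) + 1) * p * p = μ * ((2 * (q : ℝ) + 1) * (p * p)) := by ring
      _ ≤ mBound p q * (q * H) := mul_le_mul hμ h2' (by positivity) (h0.trans hμ)
      _ = q * (mBound p q * H) := by ring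
      _ < q * (p * q) := mul_lt_mul_of_pos_left h (by linarith)
      _ = (q : ℝ) ^ 2 * p := by ring
  rcases lt_or_ge q 5 with h5 | h5
  · have hq33 : q = 3 := by
      rcases prime_cases hq hq2 with h | h | h <;> omega
    subst hq33
    have hp5 : 5 ≤ p := by
      rcases prime_cases hp (by omega) with h | h | h <;> omega
    have := hkey _ (by norm_num) (mBound_three hp5).1
    have hp5' : (5 : ℝ) ≤ p := by exact_mod_cast hp5
    norm_num at this
    linarith
  · have := hkey _ (by norm_num) (mBound_large hq h5 hp3)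
    nlinarith

end CfsgLib.OddOrder.S13
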