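import Cfsg.Agent.Lib.OddOrder.S13.Setup
import Cfsg.Agent.Lib.OddOrder.S9a.Model
import Cfsg.Agent.S1363
import Cfsg.Agent.S1381
import Cfsg.Agent.S1387
import Cfsg.Agent.Lib.Frobenius.Kernel

/-!
Peterfalvi (13.2): the basic facts on the pair `(S, T)`.
-/

set_option autoImplicit false
set_option linter.unusedSectionVars false
set_option linter.style.haveILetI false

namespace CfsgLib.OddOrder.S13

open Subgroup Cfsg CfsgLib.MinSimpleOdd CfsgLib.OddOrder.S9
open scoped Pointwise commutatorElement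

universe u

variable {G : Type u} [Group G] [Finite G]

theorem le_normalizer_derived {M : Subgroup G} : M ≤ normalizer ((⁅M, M⁆ : Subgroup G) : Set G) :=
  le_normalizer_derived_self Subgroup.le_normalizer

theorem typeP_card_W1 {M W₁ U W₂ W₁' U' W₂' : Subgroup G} (h : IsTypePWith M W₁ U W₂)
    (h' : IsTypePWith M W₁' U' W₂') : Nat.card W₁ = Nat.card W₁' := by
  refine Nat.eq_of_mul_eq_mul_left (Nat.card_pos (α := (⁅M, M⁆ : Subgroup G))) ?_
  rw [← card_complIn h.W₁_compl, ← card_complIn h'.W₁_compl]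

theorem compl_card_eq {A B B' M : Subgroup G} (h : IsComplIn A B M) (h' : IsComplIn A B' M) :
    Nat.card B = Nat.card B' :=
  Nat.eq_of_mul_eq_mul_left (Nat.card_pos (α := A)) (by rw [← card_complIn h, ← card_complIn h'])

/-- A complement of `M_F` in `M'` is a Hall subgroup of `M'`. -/
theorem compl_hall (hG : IsMinSimpleOddOrder G) {M U : Subgroup G} (hM : IsCoatom M)
    (hc : IsComplIn (fittingHallOf M) U ⁅M, M⁆) : IsPiHallOf {r | r ∣ Nat.card U} U ⁅M, M⁆ := by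
  have hcop : (Nat.card (fittingHallOf M)).Coprime (Nat.card U) := by
    have h1 := (fittingHallOf_hall hG hM).1
    rw [← relIndex_mul_relIndex _ _ _ hc.1 (commutator_le_self M), relIndex_of_compl hc] at h1
    exact h1.coprime_dvd_right (dvd_mul_right _ _)
  refine ⟨hc.2.1, fun r _ hd => hd, fun r hr hd hidx => ?_⟩
  have he : U.relIndex (⁅M, M⁆ : Subgroup G) = Nat.card (fittingHallOf M) := by
    refine Nat.eq_of_mul_eq_mul_left (Nat.card_pos (α := U)) ?_
    rw [← relIndex_bot_left U, relIndex_mul_relIndex _ _ _ bot_le hc.2.1, relIndex_bot_left, relIndex_bot_left,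
      card_complIn hc, mul_comm]
  exact hr.ne_one (Nat.eq_one_of_dvd_coprimes hcop (he ▸ hidx) hd)

/-- A subgroup of `M'` of the order of a complement of `M_F` is conjugate to it in `M'`. -/
theorem conj_of_card (hG : IsMinSimpleOddOrder G) {M U U' : Subgroup G} (hM : IsCoatom M)
    (hc : IsComplIn (fittingHallOf M) U ⁅M, M⁆) (hle : U' ≤ ⁅M, M⁆) (hcard : Nat.card U' = Nat.card U) :
    ∃ e ∈ (⁅M, M⁆ : Subgroup G), MulAut.conj e • U' = U := by
  have hne : (⁅M, M⁆ : Subgroup G) ≠ ⊤ := fun e => hM.1 (top_le_iff.mp (e.ge.trans (commutator_le_self M)))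
  obtain ⟨e, he, hle'⟩ := conj_into_hall hG hne (compl_hall hG hM hc) hle fun r _ hd => hcard ▸ hd
  exact ⟨e, he, eq_of_le_of_card_ge hle' (by rw [CfsgLib.card_conj_smul, hcard])⟩

/-- Two complements of `M_F` in `M'` are conjugate in `M'`. -/
theorem compl_conj (hG : IsMinSimpleOddOrder G) {M U U' : Subgroup G} (hM : IsCoatom M)
    (hc : IsComplIn (fittingHallOf M) U ⁅M, M⁆) (hc' : IsComplIn (fittingHallOf M) U' ⁅M, M⁆) :
    ∃ e ∈ (⁅M, M⁆ : Subgroup G), MulAut.conj e • U' = U :=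
  conj_of_card hG hM hc hc'.2.1 (compl_card_eq hc' hc)

variable {S T W₁ W₂ U V : Subgroup G}

namespace FTPair

variable (h : FTPair S T W₁ W₂ U V) (imp : FTImports G)
include h imp

theorem typeII_or_III : IsOfTypeII S ∨ IsOfTypeIII S := by
  rcases h.hS25 with h' | h' | h' | h'
  · exact Or.inl h'
  · exact Or.inr h'
  · exact absurd h' (imp.no45 S h.hS).1
  · exact absurd h' (imp.no45 S h.hS).2

theorem exists_data : ∃ W₁' U' W₂' : Subgroup G, IsTypePWith S W₁' U' W₂' ∧ U' ≠ ⊥ ∧ (Nat.card W₁').Prime ∧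
    IsTISubset (fittingOf S : Set G) ∧ IsMulCommutative U' := by
  rcases h.typeII_or_III imp with ⟨a, b, c, h1, h2, h3, h4, h5, -⟩ | ⟨a, b, c, h1, h2, h3, h4, h5, -⟩
  · exact ⟨a, b, c, h1, h2, h3, h4, h5⟩
  · exact ⟨a, b, c, h1, h2, h3, h4, h5⟩

theorem q_prime : (Nat.card W₁).Prime := by
  obtain ⟨a, b, c, h1, -, h3, -⟩ := h.exists_data imp
  rwa [typeP_card_W1 h.hSP h1]

theorem p_prime : (Nat.card W₂).Prime := h.swap.q_prime imp

theorem U_ne : U ≠ ⊥ := by
  obtain ⟨a, b, c, h1, h2, -⟩ := h.exists_data imp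
  intro e
  refine h2 (card_eq_one.mp ?_)
  rw [compl_card_eq h1.U_compl h.hSP.U_compl, e, card_bot]

theorem U_comm : IsMulCommutative U := by
  obtain ⟨a, b, c, h1, -, -, -, h5⟩ := h.exists_data imp
  obtain ⟨e, -, he⟩ := compl_conj h.hG h.hS h1.U_compl h.hSP.U_compl
  refine ⟨⟨fun x y => Subtype.ext ?_⟩⟩
  have hx : e * x * e⁻¹ ∈ b := he ▸ ⟨x, x.2, rfl⟩
  have hy : e * y * e⁻¹ ∈ b := he ▸ ⟨y, y.2, rfl⟩
  have := congrArg Subtype.val ((IsMulCommutative.is_comm (M := b)).comm ⟨_, hx⟩ ⟨_, hy⟩)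
  have h' : e * (x * y : G) * e⁻¹ = e * (y * x : G) * e⁻¹ := by simpa [mul_assoc] using this
  exact mul_left_cancel (mul_right_cancel h')

theorem typeData : TypeData S (fittingHallOf S) U W₁ W₂ (Nat.card W₁) :=
  typeData_of_typePWith h.hG h.hS h.hSP (h.U_ne imp) (h.q_prime imp)

theorem p_ne_q : Nat.card W₂ ≠ Nat.card W₁ := fun e => by
  have d := h.typeData imp
  exact d.q_not_dvd_H (e ▸ card_dvd_of_le d.W2_le)

theorem q_odd : Odd (Nat.card W₁) := Odd.of_dvd_nat h.hG.1 (card_subgroup_dvd_card _)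

theorem p_odd : Odd (Nat.card W₂) := Odd.of_dvd_nat h.hG.1 (card_subgroup_dvd_card _)

/-- PF (13.2)(a): type II when `q < p`. -/
theorem typeII_of_lt (hlt : Nat.card W₁ < Nat.card W₂) : IsOfTypeII S :=
  (h.typeII_or_III imp).resolve_right fun h3 => by
    have := (imp.typeIII S W₁ U W₂ h.hS h.hSP h3).1
    omega

/-- PF (13.2)(c): `C_P(U) = 1`. -/
theorem fixed_U : fittingHallOf S ⊓ centralizer (U : Set G) = ⊥ := by
  rcases h.typeII_or_III imp with h2 | h3
  swap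
  · exact (imp.typeIII S W₁ U W₂ h.hS h.hSP h3).2
  obtain ⟨K, hK⟩ := CfsgLib.exists_isPiHallOf (kappa S) (M := S) (solvable_of_ne_top h.hG h.hS.1)
  obtain ⟨U₀, hKU⟩ := exists_sigmaDecomposition h.hG h.hS (kappaHall_cyclic h.hG h.hS hK) hK
  obtain ⟨hK1, hU1⟩ := (Cfsg.Agent.S1381.result h.hG S h.hS K U₀ hKU).mp h2
  obtain ⟨hd, -, -, hfix⟩ := typeData_two h.hG h.hS hKU hK1 hU1
  obtain ⟨e, he, heq⟩ := compl_conj h.hG h.hS hd.compl_U h.hSP.U_compl
  rw [eq_bot_iff]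
  intro x hx
  have heS : e ∈ S := commutator_le_self S he
  have h1 : e * x * e⁻¹ ∈ fittingHallOf S ⊓ centralizer (U₀ : Set G) := by
    refine ⟨(mem_normalizer_iff.mp (le_normalizer_fittingHallOf S heS) x).mp hx.1, fun y hy => ?_⟩
    rw [← heq] at hy
    obtain ⟨z, hz, rfl⟩ := hy
    show e * z * e⁻¹ * (e * x * e⁻¹) = e * x * e⁻¹ * (e * z * e⁻¹)
    calc e * z * e⁻¹ * (e * x * e⁻¹) = e * (z * x) * e⁻¹ := by group
      _ = e * (x * z) * e⁻¹ := by rw [(mem_inf.mp hx).2 z hz]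
      _ = e * x * e⁻¹ * (e * z * e⁻¹) := by group
  rw [hfix, mem_bot, conj_eq_one_iff] at h1
  rw [h1]
  exact one_mem _

/-- PF (13.2)(c): `H0 = 1`, `|P| = p ^ q` and `P` has exponent `p`. -/
theorem coreKernel_bot : IsCoreKernel S (fittingHallOf S) U ⊥ ∧
    Nat.card (fittingHallOf S) = Nat.card W₂ ^ Nat.card W₁ ∧
    ∀ x ∈ fittingHallOf S, x ^ Nat.card W₂ = 1 := by
  have d := h.typeData imp
  obtain ⟨H0, k⟩ := d.exists_coreKernel
  obtain ⟨rfl, h1, h2⟩ := k.eq_bot_of_prime_W2 d (h.p_prime imp) (h.fixed_U imp)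
  exact ⟨k, h1, h2⟩

theorem card_P : Nat.card (fittingHallOf S) = Nat.card W₂ ^ Nat.card W₁ := (h.coreKernel_bot imp).2.1

theorem card_P' : Nat.card (fittingHallOf S) = Nat.card (⊥ : Subgroup G) * Nat.card W₂ ^ Nat.card W₁ := by
  rw [card_bot, one_mul, h.card_P imp]

theorem P_comm : IsMulCommutative (fittingHallOf S) := ⟨⟨fun x y => Subtype.ext (by
  have := (h.coreKernel_bot imp).1.derived (Subgroup.commutator_mem_commutator x.2 y.2)
  rw [mem_bot, commutatorElement_eq_one_iff_mul_comm] at this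
  exact this)⟩⟩

theorem P_elementary : IsElementaryAbelian (Nat.card W₂) (fittingHallOf S) :=
  ⟨h.P_comm imp, fun x hx => (h.coreKernel_bot imp).2.2 x hx⟩

theorem kernelC_eq : kernelC (fittingHallOf S) U ⊥ = U ⊓ centralizer (fittingHallOf S : Set G) :=
  ((h.coreKernel_bot imp).1.of_prime_W2 (h.typeData imp) (h.p_prime imp)).2.2.2

/-- PF (13.2)(c): `F(S) = P × C_U(P)` is abelian. -/
theorem fitting_eq : fittingOf S = fittingHallOf S ⊔ (U ⊓ centralizer (fittingHallOf S : Set G)) ∧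
    IsMulCommutative (fittingOf S) := by
  have he := Cfsg.Agent.S1387.result S W₁ U W₂ h.hSP
  refine ⟨he, ?_⟩
  have hle : fittingOf S ≤ centralizer (fittingOf S : Set G) := by
    rw [he]
    refine sup_le ?_ ?_ <;> rw [centralizer_sup']
    · refine le_inf (fun x hx y hy => ?_) (fun x hx y hy => ((mem_inf.mp hy).2 x hx).symm)
      exact congrArg Subtype.val ((h.P_comm imp).is_comm.comm ⟨y, hy⟩ ⟨x, hx⟩)
    · refine le_inf (fun x hx y hy => (mem_inf.mp hx).2 y hy) (fun x hx y hy => ?_)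
      exact congrArg Subtype.val ((h.U_comm imp).is_comm.comm ⟨y, hy.1⟩ ⟨x, hx.1⟩)
  exact ⟨⟨fun x y => Subtype.ext (hle y.2 x x.2)⟩⟩

theorem fitting_TI : IsTISubset (fittingOf S : Set G) := by
  obtain ⟨a, b, c, -, -, -, h4, -⟩ := h.exists_data imp
  exact h4

theorem normalizer_fitting : normalizer (fittingOf S : Set G) = S := by
  rcases h.hS.le_iff.mp (le_normalizer_fittingOf S) with e | e
  swap
  · exact e
  exfalso
  have hle : fittingOf S ≤ S := fittingOf_le S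
  refine normalizer_ne_top h.hG (fun e1 => h.hSP.selfNormalizing.2.1 ?_)
    (fun e1 => h.hS.1 (top_le_iff.mp (e1 ▸ hle))) e
  have : fittingHallOf S ≤ fittingOf S := (h.fitting_eq imp).1 ▸ le_sup_left
  exact le_bot_iff.mp (((h.typeData imp).W2_le.trans this).trans e1.le)

/-- An element of `G` fusing two elements of `F(S)` lies in `S`. -/
theorem mem_of_conj_fitting {x g : G} (hx : x ∈ fittingOf S) (hx1 : x ≠ 1) (hg : g * x * g⁻¹ ∈ fittingOf S) :
    g ∈ S := by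
  rw [← h.normalizer_fitting imp]
  by_contra hn
  exact hx1 (h.fitting_TI imp g hn x hx hg)

theorem centralizer_le {x : G} (hx : x ∈ fittingOf S) (hx1 : x ≠ 1) : centralizer ({x} : Set G) ≤ S :=
  fun g hg => h.mem_of_conj_fitting imp hx hx1 (by
    rwa [mem_centralizer_singleton_iff.mp hg, mul_inv_cancel_right])

/-- PF (13.2)(d): in the Galois case an element of `U ∖ C` fixes only `1` in `P`. -/
theorem galois_fixed (hgal : IsGalois (fittingHallOf S) U ⊥) {x : G} (hx : x ∈ U)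
    (hxC : x ∉ centralizer (fittingHallOf S : Set G)) : fittingHallOf S ⊓ centralizer ({x} : Set G) = ⊥ := by
  refine (eq_bot_iff_forall _).mpr fun y hy => ?_
  have h' := ((h.coreKernel_bot imp).1.galois_facts (h.typeData imp) (h.p_prime imp) (h.card_P' imp) hgal).2.2.2
    x hx (fun hk => by rw [h.kernelC_eq imp] at hk; exact hxC hk.2) y hy.1
    (by rw [mem_bot, ← mem_centralizer_singleton_iff.mp hy.2]; group)
  rwa [mem_bot] at h'

/-- PF (13.2)(e), given that elements of `A₀(S)` fused in `G` are fused in `S` and the description of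
the elements whose centralizer is not in `S`. -/
theorem typeA0_TI (hfus : ∀ x ∈ typeA0 S, ∀ g : G, g * x * g⁻¹ ∈ typeA0 S → ∃ m ∈ S, m * x * m⁻¹ = g * x * g⁻¹)
    (hcent : ∀ x ∈ typeA0 S, ¬ centralizer ({x} : Set G) ≤ S →
      (∃ L : Subgroup G, IsCoatom L ∧ kappa L = ∅ ∧ x ∈ L ∧ x ∉ fittingHallOf L ∧
        ∃ y ∈ fittingHallOf L, y ≠ 1 ∧ x * y = y * x) ∨
      ∃ E : Subgroup ↥S, IsFrobeniusComplement E ∧
        frobeniusKernel E = ((fittingHall ↥S : Subgroup ↥S) : Set ↥S)) :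
    IsTISubset (typeA0 S) ∧ normalizer (typeA0 S) = S := by
  classical
  have d := h.typeData imp
  have hC : ∀ x ∈ typeA0 S, centralizer ({x} : Set G) ≤ S := by
    intro x hx
    by_contra hn
    rcases hcent x hx hn with ⟨L, hL, hκ, hxL, hxF, y, hy, hy1, hxy⟩ | ⟨E, hE, hker⟩
    · exact hxF (imp.frobI L hL hκ y hy hy1 ⟨hxL, mem_centralizer_singleton_iff.mpr hxy⟩)
    · obtain ⟨⟨w, hw⟩, hw1⟩ := ne_bot_iff_exists_ne_one.mp h.hSP.W₁_ne
      obtain ⟨⟨z, hz⟩, hz1⟩ := ne_bot_iff_exists_ne_one.mp d.W2_ne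
      have hwS : w ∈ S := d.W_le hw
      have hzS : z ∈ S := d.H_le (d.W2_le hz)
      have hwker : (⟨w, hwS⟩ : ↥S) ∉ frobeniusKernel E := fun hwk => hw1 (Subtype.ext (by
        rw [hker] at hwk
        have : w ∈ (⁅S, S⁆ : Subgroup G) ⊓ W₁ := ⟨d.H_le_der ⟨⟨w, hwS⟩, hwk, rfl⟩, hw⟩
        rwa [d.compl_W.2.2.1, mem_bot] at this))
      simp only [frobeniusKernel, Set.mem_setOf_eq, not_or, not_forall, not_not] at hwker
      obtain ⟨hw1', g, hg⟩ := hwker
      rw [CfsgLib.mem_conj_smul_iff] at hg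
      have hcomm : (g⁻¹ * ⟨z, hzS⟩ * g) * (g⁻¹ * ⟨w, hwS⟩ * g) = (g⁻¹ * ⟨w, hwS⟩ * g) * (g⁻¹ * ⟨z, hzS⟩ * g) := by
        rw [show (g⁻¹ * (⟨z, hzS⟩ : ↥S) * g) * (g⁻¹ * ⟨w, hwS⟩ * g) = g⁻¹ * (⟨z, hzS⟩ * ⟨w, hwS⟩) * g by group,
          show (g⁻¹ * (⟨w, hwS⟩ : ↥S) * g) * (g⁻¹ * ⟨z, hzS⟩ * g) = g⁻¹ * (⟨w, hwS⟩ * ⟨z, hzS⟩) * g by group,
          show (⟨z, hzS⟩ : ↥S) * ⟨w, hwS⟩ = ⟨w, hwS⟩ * ⟨z, hzS⟩ from
            Subtype.ext (h.hSP.selfNormalizing.2.2.2.1 w hw z hz).symm]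
      have hzE := CfsgLib.Frob.frob_centralizer_le hE hg
        (fun e => hw1' (by have := congrArg (fun t => g * t * g⁻¹) e; simpa [mul_assoc] using this)) hcomm
      have hzk : (⟨z, hzS⟩ : ↥S) ∈ frobeniusKernel E := by
        rw [hker]
        obtain ⟨y, hy, hye⟩ := d.W2_le hz
        rwa [← show y = (⟨z, hzS⟩ : ↥S) from Subtype.ext hye]
      rcases hzk with hzk | hzk
      · exact hz1 (Subtype.ext (show z = 1 from congrArg Subtype.val hzk))
      · exact hzk g (CfsgLib.mem_conj_smul_iff.mpr hzE)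
  have hmem : ∀ x ∈ typeA0 S, ∀ g : G, g * x * g⁻¹ ∈ typeA0 S → g ∈ S := fun x hx g hg => by
    obtain ⟨m, hm, hme⟩ := hfus x hx g hg
    have : m⁻¹ * g ∈ centralizer ({x} : Set G) := mem_centralizer_singleton_iff.mpr (by
      calc m⁻¹ * g * x = m⁻¹ * (g * x * g⁻¹) * g := by group
        _ = m⁻¹ * (m * x * m⁻¹) * g := by rw [hme]
        _ = x * (m⁻¹ * g) := by group)
    simpa using S.mul_mem hm (hC x hx this)
  have hcoreS : S ≤ normalizer (typeCore S : Set G) := by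
    unfold typeCore
    split
    · exact le_normalizer_derived
    · exact le_normalizer_fittingHallOf S
  have hconj : ∀ {X : Subgroup G}, S ≤ normalizer (X : Set G) → ∀ m ∈ S, ∀ a ∈ X, m * a * m⁻¹ ∈ X :=
    fun hX m hm a ha => (mem_normalizer_iff.mp (hX hm) a).mp ha
  have hcommute : ∀ (m a b : G), a * b = b * a → m * a * m⁻¹ * (m * b * m⁻¹) = m * b * m⁻¹ * (m * a * m⁻¹) :=
    fun m a b e => by
      calc m * a * m⁻¹ * (m * b * m⁻¹) = m * (a * b) * m⁻¹ := by group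
        _ = m * (b * a) * m⁻¹ := by rw [e]
        _ = m * b * m⁻¹ * (m * a * m⁻¹) := by group
  have hinv : ∀ m ∈ S, ∀ x ∈ typeA0 S, m * x * m⁻¹ ∈ typeA0 S := by
    rintro m hm x (hx | ⟨hnI, a, b, c, hP, n, hn, w, hw, hw1, hw2, rfl⟩)
    · left
      unfold typeA at hx ⊢
      split at hx
      · rename_i hI
        rw [if_pos hI]
        obtain ⟨h1, h2, y, hy, hy1, hxy⟩ := hx
        exact ⟨S.mul_mem (S.mul_mem hm h1) (S.inv_mem hm), fun e => h2 (conj_eq_one_iff.mp e), m * y * m⁻¹,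
          hconj (le_normalizer_fittingHallOf S) m hm y hy, fun e => hy1 (conj_eq_one_iff.mp e), hcommute m x y hxy⟩
      · rename_i hI
        rw [if_neg hI]
        obtain ⟨h1, h2, y, hy, hy1, hxy⟩ := hx
        exact ⟨hconj le_normalizer_derived m hm x h1, fun e => h2 (conj_eq_one_iff.mp e), m * y * m⁻¹,
          hconj hcoreS m hm y hy, fun e => hy1 (conj_eq_one_iff.mp e), hcommute m x y hxy⟩
    · exact Or.inr ⟨hnI, a, b, c, hP, m * n, S.mul_mem hm hn, w, hw, hw1, hw2, by group⟩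
  have hle : S ≤ normalizer (typeA0 S) := fun m hm n =>
    ⟨hinv m hm n, fun e => by simpa [mul_assoc] using hinv m⁻¹ (S.inv_mem hm) _ e⟩
  refine ⟨fun g hg x hx hgx => absurd (hle (hmem x hx g hgx)) hg, le_antisymm (fun g hg => ?_) hle⟩
  obtain ⟨⟨z, hz⟩, hz1⟩ := ne_bot_iff_exists_ne_one.mp d.W2_ne
  have hz1' : z ≠ 1 := fun e => hz1 (Subtype.ext e)
  have hzA : z ∈ typeA0 S := Or.inl (by
    have hzc : z ∈ typeCore S := by
      unfold typeCore
      split
      · exact d.H_le_der (d.W2_le hz)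
      · exact d.W2_le hz
    unfold typeA
    split
    · exact ⟨d.H_le (d.W2_le hz), hz1', z, d.W2_le hz, hz1', rfl⟩
    · exact ⟨d.H_le_der (d.W2_le hz), hz1', z, hzc, hz1', rfl⟩)
  exact hmem z hzA g ((hg z).mp hzA)

end FTPair

end CfsgLib.OddOrder.S13
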