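import Cfsg.Agent.Lib.OddOrder.S13.Trace
import Cfsg.Agent.Lib.OddOrder.S13.Arith

/-!
Peterfalvi (13.9), (13.10): the global inequality.
-/

set_option autoImplicit false

namespace CfsgLib.OddOrder.S13

open Cfsg CfsgLib.CharTheory
open scoped ComplexConjugate

universe u

variable {G : Type u} [Group G] [Fintype G]

/-- A subgroup `H` of `S`, normalised by `S`, meeting its conjugates outside `S` trivially. -/
structure IsTIIn (H S : Subgroup G) : Prop where
  le : H ≤ S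
  norm : ∀ s ∈ S, ∀ x ∈ H, s * x * s⁻¹ ∈ H
  ti : ∀ g ∉ S, ∀ x ∈ H, g * x * g⁻¹ ∈ H → x = 1

open scoped Classical in
/-- The conjugates of the non-identity elements of `H`. -/
noncomputable def conjSpan (H : Subgroup G) : Finset G :=
  Finset.univ.filter fun g => g ≠ 1 ∧ ∃ k : G, ∃ x ∈ H, g = k * x * k⁻¹

theorem mem_conjSpan {H : Subgroup G} {g : G} :
    g ∈ conjSpan H ↔ g ≠ 1 ∧ ∃ k : G, ∃ x ∈ H, g = k * x * k⁻¹ := by
  classical
  simp [conjSpan]

theorem sum_conjSpan {H S : Subgroup G} (h : IsTIIn H S) [Fintype H] [DecidableEq H] {f : G → ℝ}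
    (hf : ∀ k x : G, f (k * x * k⁻¹) = f x) :
    ∑ g ∈ conjSpan H, f g = (S.index : ℝ) * ∑ x ∈ (Finset.univ : Finset H).erase 1, f x := by
  classical
  haveI := Fintype.ofFinite (G ⧸ S)
  let φ : (G ⧸ S) × H → G := fun a => a.1.out * (a.2 : G) * a.1.out⁻¹
  have himg : ((Finset.univ : Finset (G ⧸ S)) ×ˢ ((Finset.univ : Finset H).erase 1)).image φ = conjSpan H := by
    ext g
    simp only [Finset.mem_image, Finset.mem_product, Finset.mem_univ, Finset.mem_erase, true_and, and_true,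
      mem_conjSpan]
    constructor
    · rintro ⟨⟨c, x⟩, hx, rfl⟩
      exact ⟨fun e => hx (Subtype.ext (conj_eq_one_iff.mp e)), _, _, x.2, rfl⟩
    · rintro ⟨hg, k, x, hx, rfl⟩
      obtain ⟨s, hs⟩ := QuotientGroup.mk_out_eq_mul S k
      refine ⟨⟨(k : G ⧸ S), ⟨(s : G)⁻¹ * x * (s : G), ?_⟩⟩, ?_, ?_⟩
      · simpa using h.norm (s : G)⁻¹ (S.inv_mem s.2) x hx
      · intro e
        have e' : (s : G)⁻¹ * x * (s : G) = 1 := congrArg Subtype.val e
        refine hg (conj_eq_one_iff.mpr ?_)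
        calc x = (s : G) * ((s : G)⁻¹ * x * s) * (s : G)⁻¹ := by group
          _ = (1 : G) := by rw [e']; simp
      · show Quotient.out (k : G ⧸ S) * ((s : G)⁻¹ * x * s) * (Quotient.out (k : G ⧸ S))⁻¹ = _
        rw [show Quotient.out (k : G ⧸ S) = k * s from hs]
        group
  have hinj : Set.InjOn φ ((Finset.univ : Finset (G ⧸ S)) ×ˢ ((Finset.univ : Finset H).erase 1) : Finset _) := by
    rintro ⟨c, x⟩ hc ⟨d, y⟩ - e
    have hx : x ≠ 1 := Finset.ne_of_mem_erase (Finset.mem_product.mp hc).2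
    have e' : (d.out⁻¹ * c.out) * (x : G) * (d.out⁻¹ * c.out)⁻¹ = (y : G) := by
      calc (d.out⁻¹ * c.out) * (x : G) * (d.out⁻¹ * c.out)⁻¹ = d.out⁻¹ * φ (c, x) * d.out := by
            simp only [φ]; group
        _ = d.out⁻¹ * φ (d, y) * d.out := by rw [e]
        _ = (y : G) := by simp only [φ]; group
    have hcd : d.out⁻¹ * c.out ∈ S := by
      by_contra hS
      exact hx (Subtype.ext (h.ti _ hS x x.2 (e' ▸ y.2)))
    have hq : d = c := by
      rw [← d.out_eq', ← c.out_eq']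
      exact QuotientGroup.eq.mpr hcd
    subst hq
    simp only [inv_mul_cancel, one_mul, inv_one, mul_one] at e'
    rw [Subtype.ext e']
  rw [← himg, Finset.sum_image hinj, Finset.sum_product, Subgroup.index, Nat.card_eq_fintype_card]
  simp only [φ, hf]
  rw [Finset.sum_const, Finset.card_univ, nsmul_eq_mul]

theorem card_conjSpan {H S : Subgroup G} (h : IsTIIn H S) :
    ((conjSpan H).card : ℝ) = (S.index : ℝ) * ((Nat.card H : ℝ) - 1) := by
  classical
  haveI := Fintype.ofFinite H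
  have := sum_conjSpan h (f := fun _ => (1 : ℝ)) (fun _ _ => rfl)
  rw [Finset.sum_const, nsmul_eq_mul, mul_one, Finset.sum_const, nsmul_eq_mul, mul_one,
    Finset.card_erase_of_mem (Finset.mem_univ _), Finset.card_univ, ← Nat.card_eq_fintype_card,
    Nat.cast_sub Nat.card_pos, Nat.cast_one] at this
  exact this

theorem sum_normSq_eq_card {D : G → ℂ} (hD : classInner D D = 1) :
    ∑ g : G, Complex.normSq (D g) = (Nat.card G : ℝ) := by
  have h : ∑ g : G, D g * conj (D g) = (Nat.card G : ℂ) := by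
    rw [classInner, inv_mul_eq_one₀ (Nat.cast_ne_zero.mpr (Nat.card_pos (α := G)).ne')] at hD
    exact hD.symm
  simp only [Complex.mul_conj] at h
  exact_mod_cast h

/-- (13.9). -/
theorem global_norm {H S K T : Subgroup G} (hH : IsTIIn H S) (hK : IsTIIn K T)
    (hdisj : Disjoint (conjSpan H) (conjSpan K)) {D₁ D₂ : G → ℂ} (h₁ : IsGeneralizedCharacter G D₁)
    (h₂ : IsGeneralizedCharacter G D₂) (n₁ : classInner D₁ D₁ = 1) (n₂ : classInner D₂ D₂ = 1)
    (d₁ : 1 ≤ Complex.normSq (D₁ 1)) (d₂ : 1 ≤ Complex.normSq (D₂ 1))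
    (hne : ∀ g : G, g ≠ 1 → g ∉ conjSpan H → g ∉ conjSpan K → D₁ g ≠ 0 ∨ D₂ g ≠ 0)
    [Fintype H] [Fintype K] [DecidableEq H] [DecidableEq K] {A B : ℝ}
    (hA : (Nat.card H : ℝ) - 1 + A ≤
      ∑ x ∈ (Finset.univ : Finset H).erase 1, (Complex.normSq (D₁ x) + Complex.normSq (D₂ x)))
    (hB : (Nat.card K : ℝ) - 1 + B ≤
      ∑ x ∈ (Finset.univ : Finset K).erase 1, (Complex.normSq (D₁ x) + Complex.normSq (D₂ x))) :
    (S.index : ℝ) * A + (T.index : ℝ) * B + 1 ≤ Nat.card G := by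
  classical
  set f : G → ℝ := fun g => Complex.normSq (D₁ g) + Complex.normSq (D₂ g) with hfdef
  have hcf : ∀ k x : G, f (k * x * k⁻¹) = f x := fun k x => by
    simp only [hfdef, (isGenChar_iff_coeff_int.mp h₁).1 x k, (isGenChar_iff_coeff_int.mp h₂).1 x k]
  set Ω : Finset G := ((Finset.univ \ conjSpan H) \ conjSpan K).erase 1 with hΩ
  have hΩm : ∀ g, g ∈ Ω ↔ g ≠ 1 ∧ g ∉ conjSpan H ∧ g ∉ conjSpan K := fun g => by simp [hΩ]
  have hpow : ∀ (L : Subgroup G) (m : ℕ), m.Coprime (Nat.card G) → ∀ g, g ^ m ∈ conjSpan L → g ∈ conjSpan L := by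
    intro L m hm g hg
    obtain ⟨hg1, k, x, hx, e⟩ := mem_conjSpan.mp hg
    refine mem_conjSpan.mpr ⟨fun e => hg1 (by rw [e, one_pow]), k, k⁻¹ * g * k, ?_, by group⟩
    rw [← pow_mem_iff_of_coprime hm, show (k⁻¹ * g * k) ^ m = k⁻¹ * g ^ m * k by
      have h' : (k⁻¹ * g * k⁻¹⁻¹) ^ m = k⁻¹ * g ^ m * k⁻¹⁻¹ := conj_pow
      rwa [inv_inv] at h', e]
    simpa [mul_assoc] using hx
  have hG0 : (Ω.card : ℝ) ≤ ∑ g ∈ Ω, f g := card_le_pair Ω (fun m hm g hg => by
      obtain ⟨g1, g2, g3⟩ := (hΩm g).mp hg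
      refine (hΩm _).mpr ⟨fun e => g1 ?_, fun h => g2 (hpow H m hm g h), fun h => g3 (hpow K m hm g h)⟩
      exact (powCoprime hm.symm).injective (show g ^ m = (1 : G) ^ m by rw [e, one_pow]))
    h₁ h₂ (fun g hg => hne g ((hΩm g).mp hg).1 ((hΩm g).mp hg).2.1 ((hΩm g).mp hg).2.2)
  have hsplit : ∀ w : G → ℝ, ∑ g : G, w g =
      w 1 + ∑ g ∈ Ω, w g + ∑ g ∈ conjSpan H, w g + ∑ g ∈ conjSpan K, w g := fun w => by
    have hu : (Finset.univ : Finset G).erase 1 = Ω ∪ (conjSpan H ∪ conjSpan K) := by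
      ext g
      simp only [Finset.mem_erase, Finset.mem_univ, and_true, Finset.mem_union, hΩm]
      refine ⟨fun h => ?_, ?_⟩
      · tauto
      · rintro (h | h | h)
        · exact h.1
        · exact (mem_conjSpan.mp h).1
        · exact (mem_conjSpan.mp h).1
    rw [← Finset.add_sum_erase _ _ (Finset.mem_univ (1 : G)), hu, Finset.sum_union, Finset.sum_union hdisj]
    · ring
    · rw [Finset.disjoint_left]
      intro g hg hg'
      obtain ⟨-, g2, g3⟩ := (hΩm g).mp hg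
      rcases Finset.mem_union.mp hg' with h | h
      · exact g2 h
      · exact g3 h
  have hc := hsplit fun _ => 1
  have hf := hsplit f
  simp only [Finset.sum_const, Finset.card_univ, nsmul_eq_mul, mul_one, ← Nat.card_eq_fintype_card,
    card_conjSpan hH, card_conjSpan hK] at hc
  rw [sum_conjSpan hH hcf, sum_conjSpan hK hcf] at hf
  have htot : ∑ g : G, f g = 2 * (Nat.card G : ℝ) := by
    simp only [hfdef, Finset.sum_add_distrib, sum_normSq_eq_card n₁, sum_normSq_eq_card n₂]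
    ring
  have h1 : 2 ≤ f 1 := by simp only [hfdef]; linarith
  have hA' := mul_le_mul_of_nonneg_left hA (Nat.cast_nonneg (α := ℝ) S.index)
  have hB' := mul_le_mul_of_nonneg_left hB (Nat.cast_nonneg (α := ℝ) T.index)
  rw [htot] at hf
  linarith

/-- (13.10): the numerical consequence. -/
theorem main_ineq {p q u c v h k : ℕ} {g : ℕ} {iS iT : ℕ} (hp : 2 ≤ p) (hq : 3 ≤ q)
    (hh : h = p ^ q * c) (hk : q ^ p ≤ k) (hv : v ≤ geom q p) (hu : 0 < u) (hc : 0 < c) (hv0 : 0 < v)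
    (hiS : iS * (h * (q * u)) = g) (hiT : iT * (k * v * p) = g)
    (hmain : (iS : ℝ) * ((h : ℝ) * ((q : ℝ) * u) - ((q : ℝ) * u) ^ 2) +
      (iT : ℝ) * ((k : ℝ) * v - (v : ℝ) ^ 2 - ((q : ℝ) - 1) * v) + 1 ≤ g) :
    mBound p q * (p : ℝ) ^ (q - 1) * c < q * u := by
  have hq' : (3 : ℝ) ≤ q := by exact_mod_cast hq
  have hp' : (2 : ℝ) ≤ p := by exact_mod_cast hp
  have hQ : (0 : ℝ) < (q : ℝ) ^ p := pow_pos (by linarith) p
  have hk' : (q : ℝ) ^ p ≤ k := by exact_mod_cast hk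
  have hgm : (geom q p : ℝ) * ((q : ℝ) - 1) + 1 = (q : ℝ) ^ p := by
    have := congrArg (fun n : ℕ => (n : ℝ)) (geom_mul_pred (p := q) (q := p) (by omega))
    push_cast [show 1 ≤ q by omega] at this
    exact this
  have hv' : (v : ℝ) ≤ geom q p := by exact_mod_cast hv
  have hm : mBound p q ≤ 1 - ((v : ℝ) + ((q : ℝ) - 1)) / k := by
    have e : mBound p q = 1 - ((geom q p : ℝ) + ((q : ℝ) - 1)) / (q : ℝ) ^ p := by
      unfold mBound
      have : (geom q p : ℝ) = ((q : ℝ) ^ p - 1) / ((q : ℝ) - 1) := by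
        rw [eq_div_iff (by linarith)]; linarith
      have hq1 : (q : ℝ) - 1 ≠ 0 := by linarith
      rw [this]
      field_simp
      ring
    rw [e]
    gcongr 1 - ?_
    exact div_le_div₀ (by positivity [show (0 : ℝ) ≤ (q : ℝ) - 1 by linarith]) (by linarith) hQ hk'
  have hS : (0 : ℝ) < (h : ℝ) := by
    have : 0 < h := by rw [hh]; positivity
    exact_mod_cast this
  have hk0 : (0 : ℝ) < k := lt_of_lt_of_le hQ hk'
  have hu' : (0 : ℝ) < u := by exact_mod_cast hu
  have hv'' : (0 : ℝ) < v := by exact_mod_cast hv0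
  have e1 : (iS : ℝ) * ((h : ℝ) * ((q : ℝ) * u)) = g := by exact_mod_cast hiS
  have e2 : (iT : ℝ) * ((k : ℝ) * v * p) = g := by exact_mod_cast hiT
  have hg : (0 : ℝ) < g := by
    rcases Nat.eq_zero_or_pos g with h0 | h0
    · exfalso
      subst h0
      have hs : (iS : ℝ) = 0 := by
        rcases mul_eq_zero.mp (by exact_mod_cast hiS : (iS : ℝ) * ((h : ℝ) * ((q : ℝ) * u)) = 0) with h1 | h1
        · exact h1
        · nlinarith [mul_pos hS (mul_pos (show (0 : ℝ) < q by linarith) hu')]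
      have ht : (iT : ℝ) = 0 := by
        rcases mul_eq_zero.mp (by exact_mod_cast hiT : (iT : ℝ) * ((k : ℝ) * v * p) = 0) with h1 | h1
        · exact h1
        · nlinarith [mul_pos (mul_pos hk0 hv'') (show (0 : ℝ) < p by linarith)]
      rw [hs, ht] at hmain
      norm_num at hmain
    · exact_mod_cast h0
  -- divide by the order of the group
  have key : (1 - ((v : ℝ) + ((q : ℝ) - 1)) / k) / p < (q : ℝ) * u / h := by
    have f1 : (iS : ℝ) * ((q : ℝ) * u) ^ 2 = g * ((q : ℝ) * u / h) := by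
      rw [← e1]; field_simp
    have f2 : (iT : ℝ) * ((k : ℝ) * v - (v : ℝ) ^ 2 - ((q : ℝ) - 1) * v) =
        g * ((1 - ((v : ℝ) + ((q : ℝ) - 1)) / k) / p) := by
      rw [← e2]; field_simp; ring
    rw [mul_sub, e1, f1, f2] at hmain
    by_contra hno
    push Not at hno
    nlinarith [mul_le_mul_of_nonneg_left hno hg.le]
  have hlt : mBound p q / p < (q : ℝ) * u / h :=
    lt_of_le_of_lt ((div_le_div_iff_of_pos_right (show (0 : ℝ) < p by linarith)).mpr hm) key
  rw [div_lt_div_iff₀ (by linarith) hS] at hlt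
  have hh' : (h : ℝ) = (p : ℝ) ^ (q - 1) * p * c := by
    rw [hh, ← pow_succ, Nat.sub_add_cancel (by omega : 1 ≤ q)]; push_cast; ring
  rw [hh'] at hlt
  nlinarith

end CfsgLib.OddOrder.S13
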