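import Cfsg.Agent.Lib.OddOrder.S13.Shape
import Cfsg.Agent.Lib.OddOrder.S13.Global
import Cfsg.Agent.Lib.CharTheory.RootDiv
import Cfsg.Agent.Lib.CharTheory.Induced

/-!
Peterfalvi (13.5)-(13.10) assembled: `mBound p q * p ^ (q - 1) * c < q * u` from the character relations
between one irreducible image `D`, the rows `A i` and a column entry `B` of the cyclic TI table.
-/

set_option autoImplicit false
set_option linter.unusedSectionVars false
set_option linter.style.haveILetI false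

namespace CfsgLib.OddOrder.S13

open Cfsg CfsgLib.CharTheory
open scoped ComplexConjugate IsMulCommutative

universe u

variable {G : Type u} [Group G]

/-- The Fourier coefficients of `F` on the characters of `H` nontrivial on `P` are `a · [ψ ∈ O]` up to a
common constant. -/
def HasCoef (H P : Subgroup G) [Fintype H] (O : Finset (H →* ℂˣ)) (a : ℤ) (F : G → ℂ) : Prop :=
  ∃ k : ℂ, (∀ ψ : H →* ℂˣ, (∃ z : H, (z : G) ∈ P ∧ ψ z ≠ 1) → ψ ∈ O →
      classInner (fun x : H => F x) (fun x => (ψ x : ℂ)) = a + k) ∧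
    ∀ ψ : H →* ℂˣ, (∃ z : H, (z : G) ∈ P ∧ ψ z ≠ 1) → ψ ∉ O →
      classInner (fun x : H => F x) (fun x => (ψ x : ℂ)) = k

/-- `HasCoef` from the orthogonality relations against induced differences. -/
theorem hasCoef_of_induced [Fintype G] {H P : Subgroup G} [Fintype H] {O : Finset (H →* ℂˣ)} {a : ℤ} {F : G → ℂ}
    (hF : IsClassFunction G F)
    (h : ∀ ψ φ : H →* ℂˣ, (∃ z : H, (z : G) ∈ P ∧ ψ z ≠ 1) → (∃ z : H, (z : G) ∈ P ∧ φ z ≠ 1) →
      classInner F (indFun H fun x => (ψ x : ℂ)) - classInner F (indFun H fun x => (φ x : ℂ)) =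
        (if ψ ∈ O then (a : ℂ) else 0) - if φ ∈ O then (a : ℂ) else 0) :
    HasCoef H P O a F := by
  classical
  by_cases hne : ∃ φ : H →* ℂˣ, ∃ z : H, (z : G) ∈ P ∧ φ z ≠ 1
  · obtain ⟨φ, hφ⟩ := hne
    refine ⟨classInner F (indFun H fun x => (φ x : ℂ)) - if φ ∈ O then (a : ℂ) else 0,
      fun ψ hψ hO => ?_, fun ψ hψ hO => ?_⟩ <;>
    · have := h ψ φ hψ hφ
      simp only [hO, if_true, if_false] at this
      rw [← frobenius_reciprocity' H _ hF]
      linear_combination this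
  · push Not at hne
    exact ⟨0, fun ψ hψ => absurd hψ fun ⟨z, hz, h1⟩ => h1 (hne ψ z hz),
      fun ψ hψ => absurd hψ fun ⟨z, hz, h1⟩ => h1 (hne ψ z hz)⟩

variable {X : Type u} [CommGroup X] [Fintype X] {P : Subgroup X} {O : Finset (X →* ℂˣ)} {a : ℤ} {F g : X → ℂ}

theorem coset_sum [DecidablePred (· ∈ P)] (hO : IsEdgeFree P O) (hF : IsShape P O a F g) {x : X} (hx : x ∉ P) :
    ∑ z ∈ Finset.univ.filter (· ∈ P), F (x * z) = (Nat.card P : ℂ) * g x := by
  set s := Finset.univ.filter (· ∈ P) with hs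
  have hcard : s.card = Nat.card P := by rw [Nat.card_eq_fintype_card, ← Fintype.card_subtype]
  have h0 : ∑ z ∈ s, ∑ ψ ∈ O, (ψ (x * z) : ℂ) = 0 := by
    rw [Finset.sum_comm]
    refine Finset.sum_eq_zero fun ψ hψ => ?_
    have := sum_mul_periodic (hO.ne_one ψ hψ) (h := fun _ => 1) (fun _ _ _ => rfl) s
      fun y z hz => by simp [hs, P.mul_mem_cancel_right hz]
    simp only [mul_one] at this
    simp only [map_mul, Units.val_mul, ← Finset.mul_sum, this, mul_zero]
  calc ∑ z ∈ s, F (x * z) = ∑ z ∈ s, ((a : ℂ) * ∑ ψ ∈ O, (ψ (x * z) : ℂ) + g x) :=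
        Finset.sum_congr rfl fun z hz => by
          have hzP : z ∈ P := (Finset.mem_filter.mp hz).2
          rw [hF.eq _ fun e => hx (by rw [eq_inv_of_mul_eq_one_left e]; exact inv_mem hzP), hF.periodic x z hzP]
    _ = (Nat.card P : ℂ) * g x := by
      rw [Finset.sum_add_distrib, ← Finset.mul_sum, h0, Finset.sum_const, hcard, nsmul_eq_mul, mul_zero, zero_add]

theorem edge_sum [DecidablePred (· ∈ P)] [DecidableEq X] (hO : IsEdgeFree P O) (hF : IsShape P O a F g) :
    ∑ z ∈ (Finset.univ.filter (· ∈ P)).erase 1, F z = ((Nat.card P : ℂ) - 1) * g 1 - (a : ℂ) * O.card := by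
  set s := Finset.univ.filter (· ∈ P) with hs
  have hcard : s.card = Nat.card P := by rw [Nat.card_eq_fintype_card, ← Fintype.card_subtype]
  have h1 : (1 : X) ∈ s := by simp [hs]
  have h0 : ∑ z ∈ s, ∑ ψ ∈ O, (ψ z : ℂ) = 0 := by
    rw [Finset.sum_comm]
    refine Finset.sum_eq_zero fun ψ hψ => ?_
    simpa using sum_mul_periodic (hO.ne_one ψ hψ) (h := fun _ => 1) (fun _ _ _ => rfl) s
      fun y z hz => by simp [hs, P.mul_mem_cancel_right hz]
  rw [← Finset.add_sum_erase s _ h1] at h0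
  simp only [map_one, Units.val_one, Finset.sum_const, nsmul_eq_mul, mul_one] at h0
  calc ∑ z ∈ s.erase 1, F z = ∑ z ∈ s.erase 1, ((a : ℂ) * ∑ ψ ∈ O, (ψ z : ℂ) + g 1) :=
        Finset.sum_congr rfl fun z hz => by
          rw [hF.eq z (Finset.ne_of_mem_erase hz), ← hF.periodic 1 z (Finset.mem_filter.mp (Finset.mem_of_mem_erase hz)).2,
            one_mul]
    _ = _ := by
      rw [Finset.sum_add_distrib, ← Finset.mul_sum, Finset.sum_const, Finset.card_erase_of_mem h1, hcard,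
        nsmul_eq_mul, Nat.cast_sub Nat.card_pos, Nat.cast_one]
      linear_combination (a : ℂ) * h0

/-- The periodic parts follow field automorphisms. -/
theorem shape_galois (hP : P ≠ ⊥) {O' : Finset (X →* ℂˣ)} {F' g' : X → ℂ} (hO : IsEdgeFree P O)
    (hO' : IsEdgeFree P O') (hcard : O'.card = O.card) (hF : IsShape P O a F g) (hF' : IsShape P O' a F' g')
    (s : ℂ ≃+* ℂ) (hs : ∀ x, F' x = s (F x)) (x : X) : g' x = s (g x) := by
  classical
  have hne : (Nat.card P : ℂ) - 1 ≠ 0 :=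
    sub_ne_zero.mpr (by exact_mod_cast ((Subgroup.one_lt_card_iff_ne_bot P).mpr hP).ne')
  by_cases hx : x ∈ P
  · rw [show g' x = g' 1 by rw [← hF'.periodic 1 x hx, one_mul],
      show g x = g 1 by rw [← hF.periodic 1 x hx, one_mul]]
    have e' := edge_sum hO' hF'
    have e := congrArg s (edge_sum hO hF)
    rw [map_sum, Finset.sum_congr rfl fun z _ => (hs z).symm, e', hcard] at e
    simp only [map_sub, map_mul, map_natCast, map_one, map_intCast, sub_left_inj] at e
    exact mul_left_cancel₀ hne e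
  · have e := congrArg s (coset_sum hO hF hx)
    rw [map_sum, Finset.sum_congr rfl fun z _ => (hs (x * z)).symm, coset_sum hO' hF' hx, map_mul, map_natCast] at e
    exact mul_left_cancel₀ (Nat.cast_ne_zero.mpr Nat.card_pos.ne') e

section Main

variable [Fintype G] {S T H K P Q : Subgroup G} [Fintype H] [Fintype K] {ι : Type*} [Fintype ι] [DecidableEq ι]

/-- The input of (13.10): the group data of the pair, the row `A i` (`i ≠ 0`) and one column entry `B` of the
cyclic TI table, and the image `D` of an irreducible member of degree `q u` lying over `O`. -/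
structure IneqData (S T H K P Q : Subgroup G) [Fintype H] [Fintype K] (p q u v c : ℕ) (i₀ : ι) (A : ι → G → ℂ)
    (B D : G → ℂ) (ε a : ℤ) (O : Finset (H →* ℂˣ)) (OK : ι → Finset (K →* ℂˣ)) : Prop where
  hp : 2 ≤ p
  hq : q.Prime
  hq3 : 3 ≤ q
  card_ι : Fintype.card ι = q - 1
  tiH : IsTIIn H S
  tiK : IsTIIn K T
  disj : Disjoint (conjSpan H) (conjSpan K)
  commH : IsMulCommutative H
  commK : IsMulCommutative K
  leH : P ≤ H
  leK : Q ≤ K
  cardP : Nat.card P = p ^ q
  cardQ : Nat.card Q = q ^ p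
  cardH : Nat.card H = p ^ q * c
  cardS : Nat.card S = Nat.card H * (q * u)
  cardT : Nat.card T = Nat.card K * v * p
  posu : 0 < u
  posv : 0 < v
  posc : 0 < c
  u_le : 2 * u < p ^ q
  v_le : v ≤ geom q p
  eps : ε = 1 ∨ ε = -1
  sign : a = 1 ∨ a = -1
  genA : ∀ i, IsGeneralizedCharacter G (A i)
  genB : IsGeneralizedCharacter G B
  genD : IsGeneralizedCharacter G D
  normA : classInner (A i₀) (A i₀) = 1
  normD : classInner D D = 1
  galA : ∀ i, ∃ s : ℂ ≃+* ℂ, ∀ g, A i g = s (A i₀ g)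
  /-- outside the conjugates of `H`: either we are on `V`, or `D` is the column sum -/
  rel : ∀ g : G, g ≠ 1 → g ∉ conjSpan H → ((∀ i, A i g ≠ 0) ∧ g ∉ conjSpan K) ∨
    D g = (ε : ℂ) * (1 + ∑ i, A i g + (q : ℂ) * B g - q)
  /-- inside `H`, where the orbit sum of the member and `q` times an orbit sum of a reducible one appear -/
  relH : ∀ x : H, x ≠ 1 → ∃ θ : ℂ, IsIntegral ℤ θ ∧
    D x - ∑ ψ ∈ O, (ψ x : ℂ) = (ε : ℂ) * (1 + ∑ i, A i x + (q : ℂ) * B x - q) - (q : ℂ) * θ
  cardO : O.card = q * u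
  edgeO : IsEdgeFree (P.subgroupOf H) O
  coefHA : HasCoef H P ∅ 1 (A i₀)
  coefHD : HasCoef H P O 1 D
  /-- the congruence at a point of `W₂#` -/
  congrP : ∃ z : H, (z : G) ∈ P ∧ z ≠ 1 ∧ ∃ (ζ ω : ℂ), IsPrimitiveRoot ζ q ∧ IsIntegral ℤ ω ∧
    A i₀ z - 1 = (1 - ζ) * ω
  cardOK : ∀ i, (OK i).card = v
  disjOK : ∀ i j, i ≠ j → Disjoint (OK i) (OK j)
  edgeOK : IsEdgeFree (Q.subgroupOf K) (Finset.univ.biUnion OK)
  coefKA : ∀ i, HasCoef K Q (OK i) a (A i)
  coefKB : HasCoef K Q ∅ 1 B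

theorem edgeFree_subset {X : Type u} [CommGroup X] {P : Subgroup X} {O O' : Finset (X →* ℂˣ)}
    (h : IsEdgeFree P O) (hs : O' ⊆ O) : IsEdgeFree P O' :=
  ⟨fun ψ hψ => h.ne_one ψ (hs hψ)⟩

theorem exists_shape_of_hasCoef {H P : Subgroup G} [Fintype H] [IsMulCommutative H] {O : Finset (H →* ℂˣ)} {a : ℤ}
    {F : G → ℂ} (hO : ∀ ψ ∈ O, ∃ z ∈ P.subgroupOf H, ψ z ≠ 1) (h : HasCoef H P O a F) :
    ∃ g : H → ℂ, IsShape (P.subgroupOf H) O a (fun x : H => F x) g := by
  obtain ⟨k, h1, h2⟩ := h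
  exact exists_shape (P.subgroupOf H) O a _ k hO
    (fun ψ ⟨z, hz, hz1⟩ => h1 ψ ⟨z, Subgroup.mem_subgroupOf.mp hz, hz1⟩)
    (fun ψ ⟨z, hz, hz1⟩ => h2 ψ ⟨z, Subgroup.mem_subgroupOf.mp hz, hz1⟩)

theorem genChar_restrict {F : G → ℂ} (hF : IsGeneralizedCharacter G F) (H : Subgroup G) :
    IsGeneralizedCharacter H (fun x : H => F x) := by
  obtain ⟨b, c, hb, hc, rfl⟩ := hF
  exact ⟨_, _, isCharacter_restrict hb H, isCharacter_restrict hc H, rfl⟩

theorem one_le_normSq_one {F : G → ℂ} (hF : IsGeneralizedCharacter G F) (h : F 1 ≠ 0) :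
    1 ≤ Complex.normSq (F 1) := by
  obtain ⟨b, c, ⟨nb, ρb, rfl⟩, ⟨nc, ρc, rfl⟩, rfl⟩ := hF
  simp only [Pi.sub_apply, ρb.char_one, ρc.char_one, Module.finrank_fin_fun] at h ⊢
  have e : ((nb : ℂ) - nc) = ((((nb : ℤ) - nc : ℤ) : ℝ) : ℂ) := by push_cast; rfl
  rw [e, Complex.normSq_ofReal]
  have h0 : ((nb : ℤ) - nc) ≠ 0 := fun e0 => h (by rw [e, e0]; simp)
  have : (1 : ℤ) ≤ ((nb : ℤ) - nc) * ((nb : ℤ) - nc) := Int.add_one_le_iff.mpr (mul_self_pos.mpr h0)
  exact_mod_cast this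

theorem one_ne_zero_of_norm_one {F : G → ℂ} (hF : IsGeneralizedCharacter G F) (h : classInner F F = 1) :
    F 1 ≠ 0 := by
  classical
  obtain ⟨hcf, hco⟩ := isGenChar_iff_coeff_int.mp hF
  choose c hc using fun φ : IrrCharacter G => hco φ φ.2
  have hsq : ∑ φ : IrrCharacter G, c φ * c φ = 1 := by
    have e : (1 : ℂ) = ∑ φ : IrrCharacter G, ((c φ : ℂ) * (c φ : ℂ)) := by
      rw [← h]
      conv_lhs => rw [classInner_eq_sum_irr hcf]
      exact Finset.sum_congr rfl fun φ _ => by rw [hc, ← classInner_comm, hc, map_intCast]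
    exact_mod_cast e.symm
  obtain ⟨φ, -, hφ⟩ := Finset.exists_ne_zero_of_sum_ne_zero (by rw [hsq]; exact one_ne_zero)
  have hrest : ∀ φ' : IrrCharacter G, φ' ≠ φ → c φ' = 0 := fun φ' hne => by
    by_contra h0
    have := Finset.sum_le_sum_of_subset_of_nonneg (Finset.subset_univ ({φ', φ} : Finset (IrrCharacter G)))
      (fun i _ _ => mul_self_nonneg (c i))
    rw [hsq, Finset.sum_pair hne] at this
    have h1 : 0 < c φ' * c φ' := mul_self_pos.mpr h0
    have h2 : 0 < c φ * c φ := lt_of_le_of_ne (mul_self_nonneg _) hφ.symm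
    omega
  intro h1
  have e := congrFun (eq_sum_irr hcf) 1
  rw [h1, Finset.sum_apply, Finset.sum_eq_single φ (fun φ' _ hne => by simp [hc, hrest φ' hne]) (by simp)] at e
  simp only [Pi.smul_apply, smul_eq_mul, hc] at e
  obtain ⟨d, hd, hde⟩ := irr_degree_pos φ.2
  rw [hde] at e
  have : (0 : ℤ) = c φ * d := by exact_mod_cast e
  rcases mul_eq_zero.mp this.symm with h0 | h0
  · exact hφ (by rw [h0, mul_zero])
  · exact hd.ne' (by exact_mod_cast h0)

variable {p q u v c : ℕ} {i₀ : ι} {A : ι → G → ℂ} {B D : G → ℂ} {ε a : ℤ} {O : Finset (H →* ℂˣ)}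
  {OK : ι → Finset (K →* ℂˣ)}

theorem col_not_zero (hq : 2 ≤ q) {b : ℂ} (hb : IsIntegral ℤ b) (h : (1 : ℂ) + q * b - q = 0) : False := by
  have e : b = ((((q : ℚ) - 1) / q : ℚ) : ℂ) := by
    push_cast
    rw [eq_div_iff (Nat.cast_ne_zero.mpr (by omega))]
    linear_combination h
  rw [e] at hb
  obtain ⟨n, hn⟩ := exists_int_of_isIntegral_ratCast hb
  rw [div_eq_iff (by positivity)] at hn
  have : ((q : ℤ) - 1) = n * q := by exact_mod_cast hn
  have hd : (q : ℤ) ∣ 1 := ⟨1 - n, by linear_combination -this⟩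
  have := Int.le_of_dvd one_pos hd
  omega

theorem IneqData.row_zero (d : IneqData S T H K P Q p q u v c i₀ A B D ε a O OK) {g : G} (h : A i₀ g = 0) (i : ι) :
    A i g = 0 := by
  obtain ⟨s, hs⟩ := d.galA i
  rw [hs, h, map_zero]

/-- (13.10). -/
theorem IneqData.bound (d : IneqData S T H K P Q p q u v c i₀ A B D ε a O OK) :
    mBound p q * (p : ℝ) ^ (q - 1) * c < q * u := by
  classical
  haveI := d.commH
  haveI := d.commK
  have hε : (ε : ℂ) ≠ 0 := by rcases d.eps with h | h <;> simp [h]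
  have hεa : (ε * a) * (ε * a) = 1 := by rcases d.eps with h | h <;> rcases d.sign with h' | h' <;> simp [h, h']
  have haa : a * a = 1 := by rcases d.sign with h' | h' <;> simp [h']
  have hsum0 : ∀ g, A i₀ g = 0 → ∑ i, A i g = 0 := fun g h => Finset.sum_eq_zero fun i _ => d.row_zero h i
  have hq2 : 2 ≤ q := d.hq.two_le
  have hPH : Nat.card (P.subgroupOf H) = p ^ q := by
    rw [Nat.card_congr (Subgroup.subgroupOfEquivOfLe d.leH).toEquiv, d.cardP]
  have hQK : Nat.card (Q.subgroupOf K) = q ^ p := by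
    rw [Nat.card_congr (Subgroup.subgroupOfEquivOfLe d.leK).toEquiv, d.cardQ]
  have hPne : P.subgroupOf H ≠ ⊥ := fun e => by
    rw [e, Subgroup.card_bot] at hPH
    exact (Nat.one_lt_pow d.hq.ne_zero (show 1 < p by have := d.hp; omega)).ne hPH
  have hQne : Q.subgroupOf K ≠ ⊥ := fun e => by
    rw [e, Subgroup.card_bot] at hQK
    exact (Nat.one_lt_pow (show p ≠ 0 by have := d.hp; omega) d.hq.one_lt).ne hQK
  -- shapes on `H`
  obtain ⟨gA, hgA⟩ := exists_shape_of_hasCoef (by simp) d.coefHA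
  obtain ⟨gD, hgD⟩ := exists_shape_of_hasCoef d.edgeO.ne_one d.coefHD
  have hgAv : ∀ x : H, x ≠ 1 → gA x = A i₀ x := fun x hx => by simpa using (hgA.eq x hx).symm
  obtain ⟨tA, htA⟩ := shape_value_int hPne hgA (genChar_restrict (d.genA i₀) H)
  obtain ⟨tD, htD⟩ := shape_value_int hPne hgD (genChar_restrict d.genD H)
  obtain ⟨z, hzP, hz1, ζ, ω, hζ, hω, hzc⟩ := d.congrP
  have hzt : A i₀ z = tA := by
    rw [← hgAv z hz1, ← htA, ← hgA.periodic 1 z (Subgroup.mem_subgroupOf.mpr hzP), one_mul]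
  have hdvA : (q : ℤ) ∣ tA - 1 := by
    refine prime_dvd_of_one_sub_root d.hq hζ hω ?_
    rw [← hzc, hzt]; push_cast; ring
  have htA0 : tA ≠ 0 := fun e => by
    rw [e] at hdvA
    have := Int.le_of_dvd one_pos (show (q : ℤ) ∣ 1 by simpa using hdvA)
    omega
  have hrowz : ∀ i, A i z = tA := fun i => by
    obtain ⟨s, hs⟩ := d.galA i
    rw [hs, hzt, map_intCast]
  have hgDz : gD z = tD := by
    rw [← htD, ← hgD.periodic 1 z (Subgroup.mem_subgroupOf.mpr hzP), one_mul]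
  have hrowsum : ∑ i, A i (z : G) = ((q : ℂ) - 1) * tA := by
    rw [Finset.sum_congr rfl fun i _ => hrowz i, Finset.sum_const, Finset.card_univ, d.card_ι, nsmul_eq_mul,
      Nat.cast_sub (by omega), Nat.cast_one]
  have hdvD : (q : ℤ) ∣ tD := by
    obtain ⟨θ, hθ, hr⟩ := d.relH z hz1
    have e : D z - ∑ ψ ∈ O, (ψ z : ℂ) = (tD : ℂ) := by
      rw [hgD.eq z hz1, hgDz]; simp
    obtain ⟨m, hm⟩ := hdvA
    rw [e, hrowsum] at hr
    have hdiv : ∃ w : ℂ, IsIntegral ℤ w ∧ (tD : ℂ) = (q : ℂ) * w := by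
      refine ⟨(ε : ℂ) * ((tA : ℂ) + B z - 1 - m) - θ, ?_, ?_⟩
      · have hi : ∀ n : ℤ, IsIntegral ℤ (n : ℂ) := fun n => isIntegral_algebraMap (x := n)
        exact ((hi ε).mul ((((hi tA).add (isIntegral_of_genChar d.genB z)).sub isIntegral_one).sub (hi m))).sub hθ
      · rw [hr]
        have hm' : (tA : ℂ) - 1 = (q : ℂ) * m := by exact_mod_cast congrArg (Int.cast (R := ℂ)) hm
        linear_combination -(ε : ℂ) * hm'
    obtain ⟨w, hw, hwe⟩ := hdiv
    have e' : w = (((tD : ℚ) / q : ℚ) : ℂ) := by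
      push_cast
      rw [eq_div_iff (Nat.cast_ne_zero.mpr (by omega)), mul_comm, hwe]
    rw [e'] at hw
    obtain ⟨n, hn⟩ := exists_int_of_isIntegral_ratCast hw
    rw [div_eq_iff (Nat.cast_ne_zero.mpr (by omega))] at hn
    exact ⟨n, by rw [mul_comm]; exact_mod_cast hn⟩
  have hoffH : ∀ x : H, x ∉ P.subgroupOf H → gA x ≠ 0 ∨ gD x ≠ 0 := fun x hx => by
    have hx1 : x ≠ 1 := fun e => hx (e ▸ one_mem _)
    by_contra hno
    push Not at hno
    obtain ⟨θ, hθ, hr⟩ := d.relH x hx1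
    have hA0 : A i₀ x = 0 := by rw [← hgAv x hx1, hno.1]
    have e : D x - ∑ ψ ∈ O, (ψ x : ℂ) = 0 := by
      rw [hgD.eq x hx1, hno.2]; simp
    rw [e, hsum0 _ hA0] at hr
    refine col_not_zero (b := B x - (ε : ℂ) * θ) hq2
      ((isIntegral_of_genChar d.genB x).sub ((isIntegral_algebraMap (x := ε)).mul hθ)) ?_
    have hεε : (ε : ℂ) * ε = 1 := by rcases d.eps with h | h <;> simp [h]
    linear_combination -(ε : ℂ) * hr - (1 + (q : ℂ) * B x - q) * hεε
  have hSb := sBound d.edgeO (by norm_num) hgA hgD htA htD htA0 (by omega) hdvD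
    (by rw [d.cardO, hPH]; nlinarith [d.u_le])
    (off_bound hgA hgD (genChar_restrict (d.genA i₀) H) (genChar_restrict d.genD H) hoffH)
  -- shapes on `K`
  have hsub : ∀ i, IsEdgeFree (Q.subgroupOf K) (OK i) := fun i =>
    edgeFree_subset d.edgeOK (Finset.subset_biUnion_of_mem OK (Finset.mem_univ i))
  choose g hg using fun i => exists_shape_of_hasCoef (hsub i).ne_one (d.coefKA i)
  obtain ⟨gB, hgB⟩ := exists_shape_of_hasCoef (by simp) d.coefKB
  obtain ⟨t, ht⟩ := shape_value_int hQne (hg i₀) (genChar_restrict (d.genA i₀) K)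
  obtain ⟨tB, htB⟩ := shape_value_int hQne hgB (genChar_restrict d.genB K)
  have hnc : ∀ x : K, x ≠ 1 → (x : G) ∈ conjSpan K := fun x hx =>
    mem_conjSpan.mpr ⟨fun e => hx (Subtype.ext e), 1, x, x.2, by group⟩
  have hncH : ∀ x : K, x ≠ 1 → (x : G) ∉ conjSpan H := fun x hx h =>
    Finset.disjoint_left.mp d.disj h (hnc x hx)
  let gT : K → ℂ := fun x => (ε : ℂ) * (1 + ∑ i, g i x + (q : ℂ) * gB x - q)
  have hgT : IsShape (Q.subgroupOf K) (Finset.univ.biUnion OK) (ε * a) (fun x : K => D x) gT := by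
    refine ⟨fun x w hw => ?_, fun x hx => ?_⟩
    · simp only [gT, hgB.periodic x w hw, fun i => (hg i).periodic x w hw]
    · rcases d.rel x (fun e => hx (Subtype.ext e)) (hncH x hx) with ⟨-, h⟩ | h
      · exact absurd (hnc x hx) h
      · rw [h, Finset.sum_biUnion fun i _ j _ hij => d.disjOK i j hij]
        have hB : B x = gB x := by simpa using hgB.eq x hx
        rw [hB, Finset.sum_congr rfl fun i _ => (hg i).eq x hx, Finset.sum_add_distrib, ← Finset.mul_sum]
        simp only [gT]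
        push_cast
        ring
  have hrow : ∀ (x : K), g i₀ x = 0 → ∀ i, g i x = 0 := fun x hx i => by
    obtain ⟨s, hs⟩ := d.galA i
    rw [shape_galois hQne (hsub i₀) (hsub i) (by rw [d.cardOK, d.cardOK]) (hg i₀) (hg i) s (fun y => hs y) x, hx,
      map_zero]
  have hgBint : ∀ x : K, IsIntegral ℤ (gB x) := fun x => by
    by_cases hx : x = 1
    · rw [hx, htB]; exact isIntegral_algebraMap (x := tB)
    · rw [show gB x = B x by simpa using (hgB.eq x hx).symm]; exact isIntegral_of_genChar d.genB x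
  have hgTne : ∀ x : K, g i₀ x = 0 → gT x ≠ 0 := fun x hx h => by
    simp only [gT, Finset.sum_eq_zero fun i _ => hrow x hx i, add_zero] at h
    exact col_not_zero hq2 (hgBint x) ((mul_eq_zero.mp h).resolve_left hε)
  obtain ⟨tT, htT⟩ := shape_value_int hQne hgT (genChar_restrict d.genD K)
  have hOKcard : (Finset.univ.biUnion OK).card = (q - 1) * v := by
    rw [Finset.card_biUnion fun i _ j _ hij => d.disjOK i j hij, Finset.sum_congr rfl fun i _ => d.cardOK i,
      Finset.sum_const, Finset.card_univ, d.card_ι, smul_eq_mul]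
  have hgeom := geom_mul_pred (p := q) (q := p) d.hq.one_le
  have hTb := tBound (hsub i₀) d.edgeOK haa hεa (hg i₀) hgT ht htT
    (by
      by_contra h
      push Not at h
      exact hgTne 1 (by rw [ht, h.1, Int.cast_zero]) (by rw [htT, h.2, Int.cast_zero]))
    (by rw [d.cardOK, hOKcard]; exact Nat.mul_le_mul_right v (by have := d.hq3; omega))
    (by
      rw [hOKcard, hQK]
      have := Nat.mul_le_mul_left (q - 1) d.v_le
      rw [mul_comm (q - 1) (geom q p)] at this
      omega)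
    (off_bound (hg i₀) hgT (genChar_restrict (d.genA i₀) K) (genChar_restrict d.genD K) fun x _ => by
      by_cases h : g i₀ x = 0
      · exact Or.inr (hgTne x h)
      · exact Or.inl h)
  rw [d.cardOK, hOKcard] at hTb
  rw [d.cardO] at hSb
  -- the global inequality
  have hne : ∀ x : G, x ≠ 1 → x ∉ conjSpan H → x ∉ conjSpan K → A i₀ x ≠ 0 ∨ D x ≠ 0 := by
    intro x hx hxH _
    rcases d.rel x hx hxH with ⟨h, -⟩ | h
    · exact Or.inl (h i₀)
    · by_contra hno
      push Not at hno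
      rw [hno.2, hsum0 x hno.1, add_zero, eq_comm] at h
      exact col_not_zero hq2 (isIntegral_of_genChar d.genB x) ((mul_eq_zero.mp h).resolve_left hε)
  have hgl := global_norm d.tiH d.tiK d.disj (d.genA i₀) d.genD d.normA d.normD
    (one_le_normSq_one (d.genA i₀) (one_ne_zero_of_norm_one (d.genA i₀) d.normA))
    (one_le_normSq_one d.genD (one_ne_zero_of_norm_one d.genD d.normD)) hne
    (A := (Nat.card H : ℝ) * ((q * u : ℕ) : ℝ) - ((q * u : ℕ) : ℝ) ^ 2)
    (B := (Nat.card K : ℝ) * (v : ℝ) - (v : ℝ) ^ 2 - (((q - 1) * v : ℕ) : ℝ))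
    (le_trans (le_of_eq (by ring)) hSb) (le_trans (le_of_eq (by ring)) hTb)
  refine main_ineq (k := Nat.card K) (v := v) (g := Nat.card G) (iS := S.index) (iT := T.index)
    d.hp d.hq3 d.cardH (d.cardQ ▸ Nat.le_of_dvd Nat.card_pos (Subgroup.card_dvd_of_le d.leK)) d.v_le d.posu
    d.posc d.posv ?_ ?_ ?_
  · rw [← d.cardS, Subgroup.index_mul_card]
  · rw [← d.cardT, Subgroup.index_mul_card]
  · push_cast [show 1 ≤ q by omega] at hgl
    exact hgl

end Main

end CfsgLib.OddOrder.S13
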