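import Cfsg.Agent.Lib.OddOrder.S13.Exists
import Cfsg.Agent.Lib.OddOrder.S13.Ineq
import Cfsg.Agent.Lib.OddOrder.Found.Subcoherent
import Cfsg.Agent.Lib.CharTheory.TI
import Cfsg.Agent.Lib.CharTheory.CoherenceUnion

/-!
Peterfalvi (13.3), (13.5): the inner products of the coherent images with the characters induced from
linear characters of `F(S)`, and the values of the Dade map on functions carried by `F(S)`.
-/

set_option autoImplicit false
set_option linter.unusedSectionVars false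
set_option linter.style.haveILetI false

namespace CfsgLib.OddOrder.S13

open Subgroup Cfsg CfsgLib.MinSimpleOdd CfsgLib.OddOrder.S9 CfsgLib.CharTheory CfsgLib.OddOrder.Found CfsgLib.Dade
open scoped commutatorElement ComplexConjugate

universe u

variable {G : Type u} [Group G]

theorem li_zero_eval {L : Type u} [Group L] [Fintype L] [Fintype G] {X : Set (L → ℂ)} {σ : (L → ℂ) → (G → ℂ)}
    (hσ : IsLinearIsometryOn (zspan X) σ) : σ 0 = 0 := by
  have := hσ.2.1 0 (Submodule.zero_mem _) 0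
  simpa using this

theorem li_sum {L : Type u} [Group L] [Fintype L] [Fintype G] {X : Set (L → ℂ)} {σ : (L → ℂ) → (G → ℂ)}
    (hσ : IsLinearIsometryOn (zspan X) σ) {ι : Type*} (s : Finset ι) (f : ι → L → ℂ)
    (hf : ∀ i ∈ s, f i ∈ zspan X) : σ (∑ i ∈ s, f i) = ∑ i ∈ s, σ (f i) := by
  classical
  induction s using Finset.induction_on with
  | empty => simp [li_zero_eval hσ]
  | @insert a s ha ih =>
    rw [Finset.sum_insert ha, Finset.sum_insert ha, hσ.1 _ (hf a (Finset.mem_insert_self a s)) _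
      (Submodule.sum_mem _ fun i hi => hf i (Finset.mem_insert_of_mem hi)),
      ih fun i hi => hf i (Finset.mem_insert_of_mem hi)]

variable [Fintype G]

/-- The members of the character set `S(P)`. -/
def memberSet (S : Subgroup G) [Fintype S] : Set (S → ℂ) := indSet (derK S) ((fittingHallOf S).subgroupOf S)

/-- (9.11) in the form used by section 13: the coherent extension `τ₁` of `S(P)`, which maps a column sum to a
signed column and the irreducible members to characters orthogonal to the whole table. -/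
structure CohData {S W₁ W₂ : Subgroup G} [Fintype S] [Fintype (W₁.subgroupOf S →* ℂˣ)] {A₀ : Set G}
    {R : G → Subgroup G} (d : IsPrimeDade S (derK S) ((fittingHallOf S).subgroupOf S) W₁ W₂ A₀ R)
    (χ : WLin W₁ W₂ → (G → ℂ)) (τ₁ : (S → ℂ) → (G → ℂ)) (ε : ℤ)
    (π : (W₂.subgroupOf S →* ℂˣ) → (W₂.subgroupOf S →* ℂˣ)) : Prop where
  fam : IsCyclicTIFamily W₁ W₂ χ
  iso : IsLinearIsometryOn (zspan (memberSet S)) τ₁
  agree : ∀ α ∈ zspanOn (memberSet S) {1}ᶜ, τ₁ α = dadeIsometry A₀ S R α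
  eps : ε = 1 ∨ ε = -1
  ne_one : ∀ b, b ≠ 1 → π b ≠ 1
  col : ∀ b, b ≠ 1 →
    τ₁ (d.ti.muSum b) = (ε : ℂ) • ∑ a : W₁.subgroupOf S →* ℂˣ, χ (d.idx a (π b))
  orth : ∀ φ ∈ memberSet S, IsIrrCharacter S φ → ∀ ω, classInner (τ₁ φ) (χ ω) = 0

/-- `Ind` from `F(S)` to `S`. -/
noncomputable def indF {S : Subgroup G} [Fintype S] (ψ : fittingOf S →* ℂˣ) : S → ℂ :=
  indFun ((fittingOf S).subgroupOf S) fun x => (ψ ⟨((x : S) : G), Subgroup.mem_subgroupOf.mp x.2⟩ : ℂ)

theorem indF_trans {S : Subgroup G} [Fintype S] (ψ : fittingOf S →* ℂˣ) :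
    indFun S (indF ψ) = indFun (fittingOf S) fun x => (ψ x : ℂ) :=
  indFun_trans (fittingOf S) S (fittingOf_le S) fun x => (ψ x : ℂ)

theorem indF_classInner {S : Subgroup G} [Fintype S] [Fintype (fittingOf S)] (ψ : fittingOf S →* ℂˣ) {Φ : S → ℂ}
    (hΦ : IsClassFunction S Φ) :
    classInner (indF ψ) Φ = classInner (fun x : fittingOf S => (ψ x : ℂ)) (fun x => Φ (inclS S x)) := by
  classical
  rw [indF, frobenius_reciprocity _ _ hΦ]
  simp only [classInner, Nat.card_congr (Subgroup.subgroupOfEquivOfLe (fittingOf_le S)).toEquiv]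
  congr 1
  exact Fintype.sum_equiv (Subgroup.subgroupOfEquivOfLe (fittingOf_le S)).toEquiv _ _ fun x => rfl

theorem indF_apply_one {S : Subgroup G} [Fintype S] (ψ : fittingOf S →* ℂˣ) :
    indF ψ 1 = (((fittingOf S).subgroupOf S).index : ℂ) := by
  rw [indF, indFun_apply_one]
  show _ * (ψ 1 : ℂ) = _
  rw [map_one, Units.val_one, mul_one]

theorem indF_support {S : Subgroup G} [Fintype S] (ψ : fittingOf S →* ℂˣ) {x : S} (hx : (x : G) ∉ fittingOf S) :
    indF ψ x = 0 := by
  refine indFun_eq_zero_of_not_isConj _ _ fun y hy => hx ?_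
  have h1 : (y : G)⁻¹ * x * y ∈ fittingOf S := Subgroup.mem_subgroupOf.mp hy
  have h2 := (mem_normalizer_iff.mp (le_normalizer_fittingOf S y.2) _).mp h1
  simpa [mul_assoc] using h2

namespace FTPair

variable {S T W₁ W₂ U V : Subgroup G} (h : FTPair S T W₁ W₂ U V) (imp : FTImports G)
include h imp

theorem isTIIn_fitting : IsTIIn (fittingOf S) S :=
  ⟨fittingOf_le S, fun _ hs x hx => (mem_normalizer_iff.mp (le_normalizer_fittingOf S hs) x).mp hx,
    fun g hg x hx hgx => by
      by_contra hx1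
      exact hg (h.mem_of_conj_fitting imp hx hx1 hgx)⟩

theorem conj_fitting_mem_conjSpan {g x : G} (hx : x ∈ fittingOf S) (hx1 : x ≠ 1) :
    g * x * g⁻¹ ∈ conjSpan (fittingOf S) :=
  mem_conjSpan.mpr ⟨fun e => hx1 (conj_eq_one_iff.mp e), g, x, hx, rfl⟩

section Dade

variable [Fintype S] {A₀ : Set G} {R : G → Subgroup G}
  (d : IsPrimeDade S (derK S) ((fittingHallOf S).subgroupOf S) W₁ W₂ A₀ R)
include d

theorem mem_A₀ {x : S} (hx : (x : G) ∈ fittingOf S) (hx1 : x ≠ 1) : (x : G) ∈ A₀ := by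
  obtain ⟨⟨z, hz⟩, hz1⟩ := Subgroup.ne_bot_iff_exists_ne_one.mp
    (fun e : fittingHallOf S = ⊥ => (h.typeData imp).W2_ne (le_bot_iff.mp (e ▸ (h.typeData imp).W2_le)))
  have hzS : z ∈ S := (h.typeData imp).H_le hz
  refine d.centralA x (Subgroup.mem_subgroupOf.mpr (h.fitting_le_der imp hx)) hx1 ⟨z, hzS⟩
    (Subgroup.mem_subgroupOf.mpr hz) (fun e => hz1 (Subtype.ext (congrArg (fun s : S => (s : G)) e)))
    (Subtype.ext ?_)
  have := congrArg Subtype.val (h.fitting_comm imp ⟨(x : G), hx⟩ ⟨z, h.P_le_fitting imp hz⟩)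
  exact this

/-- On functions carried by `F(S)#` the Dade map is the identity on `F(S)#` and zero off its conjugates. -/
theorem dade_support {α : S → ℂ} (hα : IsClassFunction S α)
    (hsupp : ∀ x : S, α x ≠ 0 → (x : G) ∈ fittingOf S ∧ x ≠ 1) :
    (∀ x : S, (x : G) ∈ fittingOf S → x ≠ 1 → dadeIsometry A₀ S R α x = α x) ∧
      (∀ g : G, g ∉ conjSpan (fittingOf S) → dadeIsometry A₀ S R α g = 0) ∧
      dadeIsometry A₀ S R α = indFun S α := by
  classical
  have h1 : ∀ x : S, (x : G) ∈ fittingOf S → x ≠ 1 → dadeIsometry A₀ S R α x = α x := fun x hx hx1 =>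
    dade_apply d.dade hα (h.mem_A₀ imp d hx hx1) (u := 1) (one_mem _) (x := 1) (by simp)
  have h2 : ∀ g : G, g ∉ conjSpan (fittingOf S) → dadeIsometry A₀ S R α g = 0 := fun g hg => by
    by_cases hex : ∃ a : S, (a : G) ∈ A₀ ∧ ∃ x : G, ∃ u ∈ R (a : G), x * g * x⁻¹ = (a : G) * u
    swap
    · rw [dadeIsometry, dif_neg hex]
    obtain ⟨a, ha, x, u, hu, hxg⟩ := hex
    rw [dade_apply d.dade hα ha hu hxg]
    by_contra hne
    obtain ⟨haF, ha1⟩ := hsupp a hne
    have ha1' : (a : G) ≠ 1 := fun e => ha1 (Subtype.ext e)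
    have hu1 : u = 1 := by
      have hmem : u ∈ R (a : G) ⊓ (S ⊓ centralizer ({(a : G)} : Set G)) :=
        ⟨hu, h.centralizer_le imp haF ha1' (d.dade.le_centralizer _ ha hu), d.dade.le_centralizer _ ha hu⟩
      rwa [d.dade.inf_eq_bot _ ha, mem_bot] at hmem
    rw [hu1, mul_one] at hxg
    refine hg ?_
    rw [show g = x⁻¹ * (a : G) * x⁻¹⁻¹ by rw [← hxg]; group]
    exact h.conj_fitting_mem_conjSpan imp haF ha1'
  refine ⟨h1, h2, funext fun g => ?_⟩
  by_cases hg : g ∈ conjSpan (fittingOf S)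
  · obtain ⟨hg1, k, x, hx, rfl⟩ := mem_conjSpan.mp hg
    rw [isClassFunction_dade d.dade hα x k, indFun_isClassFunction S α x k]
    have hx1 : (⟨x, fittingOf_le S hx⟩ : S) ≠ 1 := fun e => hg1 (by
      rw [show x = 1 from congrArg (fun s : S => (s : G)) e]; simp)
    rw [show x = ((⟨x, fittingOf_le S hx⟩ : S) : G) from rfl, h1 _ hx hx1]
    refine (indFun_apply_of_TI S (fittingOf S : Set G) (fun g hg s hs hgs => (h.isTIIn_fitting imp).ti g hg s hs hgs)
      hα (fun y hy => ?_) ?_ _ hx).symm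
    · by_contra hne
      exact hy (hsupp y hne).1
    · by_contra hne
      exact (hsupp 1 hne).2 rfl
  · rw [h2 g hg, indFun, Finset.sum_eq_zero, mul_zero]
    intro y _
    by_cases hy : y⁻¹ * g * y ∈ S
    · rw [extendByZero_of_mem _ _ hy]
      by_contra hne
      obtain ⟨hF, h1'⟩ := hsupp _ hne
      refine hg ?_
      rw [show g = y * (y⁻¹ * g * y) * y⁻¹ by group]
      exact h.conj_fitting_mem_conjSpan imp hF fun e => h1' (Subtype.ext e)
    · exact extendByZero_of_not_mem _ _ hy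

variable [Fintype (fittingOf S)] [Fintype (derK S)]

/-- `Ind ψ` as a combination of members. -/
theorem indF_decomp {ψ : fittingOf S →* ℂˣ} (hψ : NonTrivP S ψ) :
    ∃ n : IrrCharacter (derK S) → ℕ,
      (∀ θ : IrrCharacter (derK S), classInner (fun y => (θ : derK S → ℂ) (h.jK imp y)) (fun y => (ψ y : ℂ)) = (n θ : ℂ)) ∧
      (∀ θ, n θ ≠ 0 → indFun (derK S) (θ : derK S → ℂ) ∈ memberSet S) ∧
      indF ψ = ∑ θ, (n θ : ℤ) • indFun (derK S) (θ : derK S → ℂ) := by
  classical
  choose n hn using fun θ : IrrCharacter (derK S) =>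
    classInner_char_nat (isCharacter_comp (isCharacter_of_irr θ.2) (h.jK imp))
      (isCharacter_of_irr (isIrrCharacter_linear ψ))
  refine ⟨n, hn, fun θ hθ => ⟨θ, θ.2, fun hk => hθ ?_, rfl⟩, ?_⟩
  · obtain ⟨z, hz, hz1⟩ := hψ
    have hinv : ∀ y, (θ : derK S → ℂ) (h.jK imp (y * z)) = (θ : derK S → ℂ) (h.jK imp y) := fun y => by
      obtain ⟨m, ρ, -, hρ⟩ := θ.2
      have hρz : ρ (h.jK imp z) = 1 := rep_apply_eq_one_of_char_eq ρ (by
        rw [hρ]; exact hk _ (Subgroup.mem_subgroupOf.mpr hz))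
      rw [← hρ]
      simp [Representation.character, hρz]
    have e : classInner (fun y => (θ : derK S → ℂ) (h.jK imp y)) (fun y => (ψ y : ℂ)) =
        conj (ψ z : ℂ) * classInner (fun y => (θ : derK S → ℂ) (h.jK imp y)) (fun y => (ψ y : ℂ)) := by
      simp only [classInner]
      rw [mul_left_comm (conj (ψ z : ℂ)), Finset.mul_sum _ _ (conj (ψ z : ℂ))]
      congr 1
      refine (Fintype.sum_equiv (Equiv.mulRight z) _ _ fun y => ?_).symm
      simp only [Equiv.coe_mulRight]
      rw [hinv, map_mul, Units.val_mul, map_mul]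
      ring
    rw [hn] at e
    by_contra hne
    have h1 : conj (ψ z : ℂ) = 1 := mul_right_cancel₀ (Nat.cast_ne_zero.mpr hne) (by rw [one_mul]; exact e.symm)
    exact hz1 (Units.ext (by simpa using congrArg conj h1))
  · refine classFun_ext (indFun_isClassFunction _ _) (isClassFunction_sum _ _ fun θ _ => ?_) fun Φ hΦ => ?_
    · rw [← Int.cast_smul_eq_zsmul ℂ]
      exact isClassFunction_smul _ (indFun_isClassFunction _ _)
    have hΦc := isClassFunction_irr hΦ
    rw [indF_classInner ψ hΦc, classInner_sum_left]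
    have hres : IsClassFunction (derK S) (fun k : derK S => Φ k) := fun a b => hΦc (a : S) b
    have hΦF : (fun x => Φ (inclS S x)) = fun y => (∑ θ : IrrCharacter (derK S),
        classInner (fun k : derK S => Φ k) (θ : derK S → ℂ) • (θ : derK S → ℂ)) (h.jK imp y) := by
      funext y
      rw [← eq_sum_irr hres]
      rfl
    rw [hΦF, show (fun y => (∑ θ : IrrCharacter (derK S), classInner (fun k : derK S => Φ k) (θ : derK S → ℂ) •
        (θ : derK S → ℂ)) (h.jK imp y)) = ∑ θ : IrrCharacter (derK S),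
        classInner (fun k : derK S => Φ k) (θ : derK S → ℂ) • fun y => (θ : derK S → ℂ) (h.jK imp y) by
      funext y; simp [Finset.sum_apply], classInner_sum_right]
    refine Finset.sum_congr rfl fun θ _ => ?_
    rw [classInner_smul_right, ← classInner_comm (fun y => (θ : derK S → ℂ) (h.jK imp y)) (fun y => (ψ y : ℂ)), hn,
      map_natCast, classInner_comm, ← Int.cast_smul_eq_zsmul ℂ, classInner_smul_left,
      frobenius_reciprocity _ _ hΦc, Int.cast_natCast, mul_comm]

theorem indF_mem {ψ : fittingOf S →* ℂˣ} (hψ : NonTrivP S ψ) : indF ψ ∈ zspan (memberSet S) := by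
  obtain ⟨n, -, hmem, e⟩ := h.indF_decomp imp d hψ
  rw [e]
  refine Submodule.sum_mem _ fun θ _ => ?_
  by_cases hθ : n θ = 0
  · rw [hθ, Nat.cast_zero, zero_smul]; exact Submodule.zero_mem _
  · exact Submodule.smul_mem _ _ (Submodule.subset_span (hmem θ hθ))

theorem indF_sub_mem {ψ φ : fittingOf S →* ℂˣ} (hψ : NonTrivP S ψ) (hφ : NonTrivP S φ) :
    indF ψ - indF φ ∈ zspanOn (memberSet S) {1}ᶜ := by
  refine ⟨Submodule.sub_mem _ (h.indF_mem imp d hψ) (h.indF_mem imp d hφ), fun x hx => ?_⟩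
  rw [Set.mem_compl_iff, Set.mem_singleton_iff, not_not] at hx
  subst hx
  rw [Pi.sub_apply, indF_apply_one, indF_apply_one, sub_self]

variable [Fintype (W₁.subgroupOf S →* ℂˣ)] {χ : WLin W₁ W₂ → (G → ℂ)} {τ₁ : (S → ℂ) → (G → ℂ)} {ε : ℤ}
  {π : (W₂.subgroupOf S →* ℂˣ) → (W₂.subgroupOf S →* ℂˣ)} (hc : CohData d χ τ₁ ε π)
include hc

/-- The inner products against differences of induced linear characters of `F(S)`. -/
theorem classInner_indFun_sub (F : G → ℂ) {ψ φ : fittingOf S →* ℂˣ} (hψ : NonTrivP S ψ) (hφ : NonTrivP S φ) :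
    classInner F (indFun (fittingOf S) fun x => (ψ x : ℂ)) - classInner F (indFun (fittingOf S) fun x => (φ x : ℂ)) =
      classInner F (τ₁ (indF ψ)) - classInner F (τ₁ (indF φ)) := by
  have hmem := h.indF_sub_mem imp d hψ hφ
  have hcl : IsClassFunction S (indF ψ - indF φ) :=
    isClassFunction_sub (indFun_isClassFunction _ _) (indFun_isClassFunction _ _)
  obtain ⟨-, -, e⟩ := h.dade_support imp d hcl fun x hx => by
    by_contra hno
    refine hx ?_
    by_cases hx1 : x = 1
    · exact hmem.2 x (by simp [hx1])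
    · have hxF : (x : G) ∉ fittingOf S := fun hf => hno ⟨hf, hx1⟩
      rw [Pi.sub_apply, indF_support ψ hxF, indF_support φ hxF, sub_zero]
  have hsub := hc.agree _ hmem
  rw [isometryOn_sub hc.iso (h.indF_mem imp d hψ) (h.indF_mem imp d hφ), e] at hsub
  rw [← classInner_sub_right, ← classInner_sub_right, hsub, ← indF_trans, ← indF_trans]
  rw [indFun_sub]

theorem classInner_tau_indF (F : G → ℂ) {ψ : fittingOf S →* ℂˣ} (hψ : NonTrivP S ψ) :
    classInner F (τ₁ (indF ψ)) = ∑ θ : IrrCharacter (derK S),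
      classInner (fun y => (θ : derK S → ℂ) (h.jK imp y)) (fun y => (ψ y : ℂ)) *
        classInner F (τ₁ (indFun (derK S) (θ : derK S → ℂ))) := by
  classical
  obtain ⟨n, hn, hmem, e⟩ := h.indF_decomp imp d hψ
  have hz : ∀ θ : IrrCharacter (derK S), (n θ : ℤ) • indFun (derK S) (θ : derK S → ℂ) ∈ zspan (memberSet S) := fun θ => by
    by_cases hθ : n θ = 0
    · rw [hθ, Nat.cast_zero, zero_smul]; exact Submodule.zero_mem _
    · exact Submodule.smul_mem _ _ (Submodule.subset_span (hmem θ hθ))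
  rw [e, li_sum hc.iso _ _ fun θ _ => hz θ, classInner_sum_right]
  refine Finset.sum_congr rfl fun θ _ => ?_
  rw [hn]
  by_cases hθ : n θ = 0
  · rw [hθ, Nat.cast_zero, zero_smul, li_zero_eval hc.iso, classInner_zero_right, Nat.cast_zero, zero_mul]
  · rw [hc.iso.2.1 _ (Submodule.subset_span (hmem θ hθ)), ← Int.cast_smul_eq_zsmul ℂ, classInner_smul_right,
      map_intCast, Int.cast_natCast]

open scoped Classical in
/-- The projection of the table on the image of a member. -/
theorem classInner_family_member (ω : WLin W₁ W₂) {θ : derK S → ℂ} (hθ : IsIrrCharacter (derK S) θ)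
    (hmem : indFun (derK S) θ ∈ memberSet S) :
    (∀ b, θ = d.ti.colChar b → b ≠ 1 → classInner (χ ω) (τ₁ (indFun (derK S) θ)) =
      (ε : ℂ) * if ∃ a, d.idx a (π b) = ω then 1 else 0) ∧
    ((∀ b, θ ≠ d.ti.colChar b) → classInner (χ ω) (τ₁ (indFun (derK S) θ)) = 0) := by
  classical
  refine ⟨fun b e hb => ?_, fun hne => ?_⟩
  · subst e
    rw [d.ti.indFun_colChar, hc.col b hb, classInner_smul_right, map_intCast, classInner_sum_right]
    congr 1
    simp only [hc.fam.orthonormal]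
    by_cases hex : ∃ a, d.idx a (π b) = ω
    · obtain ⟨a, ha⟩ := hex
      rw [if_pos ⟨a, ha⟩]
      refine (Finset.sum_eq_single a (fun a' _ hne => if_neg fun e =>
        hne ((d.idx_eq_iff).mp (e.symm.trans ha.symm)).1) (by simp)).trans (if_pos ha.symm)
    · rw [if_neg hex]
      exact Finset.sum_eq_zero fun a _ => if_neg fun e => hex ⟨a, e.symm⟩
  · rw [← classInner_comm, hc.orth _ hmem (d.ti.isIrr_indFun_of_ne hθ hne), map_zero]

theorem classInner_family_indF (ω : WLin W₁ W₂) {ψ : fittingOf S →* ℂˣ} (hψ : NonTrivP S ψ) :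
    classInner (χ ω) (τ₁ (indF ψ)) = (ε : ℂ) * ∑ᶠ b ∈ {b | b ≠ 1 ∧ ∃ a, d.idx a (π b) = ω},
      classInner (fun y => d.ti.colChar b (h.jK imp y)) (fun y => (ψ y : ℂ)) := by
  classical
  haveI := finite_homC (H := W₂.subgroupOf S) d.ti.comm₂
  haveI := Fintype.ofFinite (W₂.subgroupOf S →* ℂˣ)
  rw [finsum_mem_eq_sum_of_inter_support_eq _ (t := Finset.univ.filter fun b => b ≠ 1 ∧ ∃ a, d.idx a (π b) = ω)
      (by ext b; simp), Finset.mul_sum, h.classInner_tau_indF imp d hc _ hψ]
  obtain ⟨n, hn, hmem, -⟩ := h.indF_decomp imp d hψ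
  symm
  refine Finset.sum_bij_ne_zero (fun b _ _ => (⟨d.ti.colChar b, d.ti.isIrr_colChar b⟩ : IrrCharacter (derK S)))
    (fun _ _ _ => Finset.mem_univ _) (fun a _ _ b _ _ e => d.ti.colChar_injective (congrArg Subtype.val e)) ?_ ?_
  · intro θ _ hne
    have h0 := left_ne_zero_of_mul hne
    rw [hn, Nat.cast_ne_zero] at h0
    by_cases hc' : ∃ b, (θ : derK S → ℂ) = d.ti.colChar b
    · obtain ⟨b, hb⟩ := hc'
      have hb1 : b ≠ 1 := fun e => by
        obtain ⟨z, hz, hz1⟩ := hψ
        refine Nat.cast_ne_zero.mpr h0 ((hn θ).symm.trans ?_)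
        rw [hb, e, show (fun y => d.ti.colChar 1 (h.jK imp y)) =
          fun y : fittingOf S => (((1 : fittingOf S →* ℂˣ) y : ℂˣ) : ℂ) from
          funext fun y => by simp [d.ti.colChar_one], classInner_linear, if_neg]
        exact fun e' => hz1 (by rw [← e']; rfl)
      have e2 := (h.classInner_family_member imp d hc ω θ.2 (hmem θ h0)).1 b hb hb1
      rw [e2] at hne
      have hex : ∃ a, d.idx a (π b) = ω := by
        by_contra hex
        exact hne (by rw [if_neg hex, mul_zero, mul_zero])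
      refine ⟨b, Finset.mem_filter.mpr ⟨Finset.mem_univ _, hb1, hex⟩, ?_, Subtype.ext hb.symm⟩
      rw [← hb]
      exact mul_ne_zero (by rcases hc.eps with e | e <;> simp [e]) (by rw [hn]; exact Nat.cast_ne_zero.mpr h0)
    · push Not at hc'
      exact absurd (by rw [(h.classInner_family_member imp d hc ω θ.2 (hmem θ h0)).2 hc', mul_zero]) hne
  · intro b hb hne
    obtain ⟨hb1, hex⟩ := (Finset.mem_filter.mp hb).2
    have h0 := right_ne_zero_of_mul hne
    rw [(h.classInner_family_member imp d hc ω (d.ti.isIrr_colChar b) (hmem ⟨_, d.ti.isIrr_colChar b⟩ ?_)).1 b rfl hb1,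
      if_pos hex, mul_one, mul_comm]
    intro e
    exact h0 (by rw [show classInner (fun y => d.ti.colChar b (h.jK imp y)) (fun y => (ψ y : ℂ)) = _ from
      hn ⟨_, d.ti.isIrr_colChar b⟩, e, Nat.cast_zero])

end Dade

end FTPair

end CfsgLib.OddOrder.S13
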