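import Cfsg.Agent.Lib.OddOrder.S13.Coh
import Cfsg.Agent.Lib.OddOrder.S8.Tame
import Cfsg.Agent.Lib.OddOrder.S9b.Main
import Cfsg.Agent.Lib.OddOrder.S9b.Degree

/-!
Peterfalvi (9.11) for a pair `(S, T)`: the group data of section 9b, the prime Dade hypothesis on `A₀(S)` and
the coherence data used by section 13.
-/

set_option autoImplicit false
set_option linter.unusedSectionVars false
set_option linter.style.haveILetI false

namespace CfsgLib.OddOrder.S13

open Subgroup Cfsg CfsgLib.MinSimpleOdd CfsgLib.OddOrder.S9 CfsgLib.CharTheory CfsgLib.OddOrder.Found CfsgLib.Dade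
open scoped commutatorElement ComplexConjugate Pointwise

universe u

variable {G : Type u} [Group G]

/-- A subgroup of `S` normalizing `X` in `S` normalizes its image in `G`. -/
theorem normalizer_map_of_subgroupOf [Finite G] {S U : Subgroup G} {X : Subgroup ↥S} (hUS : U ≤ S)
    (h : U.subgroupOf S ≤ normalizer (X : Set ↥S)) : U ≤ normalizer ((X.map S.subtype : Subgroup G) : Set G) :=
  fun u hu => mem_normalizer_of_conj fun x hx => by
    obtain ⟨y, hy, rfl⟩ := hx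
    exact ⟨_, (mem_normalizer_iff.mp (h (Subgroup.mem_subgroupOf.mpr (show ((⟨u, hUS hu⟩ : S) : G) ∈ U from hu))) y).mp hy,
      rfl⟩

namespace FTPair

variable [Finite G] {S T W₁ W₂ U V : Subgroup G} (h : FTPair S T W₁ W₂ U V) (imp : FTImports G)
include h imp

theorem isPrimeTI : IsPrimeTI (derK S) (W₁.subgroupOf S) (W₂.subgroupOf S) := by
  have d := h.typeData imp
  have hW₂S : W₂ ≤ S := d.W2_le.trans d.H_le
  refine ⟨⟨fun x hx g => ?_⟩, ?_, ?_, ?_, ?_, ?_, ?_, ?_, ?_, fun x hx hx1 => ?_, ?_⟩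
  · exact Subgroup.mem_subgroupOf.mpr ((mem_normalizer_iff.mp (le_normalizer_derived g.2) _).mp
      (Subgroup.mem_subgroupOf.mp hx))
  · refine (eq_bot_iff_forall _).mpr fun x hx => Subtype.ext ?_
    have : (x : G) ∈ (⁅S, S⁆ : Subgroup G) ⊓ W₁ := ⟨hx.1, hx.2⟩
    rwa [d.compl_W.2.2.1, mem_bot] at this
  · refine eq_top_iff.mpr fun x _ => ?_
    obtain ⟨a, ha, w, hw, e⟩ := d.compl_W.2.2.2 x x.2
    have hx : x = ⟨a, commutator_le_self S ha⟩ * ⟨w, d.W_le hw⟩ := Subtype.ext e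
    rw [hx]
    exact mul_mem_sup (Subgroup.mem_subgroupOf.mpr ha) (Subgroup.mem_subgroupOf.mpr hw)
  · exact fun e => d.W1_ne (by
      rw [← Subgroup.map_subgroupOf_eq_of_le d.W_le, e, Subgroup.map_bot])
  · haveI := h.hSP.W₁_cyclic
    exact isCyclic_of_surjective (subgroupOfEquivOfLe d.W_le).symm (subgroupOfEquivOfLe d.W_le).symm.surjective
  · rw [Nat.card_congr (subgroupOfEquivOfLe d.W_le).toEquiv]
    exact h.hSP.W₁_hall
  · exact fun e => d.W2_ne (by
      rw [← Subgroup.map_subgroupOf_eq_of_le hW₂S, e, Subgroup.map_bot])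
  · haveI := d.W2_cyc
    exact isCyclic_of_surjective (subgroupOfEquivOfLe hW₂S).symm (subgroupOfEquivOfLe hW₂S).symm.surjective
  · exact fun x hx => Subgroup.mem_subgroupOf.mpr (d.H_le_der (d.W2_le (Subgroup.mem_subgroupOf.mp hx)))
  · have e := d.W2_eq x (Subgroup.mem_subgroupOf.mp hx) (fun e => hx1 (Subtype.ext e))
    ext y
    simp only [mem_inf, mem_centralizer_singleton_iff, Subgroup.mem_subgroupOf]
    rw [← e, mem_inf, mem_centralizer_singleton_iff]
    exact and_congr_right fun _ => ⟨fun e' => congrArg Subtype.val e', fun e' => Subtype.ext e'⟩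
  · exact d.odd.of_dvd_nat (Subgroup.card_subgroup_dvd_card _)

/-- The data of section 9b. -/
theorem coreHyp : S9b.CoreHyp (derK S) ((fittingHallOf S).subgroupOf S) (U.subgroupOf S) (W₁.subgroupOf S)
    (W₂.subgroupOf S) (Nat.card W₂) (Nat.card W₁) := by
  have d := h.typeData imp
  refine ⟨h.isPrimeTI imp, d.odd, ⟨fun x hx g => ?_⟩, fun x hx => ?_, fun x hx => ?_, fun x hx => ?_, ?_, ?_,
    ?_, ?_, ?_, h.p_prime imp, h.q_prime imp, ?_, ?_, ?_, ?_⟩
  · exact Subgroup.mem_subgroupOf.mpr ((mem_normalizer_iff.mp (le_normalizer_fittingHallOf S g.2) _).mp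
      (Subgroup.mem_subgroupOf.mp hx))
  · exact Subgroup.mem_subgroupOf.mpr (d.H_le_der hx)
  · exact Subgroup.mem_subgroupOf.mpr (d.U_le_der hx)
  · exact Subgroup.mem_subgroupOf.mpr (d.W2_le hx)
  · exact fun a ha b hb => Subtype.ext (congrArg Subtype.val ((h.P_comm imp).is_comm.comm ⟨_, ha⟩ ⟨_, hb⟩) :)
  · exact fun a ha b hb => Subtype.ext (congrArg Subtype.val ((h.U_comm imp).is_comm.comm ⟨_, ha⟩ ⟨_, hb⟩) :)
  · refine (eq_bot_iff_forall _).mpr fun x hx => Subtype.ext ?_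
    have : (x : G) ∈ fittingHallOf S ⊓ U := ⟨hx.1, hx.2⟩
    rwa [d.inf_HU, mem_bot] at this
  · refine le_antisymm (sup_le (fun x hx => d.H_le_der hx) fun x hx => d.U_le_der hx) fun x hx => ?_
    obtain ⟨a, ha, b, hb, e⟩ := d.compl_U.2.2.2 _ (Subgroup.mem_subgroupOf.mp hx)
    have hx' : x = ⟨a, d.H_le ha⟩ * ⟨b, d.U_le hb⟩ := Subtype.ext e
    rw [hx']
    exact mul_mem_sup (Subgroup.mem_subgroupOf.mpr ha) (Subgroup.mem_subgroupOf.mpr hb)
  · exact fun w hw => mem_normalizer_of_conj fun x hx => Subgroup.mem_subgroupOf.mpr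
      ((mem_normalizer_iff.mp (d.U_norm hw) _).mp hx)
  · rw [Nat.card_congr (subgroupOfEquivOfLe d.H_le).toEquiv, h.card_P imp]
  · rw [Nat.card_congr (subgroupOfEquivOfLe d.W_le).toEquiv]
  · rw [Nat.card_congr (subgroupOfEquivOfLe (d.W2_le.trans d.H_le)).toEquiv]
  · intro X hX hU hW
    have hmap : X.map S.subtype ≤ fittingHallOf S := by
      rintro _ ⟨x, hx, rfl⟩
      exact hX hx
    rcases (h.coreKernel_bot imp).1.eq_or_eq d bot_le hmap (normalizer_map_of_subgroupOf d.U_le hU)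
      (normalizer_map_of_subgroupOf d.W_le hW) with e | e
    · exact Or.inl ((Subgroup.map_eq_bot_iff_of_injective _ S.subtype_injective).mp e)
    · exact Or.inr (Subgroup.map_injective S.subtype_injective
        (e.trans (Subgroup.map_subgroupOf_eq_of_le d.H_le).symm))

theorem uBar_eq : S9b.uBar ((fittingHallOf S).subgroupOf S) (U.subgroupOf S) = (sideC S U).relIndex U := by
  have d := h.typeData imp
  have e : U.subgroupOf S ⊓ centralizer (((fittingHallOf S).subgroupOf S : Subgroup S) : Set S) =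
      (sideC S U).subgroupOf S := by
    ext x
    simp only [mem_inf, Subgroup.mem_subgroupOf, sideC, Subgroup.mem_centralizer_iff]
    refine and_congr_right fun _ => ⟨fun hx y hy => ?_, fun hx y hy => Subtype.ext (hx _ hy)⟩
    exact congrArg Subtype.val (hx ⟨y, d.H_le hy⟩ hy)
  rw [S9b.uBar, e, Subgroup.relIndex_subgroupOf d.U_le]

theorem galois_subgroupOf (hgal : IsGalois (fittingHallOf S) U ⊥) : ∀ X : Subgroup S,
    X ≤ (fittingHallOf S).subgroupOf S → U.subgroupOf S ≤ normalizer (X : Set S) →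
      X = ⊥ ∨ X = (fittingHallOf S).subgroupOf S := by
  intro X hX hU
  have d := h.typeData imp
  have hmap : X.map S.subtype ≤ fittingHallOf S := by
    rintro _ ⟨x, hx, rfl⟩
    exact hX hx
  rcases hgal _ bot_le hmap (normalizer_map_of_subgroupOf d.U_le hU) with e | e
  · exact Or.inl ((Subgroup.map_eq_bot_iff_of_injective _ S.subtype_injective).mp e)
  · exact Or.inr (Subgroup.map_injective S.subtype_injective
      (e.trans (Subgroup.map_subgroupOf_eq_of_le d.H_le).symm))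

/-- The lines of the non-Galois case as subgroups of `S`. -/
theorem exists_lineSystem (hgal : ¬ IsGalois (fittingHallOf S) U ⊥) :
    ∃ (a : ℕ) (ℓ : Fin (Nat.card W₁) → Subgroup S),
      S9b.IsLineSystem ((fittingHallOf S).subgroupOf S) (U.subgroupOf S) (W₁.subgroupOf S) (Nat.card W₂)
        (Nat.card W₁) ℓ a := by
  classical
  have d := h.typeData imp
  obtain ⟨w, hw, hw1⟩ := d.exists_W1
  obtain ⟨V', _, _, A, _, _, f, π, ρ, σ, T', m⟩ :=
    (h.coreKernel_bot imp).1.exists_model_of_card d (h.p_prime imp) (h.card_P' imp) hw hw1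
  obtain ⟨v₀, lam, L⟩ := m.lin.exists_lineBasis fun hh => hgal (m.isGalois_iff.mpr hh)
  haveI : Fact (Nat.card W₂).Prime := ⟨h.p_prime imp⟩
  set q := Nat.card W₁ with hq
  have hq0 : 0 < q := (h.q_prime imp).pos
  let v : Fin q → V' := fun i => (T' ^ (i : ℕ)) v₀
  have hfinj : ∀ x ∈ fittingHallOf S, ∀ y ∈ fittingHallOf S, f x = f y → x = y := fun x hx y hy e => by
    have h0 := (m.f_eq_iff hx hy).mp e
    rwa [mem_bot, inv_mul_eq_one] at h0
  let ℓ : Fin q → Subgroup S := fun i =>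
    { carrier := {x | (x : G) ∈ fittingHallOf S ∧ f (x : G) ∈ AddSubgroup.zmultiples (v i)}
      one_mem' := ⟨one_mem _, by rw [Subgroup.coe_one, m.f_one]; exact zero_mem _⟩
      mul_mem' := fun {a b} ha hb => ⟨mul_mem ha.1 hb.1, by
        rw [Subgroup.coe_mul, m.f_mul _ ha.1 _ hb.1]; exact add_mem ha.2 hb.2⟩
      inv_mem' := fun {a} ha => ⟨inv_mem ha.1, by
        rw [Subgroup.coe_inv, m.f_inv ha.1]; exact neg_mem ha.2⟩ }
  have hmem : ∀ i (x : S), x ∈ ℓ i ↔ (x : G) ∈ fittingHallOf S ∧ f (x : G) ∈ AddSubgroup.zmultiples (v i) :=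
    fun i x => Iff.rfl
  have hgen : ∀ i, ∀ y ∈ AddSubgroup.zmultiples (v i), ∃ x ∈ ℓ i, f (x : G) = y := fun i y hy => by
    obtain ⟨x, hx, hxy⟩ := m.f_surj y
    exact ⟨⟨x, d.H_le hx⟩, (hmem i _).mpr ⟨hx, hxy.symm ▸ hy⟩, hxy⟩
  have hcard : ∀ i, Nat.card (ℓ i) = Nat.card W₂ := fun i => by
    have hbij : Function.Bijective fun x : ℓ i => (⟨f ((x : S) : G), x.2.2⟩ : AddSubgroup.zmultiples (v i)) := by
      refine ⟨fun x y e => Subtype.ext (Subtype.ext (hfinj _ x.2.1 _ y.2.1 (congrArg Subtype.val e))), fun y => ?_⟩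
      obtain ⟨x, hx, hxy⟩ := hgen i y y.2
      exact ⟨⟨x, hx⟩, Subtype.ext hxy⟩
    rw [Nat.card_eq_of_bijective _ hbij, Nat.card_zmultiples]
    exact addOrderOf_eq_prime (m.lin.exp _) (L.line_ne_zero m.lin i)
  have hact : ∀ i, ∀ u : S, (u : G) ∈ U → ρ (π u) (v i) = (lam ((σ ^ (i : ℕ))⁻¹ (π u)) : ZMod (Nat.card W₂)).val • v i :=
    fun i u _ => L.act _ _
  refine ⟨Nat.card lam.range, ℓ, ⟨fun i x hx => hx.1, hcard, fun i u hu => ?_, ?_, fun i => ?_, fun i j => ?_, ?_, ?_,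
    ?_, ?_⟩⟩
  · refine mem_normalizer_of_conj fun x hx => (hmem i _).mpr ?_
    obtain ⟨hxP, n, hn⟩ := (hmem i x).mp hx
    have hu' : (u : G) ∈ U := hu
    refine ⟨(mem_normalizer_iff.mp (m.U_norm hu') _).mp hxP, ?_⟩
    rw [Subgroup.coe_mul, Subgroup.coe_mul, Subgroup.coe_inv, m.act _ hu' _ hxP, ← hn]
    show ρ (π u) (n • v i) ∈ _
    rw [map_zsmul, hact i u hu']
    exact AddSubgroup.zsmul_mem _ (AddSubgroup.nsmul_mem _ (AddSubgroup.mem_zmultiples _) _) _
  · set P' := (fittingHallOf S).subgroupOf S with hP'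
    choose g hgP hgv using m.f_surj
    let fe : (∀ i, ℓ i) →* P' := MonoidHom.mk' (fun c => ⟨⟨g (∑ i, f ((c i : S) : G)), d.H_le (hgP _)⟩, hgP _⟩)
      fun c c' => Subtype.ext (Subtype.ext (hfinj _ (hgP _) _ (mul_mem (hgP _) (hgP _)) (by
        simp only [Subgroup.coe_mul, m.f_mul _ (hgP _) _ (hgP _), hgv, Pi.mul_apply,
          m.f_mul _ ((c _).2.1) _ ((c' _).2.1), Finset.sum_add_distrib])))
    have hsurj : Function.Surjective fe := fun y => by
      obtain ⟨c, hc⟩ := L.bij.2 (f ((y : S) : G))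
      choose x hx hxv using fun i => hgen i ((c i).val • v i) (AddSubgroup.nsmul_mem _ (AddSubgroup.mem_zmultiples _) _)
      refine ⟨fun i => ⟨x i, hx i⟩, Subtype.ext (Subtype.ext (hfinj _ (hgP _) _ y.2 ?_))⟩
      rw [hgv, ← hc]
      exact Finset.sum_congr rfl fun i _ => hxv i
    have hc : Nat.card (∀ i, ℓ i) = Nat.card P' := by
      rw [Nat.card_pi, Finset.prod_congr rfl fun i _ => hcard i, Finset.prod_const, Finset.card_univ, Fintype.card_fin,
        Nat.card_congr (subgroupOfEquivOfLe d.H_le).toEquiv, h.card_P imp]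
    refine ⟨MulEquiv.ofBijective fe (hsurj.bijective_of_nat_card_le hc.le), fun i z => Subtype.ext
      (hfinj _ (hgP _) _ z.2.1 ?_)⟩
    rw [hgv, Finset.sum_eq_single i (fun j _ hj => by
      rw [Pi.mulSingle_eq_of_ne hj]
      exact m.f_one) (by simp), Pi.mulSingle_eq_same]
  · let χ : U.subgroupOf S →* (ZMod (Nat.card W₂))ˣ :=
      MonoidHom.mk' (fun u => lam ((σ ^ (i : ℕ))⁻¹ (π ((u : S) : G)))) fun x y => by
        rw [Subgroup.coe_mul, Subgroup.coe_mul, m.π_mul ((x : S) : G) x.2 ((y : S) : G) y.2, map_mul, map_mul]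
    have hker : (U.subgroupOf S ⊓ centralizer (ℓ i : Set S)).subgroupOf (U.subgroupOf S) = χ.ker := by
      ext u
      have hu' : ((u : S) : G) ∈ U := u.2
      rw [Subgroup.mem_subgroupOf, mem_inf, MonoidHom.mem_ker]
      show (_ ∧ _) ↔ lam ((σ ^ (i : ℕ))⁻¹ (π ((u : S) : G))) = 1
      refine ⟨fun hc => Units.ext ?_, fun h1 => ⟨u.2, fun x hx => ?_⟩⟩
      · obtain ⟨x, hx, hxv⟩ := hgen i (v i) (AddSubgroup.mem_zmultiples _)
        have hcc := congrArg Subtype.val (hc.2 x hx)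
        have e : f ((u : S) * x * ((u : S) : G)⁻¹) = f (x : G) := by
          rw [show ((u : S) : G) * x = x * (u : S) from hcc.symm, mul_inv_cancel_right]
        rw [m.act _ hu' _ hx.1, hxv, hact i u hu'] at e
        nth_rewrite 2 [← one_nsmul (v i)] at e
        rwa [nsmul_eq_nsmul_iff_modEq, addOrderOf_eq_prime (m.lin.exp _) (L.line_ne_zero m.lin i),
          ← ZMod.natCast_eq_natCast_iff, ZMod.natCast_zmod_val, Nat.cast_one] at e
      · obtain ⟨hxP, n, hn⟩ := (hmem i x).mp hx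
        have e : f (((u : S) : G) * x * ((u : S) : G)⁻¹) = f (x : G) := by
          rw [m.act _ hu' _ hxP, ← hn]
          show ρ _ (n • v i) = n • v i
          rw [map_zsmul, hact i u hu', h1, Units.val_one, ZMod.val_one, one_nsmul]
        have e' := hfinj _ ((mem_normalizer_iff.mp (m.U_norm hu') _).mp hxP) _ hxP e
        exact Subtype.ext (mul_inv_eq_iff_eq_mul.mp e').symm
    rw [Subgroup.relIndex, hker, Subgroup.index_ker]
    refine congrArg (fun H : Subgroup (ZMod (Nat.card W₂))ˣ => Nat.card H) (le_antisymm ?_ ?_)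
    · rintro _ ⟨u, rfl⟩
      exact ⟨_, rfl⟩
    · rintro _ ⟨y, rfl⟩
      obtain ⟨x, hx, hxy⟩ := m.π_surj ((σ ^ (i : ℕ)) y)
      refine ⟨⟨⟨x, d.U_le hx⟩, hx⟩, ?_⟩
      show lam _ = lam y
      rw [hxy, ← MulAut.mul_apply, inv_mul_cancel, MulAut.one_apply]
  · set n : ℕ := (j : ℕ) + (q - i) with hn
    have hwS : w ∈ S := d.W_le hw
    refine ⟨⟨w, hwS⟩ ^ n, pow_mem (Subgroup.mem_subgroupOf.mpr hw) n, ?_⟩
    have key : ∀ (k : ℕ) (x : G), x ∈ fittingHallOf S →
        w ^ k * x * (w ^ k)⁻¹ ∈ fittingHallOf S ∧ f (w ^ k * x * (w ^ k)⁻¹) = (T' ^ k) (f x) := by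
      intro k
      induction k with
      | zero => intro x hx; simp [hx]
      | succ k ih =>
        intro x hx
        obtain ⟨h1, h2⟩ := ih x hx
        rw [show w ^ (k + 1) * x * (w ^ (k + 1))⁻¹ = w * (w ^ k * x * (w ^ k)⁻¹) * w⁻¹ by rw [pow_succ']; group]
        refine ⟨(mem_normalizer_iff.mp m.w_norm _).mp h1, ?_⟩
        rw [m.act_w _ h1, h2, pow_succ']
        rfl
    refine (Subgroup.eq_of_le_of_card_ge ?_ ?_).symm
    · rintro _ ⟨x, hx, rfl⟩
      obtain ⟨hxP, k, hk⟩ := (hmem i x).mp hx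
      refine (hmem j _).mpr ?_
      show ((⟨w, hwS⟩ ^ n : S) : G) * x * ((⟨w, hwS⟩ ^ n : S) : G)⁻¹ ∈ _ ∧ f _ ∈ _
      rw [Subgroup.coe_pow]
      refine ⟨(key n x hxP).1, ?_⟩
      show f (((⟨w, hwS⟩ ^ n : S) : G) * x * ((⟨w, hwS⟩ ^ n : S) : G)⁻¹) ∈ _
      rw [Subgroup.coe_pow, (key n x hxP).2, ← hk]
      show (T' ^ n) (k • v i) ∈ _
      rw [map_zsmul]
      refine ⟨k, congrArg (k • ·) ?_⟩
      show (T' ^ (j : ℕ)) v₀ = (T' ^ n * T' ^ (i : ℕ)) v₀
      rw [← pow_add, show n + (i : ℕ) = (j : ℕ) + q by omega, pow_add, m.lin.T_pow, mul_one]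
    · rw [Subgroup.card_map_of_injective (MulAut.conj (⟨w, hwS⟩ ^ n : S)).injective, hcard, hcard]
  · exact (L.range_odd m.lin (m.card_A ▸ ((h.coreKernel_bot imp).1.index_facts d (h.p_prime imp) (h.card_P' imp)).2.1)).1
  · exact (L.range_odd m.lin (m.card_A ▸ ((h.coreKernel_bot imp).1.index_facts d (h.p_prime imp) (h.card_P' imp)).2.1)).2.1
  · exact (L.range_odd m.lin (m.card_A ▸ ((h.coreKernel_bot imp).1.index_facts d (h.p_prime imp) (h.card_P' imp)).2.1)).2.2
      (h.p_odd imp)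
  · rw [h.uBar_eq imp, h.sideC_eq_kernelC imp, ← m.card_A]
    exact Nat.le_of_dvd (pow_pos Nat.card_pos _) (L.card_dvd m.lin)

theorem core_dichotomy :
    (∀ X : Subgroup S, X ≤ (fittingHallOf S).subgroupOf S → U.subgroupOf S ≤ normalizer (X : Set S) →
      X = ⊥ ∨ X = (fittingHallOf S).subgroupOf S) ∨
      ∃ (a : ℕ) (ℓ : Fin (Nat.card W₁) → Subgroup S),
        S9b.IsLineSystem ((fittingHallOf S).subgroupOf S) (U.subgroupOf S) (W₁.subgroupOf S) (Nat.card W₂)
          (Nat.card W₁) ℓ a := by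
  by_cases hgal : IsGalois (fittingHallOf S) U ⊥
  · exact Or.inl (h.galois_subgroupOf imp hgal)
  · exact Or.inr (h.exists_lineSystem imp hgal)

/-- (4.6) for a pair, on `A₀(S)` with trivial signalizers. -/
theorem isPrimeDade : IsPrimeDade S (derK S) ((fittingHallOf S).subgroupOf S) W₁ W₂ (typeA0 S) fun _ => ⊥ := by
  classical
  have d := h.typeData imp
  obtain ⟨hTI, hN⟩ := S8.ftPair_typeA0_TI h imp
  obtain ⟨K, hK⟩ := CfsgLib.exists_isPiHallOf (kappa S) (M := S) (solvable_of_ne_top h.hG h.hS.1)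
  obtain ⟨U₀, hKU⟩ := exists_sigmaDecomposition h.hG h.hS (kappaHall_cyclic h.hG h.hS hK) hK
  obtain ⟨hK1, -, -⟩ := typeP_facts h.hG h.hS h.hSP hKU
  obtain ⟨r, hr, hrd⟩ := Nat.exists_prime_and_dvd fun e => hK1 (card_eq_one.mp e)
  have hκ : (kappa S).Nonempty := ⟨r, hK.2.1 r hr hrd⟩
  have hI : ¬ IsOfTypeI S := fun h1 => hκ.ne_empty (typeF_kappa_eq_empty h.hG h.hS h1.1)
  have hP : fittingHallOf S ≤ typeCore S := by
    rw [typeCore]
    split
    · exact d.H_le_der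
    · exact le_rfl
  have hmemV : ∀ v ∈ W₁ ⊔ W₂, v ∉ W₁ → v ∉ W₂ → v ∈ typeA0 S := fun v hv h1 h2 =>
    Or.inr ⟨hI, W₁, U, W₂, h.hSP, 1, one_mem _, v, hv, h1, h2, by group⟩
  have hsub : typeA0 S ⊆ (S : Set G) := by
    rintro a (ha | ⟨-, W, U', W', hP', m, hm, z, hz, -, -, rfl⟩)
    · rw [typeA, if_neg hI] at ha
      exact commutator_le_self S ha.1
    · exact mul_mem (mul_mem hm (sup_le hP'.W₁_compl.2.1 (((hP'.W₂_le.trans inf_le_left).trans hP'.U_compl.1).trans
        (commutator_le_self S)) hz)) (inv_mem hm)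
  have hone : ∀ a ∈ typeA0 S, a ≠ 1 := by
    rintro a (ha | ⟨-, W, U', W', -, m, -, z, -, hz1, -, rfl⟩)
    · rw [typeA, if_neg hI] at ha
      exact ha.2.1
    · exact fun e => hz1 ((conj_eq_one_iff.mp e) ▸ one_mem _)
  have hfus : ∀ a ∈ typeA0 S, ∀ g : G, g * a * g⁻¹ ∈ typeA0 S → g ∈ S := fun a ha g hg => by
    by_contra hgS
    exact hone a ha (hTI g (hN.symm ▸ hgS) a ha hg)
  have hC : ∀ a ∈ typeA0 S, centralizer ({a} : Set G) ≤ S := fun a ha g hg =>
    hfus a ha g (by rwa [mem_centralizer_singleton_iff.mp hg, mul_inv_cancel_right])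
  refine ⟨d.W_le, d.W2_le.trans d.H_le, h.isPrimeTI imp, h.hSP.selfNormalizing, (h.coreHyp imp).P_normal,
    fun x hx => d.W2_le hx, fun x hx => d.H_le_der hx, fun k hk hk1 x hx hx1 e => ?_, hmemV,
    ⟨fun e => hone 1 e rfl, hsub, fun x hx a ha => ?_, fun a ha g hg => ⟨g, hfus a ha g hg, rfl⟩,
      fun a _ => bot_le, fun a _ c _ u hu => ?_, fun a _ => bot_inf_eq _, fun a ha => ?_, fun a _ b _ => ?_⟩⟩
  · refine Or.inl ?_
    rw [typeA, if_neg hI]
    exact ⟨hk, fun e' => hk1 (Subtype.ext e'), x, hP hx, fun e' => hx1 (Subtype.ext e'), congrArg Subtype.val e⟩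
  · have hxN : x ∈ normalizer (typeA0 S) := hN.symm ▸ hx
    exact (hxN a).mp ha
  · rw [Subgroup.mem_bot] at hu
    subst hu
    simp
  · rw [bot_sup_eq, inf_eq_right.mpr (hC a ha)]
  · simp

/-- (9.11) in the form used by section 13. -/
theorem exists_cohData [Fintype G] [Fintype S] [Fintype (W₁.subgroupOf S →* ℂˣ)] {χ : WLin W₁ W₂ → (G → ℂ)}
    (hχ : IsCyclicTIFamily W₁ W₂ χ) : ∃ (τ₁ : (S → ℂ) → (G → ℂ)) (ε : ℤ)
      (π : (W₂.subgroupOf S →* ℂˣ) → (W₂.subgroupOf S →* ℂˣ)), CohData (h.isPrimeDade imp) χ τ₁ ε π := by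
  obtain ⟨τ₁, ε, flip, hε, hiso, hag, hcol, horth⟩ :=
    (h.coreHyp imp).nine_eleven (h.isPrimeDade imp) hχ (h.core_dichotomy imp)
  exact ⟨τ₁, ε, fun b => if flip then b⁻¹ else b,
    { fam := hχ
      iso := hiso
      agree := hag
      eps := hε
      ne_one := fun b hb => by
        cases flip
        · exact hb
        · exact (h.isPrimeDade imp).inv_ne_one₂ hb
      col := hcol
      orth := horth }⟩

end FTPair

end CfsgLib.OddOrder.S13
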