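import Cfsg.Agent.Lib.OddOrder.S13.Coh

/-!
Peterfalvi (13.3)(a), (13.5): the column characters on `F(S)`, the signed table off `V`, and the exchange
of the two sides.
-/

set_option autoImplicit false
set_option linter.unusedSectionVars false
set_option linter.style.haveILetI false

namespace CfsgLib.OddOrder.S13

open Subgroup Cfsg CfsgLib.MinSimpleOdd CfsgLib.OddOrder.S9 CfsgLib.CharTheory CfsgLib.OddOrder.Found CfsgLib.Dade
open scoped commutatorElement ComplexConjugate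

universe u

variable {G : Type u} [Group G] [Fintype G]

/-- The exchange of the two factors of `W`. -/
def wSwap (W₁ W₂ : Subgroup G) : ↥(W₂ ⊔ W₁) ≃* ↥(W₁ ⊔ W₂) := MulEquiv.subgroupCongr (sup_comm W₂ W₁)

omit [Fintype G] in
theorem coe_wSwap {W₁ W₂ : Subgroup G} (w : ↥(W₂ ⊔ W₁)) : (wSwap W₁ W₂ w : G) = w := rfl

/-- The families of the two sides agree. -/
theorem family_swap {W₁ W₂ : Subgroup G} (hW : IsSelfNormalizingCyclic W₁ W₂) (hodd : Odd (Nat.card ↥(W₁ ⊔ W₂)))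
    {χ : WLin W₁ W₂ → (G → ℂ)} {χ' : WLin W₂ W₁ → (G → ℂ)} (hχ : IsCyclicTIFamily W₁ W₂ χ)
    (hχ' : IsCyclicTIFamily W₂ W₁ χ') (ω : WLin W₁ W₂) : χ' (ω.comp (wSwap W₁ W₂).toMonoidHom) = χ ω := by
  refine cycFamily_unique hW hodd hχ (hχ'.irr_or_neg _) ω fun w h1 h2 => ?_
  have h := hχ'.eq_on (ω.comp (wSwap W₁ W₂).toMonoidHom) ((wSwap W₁ W₂).symm w) h2 h1
  rw [MonoidHom.comp_apply, MulEquiv.coe_toMonoidHom, MulEquiv.apply_symm_apply] at h
  exact h

section Table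

variable {S W₁ W₂ : Subgroup G} [Fintype S] [Fintype (W₁.subgroupOf S →* ℂˣ)] {K H : Subgroup S} {A₀ : Set G}
  {R : G → Subgroup G} (d : IsPrimeDade S K H W₁ W₂ A₀ R) {χ : WLin W₁ W₂ → (G → ℂ)}
include d

/-- Off the conjugates of `V` the table is additive. -/
theorem table_off_V (hχ : IsCyclicTIFamily W₁ W₂ χ) {a : W₁.subgroupOf S →* ℂˣ} {b : W₂.subgroupOf S →* ℂˣ}
    (ha : a ≠ 1) (hb : b ≠ 1) {g : G}
    (hg : ∀ k : G, ∀ w ∈ W₁ ⊔ W₂, w ∉ W₁ → w ∉ W₂ → g ≠ k * w * k⁻¹) :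
    χ (d.idx a b) g = χ (d.idx a 1) g + χ (d.idx 1 b) g - 1 := by
  classical
  have e := congrFun (hχ.induced_eq (d.idx a 1) (d.idx 1 b) (d.idx_left_ne_one ha) (d.idx_right_ne_one hb)
    (fun w hw => d.idx_apply₂ a hw) fun w hw => d.idx_apply₁ b hw) g
  rw [← d.idx_split a b] at e
  rw [show indFun (W₁ ⊔ W₂) (fun w => 1 - ((d.idx a 1) w : ℂ) - ((d.idx 1 b) w : ℂ) +
      ((d.idx a 1) w : ℂ) * ((d.idx 1 b) w : ℂ)) g = 0 from ?_] at e
  · linear_combination -e
  · rw [indFun, Finset.sum_eq_zero, mul_zero]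
    intro y _
    by_cases hy : y⁻¹ * g * y ∈ W₁ ⊔ W₂
    · rw [extendByZero_of_mem _ _ hy]
      have hin : y⁻¹ * g * y ∈ W₁ ∨ y⁻¹ * g * y ∈ W₂ := by
        by_contra hno
        push Not at hno
        exact hg y _ hy hno.1 hno.2 (by group)
      exact cycBeta_eq_zero (d.idx a 1) (d.idx 1 b) (fun w hw => d.idx_apply₂ a hw) (fun w hw => d.idx_apply₁ b hw)
        ⟨_, hy⟩ hin
    · exact extendByZero_of_not_mem _ _ hy

end Table

namespace FTPair

variable {S T W₁ W₂ U V : Subgroup G} (h : FTPair S T W₁ W₂ U V) (imp : FTImports G)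
include h imp

variable [Fintype S] [Fintype (fittingOf S)] [Fintype (derK S)]

/-- An irreducible character of `S'` nontrivial on `P` has a constituent on `F(S)` nontrivial on `P`. -/
theorem exists_nonTriv_constituent {θ : derK S → ℂ} (hθ : IsIrrCharacter (derK S) θ)
    (hk : ¬∀ x : derK S, (x : S) ∈ (fittingHallOf S).subgroupOf S → θ x = θ 1) :
    ∃ ψ : fittingOf S →* ℂˣ, NonTrivP S ψ ∧
      classInner (fun y => θ (h.jK imp y)) (fun y => (ψ y : ℂ)) ≠ 0 := by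
  by_contra hno
  push Not at hno
  refine hk fun x hx => ?_
  have hxF : ((x : S) : G) ∈ fittingOf S := h.P_le_fitting imp (Subgroup.mem_subgroupOf.mp hx)
  have hcl : IsClassFunction (fittingOf S) (fun y => θ (h.jK imp y)) := fun a b => by
    rw [h.fitting_comm imp b a, mul_inv_cancel_right]
  have key : θ (h.jK imp ⟨_, hxF⟩) = θ (h.jK imp 1) := by
    have e := eq_sum_irr hcl
    rw [show θ (h.jK imp ⟨_, hxF⟩) = (fun y => θ (h.jK imp y)) ⟨_, hxF⟩ from rfl,
      show θ (h.jK imp 1) = (fun y => θ (h.jK imp y)) 1 from rfl, e]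
    simp only [Finset.sum_apply, Pi.smul_apply, smul_eq_mul]
    refine Finset.sum_congr rfl fun φ _ => ?_
    obtain ⟨ψ, hψ⟩ := exists_hom_of_degree_one (isCharacter_of_irr φ.2)
      (degree_one_of_commutative (h.fitting_comm imp) φ.2)
    rw [hψ]
    by_cases hψP : NonTrivP S ψ
    · rw [hno ψ hψP, zero_mul, zero_mul]
    · have h1 : ψ ⟨_, hxF⟩ = 1 := by
        by_contra h1
        exact hψP ⟨_, Subgroup.mem_subgroupOf.mp hx, h1⟩
      simp only [h1, map_one]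
  have e1 : h.jK imp ⟨_, hxF⟩ = x := Subtype.ext (Subtype.ext rfl)
  rwa [map_one, e1] at key

variable {A₀ : Set G} {R : G → Subgroup G}
  (d : IsPrimeDade S (derK S) ((fittingHallOf S).subgroupOf S) W₁ W₂ A₀ R)
include d

/-- (13.3)(a). -/
theorem col_orbit {b : W₂.subgroupOf S →* ℂˣ} (hb : b ≠ 1) :
    ∃ O : Finset (fittingOf S →* ℂˣ), O.card = (sideC S U).relIndex U ∧
      (∀ φ ∈ O, NonTrivP S φ) ∧ (∀ y, d.ti.colChar b (h.jK imp y) = ∑ φ ∈ O, (φ y : ℂ)) ∧
      (∀ k : derK S, ((k : S) : G) ∉ fittingOf S → d.ti.colChar b k = 0) ∧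
      d.ti.colChar b 1 = ((sideC S U).relIndex U : ℂ) ∧
      ∀ φ ∈ O, ∀ c, classInner (fun y => d.ti.colChar c (h.jK imp y)) (fun y => (φ y : ℂ)) ≠ 0 → c = b := by
  classical
  have hθ := d.ti.isIrr_colChar b
  have hinv := h.colChar_inv_hyp imp d.ti b
  obtain ⟨ψ, hψ, hne⟩ := h.exists_nonTriv_constituent imp hθ (d.colChar_nontrivial hb)
  obtain ⟨O, hcard, -, hO, hval, hvan, -⟩ := h.invariant_orbit imp hθ hinv hψ hne
  refine ⟨O, hcard, fun φ hφ => (hO φ hφ).1, hval, hvan, ?_, fun φ hφ c hc => ?_⟩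
  · have := hval 1
    simpa [map_one, Finset.sum_const, hcard] using this
  · obtain ⟨_, -, -, -, -, -, huniq⟩ := h.invariant_orbit imp hθ hinv (hO φ hφ).1 (by
      rw [funext hval, classInner_linear_sum, if_pos hφ]; exact one_ne_zero)
    exact d.ti.colChar_injective (huniq _ (d.ti.isIrr_colChar c) hc)

variable [Fintype (W₁.subgroupOf S →* ℂˣ)]

theorem muSum_on_der (b : W₂.subgroupOf S →* ℂˣ) (k : derK S) :
    d.ti.muSum b k = (Nat.card W₁ : ℂ) * d.ti.colChar b k := by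
  rw [IsPrimeTI.muSum, Finset.sum_apply, Finset.sum_congr rfl fun a _ => d.ti.mu_restrict a b k, Finset.sum_const,
    Finset.card_univ, d.ti.card_hom₁, d.card₁, nsmul_eq_mul]

theorem muSum_off {b : W₂.subgroupOf S →* ℂˣ} (hb : b ≠ 1) {x : S} (hx : (x : G) ∉ fittingOf S) :
    d.ti.muSum b x = 0 := by
  haveI := d.ti.normal
  by_cases hxK : x ∈ derK S
  · obtain ⟨O, -, -, -, hvan, -⟩ := h.col_orbit imp d hb
    rw [show x = ((⟨x, hxK⟩ : derK S) : S) from rfl, h.muSum_on_der imp d, hvan _ hx, mul_zero]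
  · rw [← d.ti.indFun_colChar]; exact indFun_normal_apply_not_mem _ _ hxK

theorem muSum_one {b : W₂.subgroupOf S →* ℂˣ} (hb : b ≠ 1) :
    d.ti.muSum b 1 = ((Nat.card W₁ * (sideC S U).relIndex U : ℕ) : ℂ) := by
  obtain ⟨O, -, -, -, -, h1, -⟩ := h.col_orbit imp d hb
  rw [show (1 : S) = ((1 : derK S) : S) from rfl, h.muSum_on_der imp d, h1, Nat.cast_mul]

theorem muSum_mem {b : W₂.subgroupOf S →* ℂˣ} (hb : b ≠ 1) : d.ti.muSum b ∈ memberSet S :=
  d.muSum_mem_indSet hb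

theorem index_fitting_subgroupOf :
    ((fittingOf S).subgroupOf S).index = Nat.card W₁ * (sideC S U).relIndex U := by
  refine Nat.eq_of_mul_eq_mul_left (Nat.card_pos (α := fittingOf S)) ?_
  rw [← h.card_S imp]
  have := Subgroup.card_mul_index ((fittingOf S).subgroupOf S)
  rwa [Nat.card_congr (Subgroup.subgroupOfEquivOfLe (fittingOf_le S)).toEquiv] at this

/-- `π` is a bijection of the nontrivial indices. -/
theorem pi_bij {χ : WLin W₁ W₂ → (G → ℂ)} {τ₁ : (S → ℂ) → (G → ℂ)} {ε : ℤ}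
    {π : (W₂.subgroupOf S →* ℂˣ) → (W₂.subgroupOf S →* ℂˣ)} (hc : CohData d χ τ₁ ε π)
    {c : W₂.subgroupOf S →* ℂˣ} (hc1 : c ≠ 1) : ∃! b, b ≠ 1 ∧ π b = c := by
  classical
  have hinj : ∀ b b', b ≠ 1 → b' ≠ 1 → π b = π b' → b = b' := by
    intro b b' hb hb' e
    by_contra hne
    have h0 := hc.iso.2.2.1 _ (Submodule.subset_span (h.muSum_mem imp d hb)) _
      (Submodule.subset_span (h.muSum_mem imp d hb'))
    rw [d.ti.classInner_muSum, if_neg hne, hc.col b hb, hc.col b' hb', e, classInner_smul_left, classInner_smul_right,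
      classInner_sum_left] at h0
    simp only [classInner_sum_right, hc.fam.orthonormal, d.idx_eq_iff, and_true] at h0
    simp only [Finset.sum_ite_eq, Finset.mem_univ, if_true, Finset.sum_const, Finset.card_univ, d.ti.card_hom₁,
      nsmul_eq_mul, mul_one, map_intCast] at h0
    rcases hc.eps with e' | e' <;> simp [e', Nat.card_pos.ne'] at h0
  haveI := finite_homC (H := W₂.subgroupOf S) d.ti.comm₂
  let f : {b : W₂.subgroupOf S →* ℂˣ // b ≠ 1} → {b : W₂.subgroupOf S →* ℂˣ // b ≠ 1} := fun b =>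
    ⟨π b, hc.ne_one b b.2⟩
  have hf : Function.Injective f := fun a b e => Subtype.ext (hinj a b a.2 b.2 (congrArg Subtype.val e))
  obtain ⟨⟨b, hb⟩, hbe⟩ := Finite.injective_iff_surjective.mp hf ⟨c, hc1⟩
  exact ⟨b, ⟨hb, congrArg Subtype.val hbe⟩, fun b' hb' => hinj b' b hb'.1 hb (hb'.2.trans (congrArg Subtype.val hbe).symm)⟩

end FTPair

end CfsgLib.OddOrder.S13
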