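import Cfsg.Agent.Lib.OddOrder.S13.Members
import Cfsg.Agent.Lib.CharTheory.CyclicTI3

/-!
Peterfalvi (13.3)(c): there is an irreducible character of degree `q u` induced from `F(S)`, unless `U` is
irreducible on `P`, `C = 1` and `u = (p^q - 1)/(p - 1)`.
-/

set_option autoImplicit false
set_option linter.unusedSectionVars false
set_option linter.style.haveILetI false

namespace CfsgLib.OddOrder.S13

open Subgroup Cfsg CfsgLib.MinSimpleOdd CfsgLib.OddOrder.S9 CfsgLib.CharTheory CfsgLib.OddOrder.Found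
open scoped commutatorElement

universe u

variable {G : Type u} [Group G]

theorem card_homC {H : Type u} [Group H] [Finite H] (hc : ∀ x y : H, x * y = y * x) :
    Nat.card (H →* ℂˣ) = Nat.card H := by
  letI : CommGroup H := { (inferInstance : Group H) with mul_comm := hc }
  exact CommGroup.card_monoidHom_of_hasEnoughRootsOfUnity H ℂ

theorem finite_homC {H : Type u} [Group H] [Finite H] (hc : ∀ x y : H, x * y = y * x) : Finite (H →* ℂˣ) :=
  Nat.finite_of_card_ne_zero ((card_homC hc).trans_ne Nat.card_pos.ne')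

variable [Finite G]

/-- No element of `U` outside `C` fixes `ψ` on `P`. -/
def URegular (S U : Subgroup G) (ψ : fittingOf S →* ℂˣ) : Prop :=
  ∀ t : S, (t : G) ∈ U → (∀ y : fittingOf S, (y : G) ∈ fittingHallOf S → ψ (conjF S t y) = ψ y) →
    (t : G) ∈ centralizer (fittingHallOf S : Set G)

namespace FTPair

variable {S T W₁ W₂ U V : Subgroup G} (h : FTPair S T W₁ W₂ U V) (imp : FTImports G)
include h imp

theorem uRegular_of_galois (hgal : IsGalois (fittingHallOf S) U ⊥) {ψ : fittingOf S →* ℂˣ} (hψ : NonTrivP S ψ) :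
    URegular S U ψ := by
  intro t ht hfix
  by_contra htC
  obtain ⟨z, hz, hz1⟩ := hψ
  have hfp := h.galois_fixed imp hgal ht htC
  let f : fittingHallOf S → fittingHallOf S := fun x => ⟨(t : G) * x * (t : G)⁻¹ * (x : G)⁻¹, mul_mem
    ((mem_normalizer_iff.mp (le_normalizer_fittingHallOf S t.2) x).mp x.2) (inv_mem x.2)⟩
  have hf : Function.Injective f := fun a b e => by
    have e' : (t : G) * a * (t : G)⁻¹ * (a : G)⁻¹ = (t : G) * b * (t : G)⁻¹ * (b : G)⁻¹ := congrArg Subtype.val e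
    have hab : (a : G) * (b : G)⁻¹ = (b : G)⁻¹ * a := congrArg Subtype.val ((h.P_comm imp).is_comm.comm a b⁻¹)
    have hmem : (b : G)⁻¹ * a ∈ fittingHallOf S ⊓ centralizer ({(t : G)} : Set G) := by
      refine ⟨(fittingHallOf S).mul_mem ((fittingHallOf S).inv_mem b.2) a.2, mem_centralizer_singleton_iff.mpr ?_⟩
      calc (b : G)⁻¹ * a * (t : G)
          = (b : G)⁻¹ * a * t := rfl
        _ = (t : G) * (b : G)⁻¹ * (t : G)⁻¹ * ((t : G) * b * (t : G)⁻¹ * (b : G)⁻¹) * a * t := by group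
        _ = (t : G) * (b : G)⁻¹ * (t : G)⁻¹ * ((t : G) * a * (t : G)⁻¹ * (a : G)⁻¹) * a * t := by rw [e']
        _ = (t : G) * ((b : G)⁻¹ * a) := by group
    rw [hfp, mem_bot, inv_mul_eq_one] at hmem
    exact Subtype.ext hmem.symm
  obtain ⟨x, hx⟩ := Finite.injective_iff_surjective.mp hf ⟨(z : G), hz⟩
  let x' : fittingOf S := ⟨(x : G), h.P_le_fitting imp x.2⟩
  apply hz1
  rw [show z = conjF S t x' * x'⁻¹ from Subtype.ext (congrArg Subtype.val hx).symm, map_mul, map_inv,
    hfix x' x.2, mul_inv_cancel]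

/-- The projection `F(S) → P`. -/
theorem exists_projP : ∃ r : fittingOf S →* fittingHallOf S,
    (∀ y : fittingOf S, (y : G) ∈ fittingHallOf S → (r y : G) = y) ∧
      ∀ y : fittingOf S, (y : G) ∈ sideC S U → r y = 1 := by
  obtain ⟨e, he⟩ := exists_prod_equiv (h.inf_P_sideC imp) (h.commute_P_sideC imp)
  let e' : fittingHallOf S × sideC S U ≃* fittingOf S :=
    e.trans (MulEquiv.subgroupCongr (h.fitting_eq imp).1.symm)
  have he' : ∀ p, (e' p : G) = (p.1 : G) * p.2 := he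
  refine ⟨(MonoidHom.fst _ _).comp e'.symm.toMonoidHom, fun y hy => ?_, fun y hy => ?_⟩
  · have : e'.symm y = (⟨(y : G), hy⟩, 1) := e'.symm_apply_eq.mpr (Subtype.ext (by rw [he']; simp))
    simp [this]
  · have : e'.symm y = (1, ⟨(y : G), hy⟩) := e'.symm_apply_eq.mpr (Subtype.ext (by rw [he']; simp))
    simp [this]

/-- There are at least `c (p^q - 1)` characters nontrivial on `P`. -/
theorem card_nonTrivP : Nat.card (fittingOf S) ≤
    Nat.card {ψ : fittingOf S →* ℂˣ // NonTrivP S ψ} + Nat.card (sideC S U) := by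
  classical
  haveI := finite_homC (h.fitting_comm imp)
  have hCc : ∀ x y : sideC S U, x * y = y * x := fun x y => Subtype.ext (by
    have := congrArg Subtype.val
      ((h.U_comm imp).is_comm.comm ⟨(x : G), (mem_inf.mp x.2).1⟩ ⟨(y : G), (mem_inf.mp y.2).1⟩)
    exact this)
  haveI := finite_homC hCc
  have e1 := card_homC (h.fitting_comm imp)
  have e2 := card_homC hCc
  rw [← e1, ← Nat.card_congr (Equiv.sumCompl (fun ψ : fittingOf S →* ℂˣ => NonTrivP S ψ)), Nat.card_sum, ← e2]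
  refine Nat.add_le_add_left (Nat.card_le_card_of_injective
    (fun ψ : {ψ : fittingOf S →* ℂˣ // ¬ NonTrivP S ψ} =>
      ψ.1.comp (Subgroup.inclusion (h.sideC_le_fitting imp))) fun a b e => Subtype.ext (MonoidHom.ext fun y => ?_)) _
  obtain ⟨x, hx, c, hc, hy⟩ := (h.fitting_complIn imp).2.2.2 y y.2
  have hP : ∀ ψ : {ψ : fittingOf S →* ℂˣ // ¬ NonTrivP S ψ}, ψ.1 y = ψ.1 ⟨c, h.sideC_le_fitting imp hc⟩ := fun ψ => by
    rw [show y = (⟨x, h.P_le_fitting imp hx⟩ : fittingOf S) * ⟨c, h.sideC_le_fitting imp hc⟩ from Subtype.ext hy,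
      map_mul]
    have : ψ.1 ⟨x, h.P_le_fitting imp hx⟩ = 1 := by
      by_contra h1
      exact ψ.2 ⟨_, hx, h1⟩
    rw [this, one_mul]
  rw [hP a, hP b]
  exact DFunLike.congr_fun e ⟨c, hc⟩

/-- In the reducible case the characters nonzero on all lines. -/
theorem card_uRegular_lines (hgal : ¬ IsGalois (fittingHallOf S) U ⊥) :
    (Nat.card W₂ - 1) ^ Nat.card W₁ ≤
      Nat.card {ψ : fittingOf S →* ℂˣ // NonTrivP S ψ ∧ URegular S U ψ} := by
  classical
  haveI := finite_homC (h.fitting_comm imp)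
  have d := h.typeData imp
  obtain ⟨w, hw, hw1⟩ := d.exists_W1
  obtain ⟨V', _, _, A, _, _, f, π, ρ, σ, T', m⟩ :=
    (h.coreKernel_bot imp).1.exists_model_of_card d (h.p_prime imp) (h.card_P' imp) hw hw1
  obtain ⟨v₀, lam, L⟩ := m.lin.exists_lineBasis fun hh => hgal (m.isGalois_iff.mpr hh)
  haveI : Fact (Nat.card W₂).Prime := ⟨h.p_prime imp⟩
  let Φ : (Fin (Nat.card W₁) → ZMod (Nat.card W₂)) ≃+ V' :=
    { Equiv.ofBijective _ L.bij with
      map_add' := fun c c' => by
        show ∑ i : Fin (Nat.card W₁), ((c + c') i).val • (T' ^ (i : ℕ)) v₀ =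
          (∑ i : Fin (Nat.card W₁), (c i).val • (T' ^ (i : ℕ)) v₀) +
            ∑ i : Fin (Nat.card W₁), (c' i).val • (T' ^ (i : ℕ)) v₀
        rw [← Finset.sum_add_distrib]
        refine Finset.sum_congr rfl fun i _ => ?_
        rw [← add_nsmul]
        refine nsmul_eq_nsmul_iff_modEq.mpr (Nat.ModEq.of_dvd (addOrderOf_dvd_of_nsmul_eq_zero (m.lin.exp _)) ?_)
        rw [Pi.add_apply, ZMod.val_add]
        exact Nat.mod_modEq _ _ }
  obtain ⟨r, hr, -⟩ := h.exists_projP imp
  obtain ⟨ζ, hζ⟩ : ∃ ζ : ℂ, IsPrimitiveRoot ζ (Nat.card W₂) :=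
    ⟨_, Complex.isPrimitiveRoot_exp _ (NeZero.ne _)⟩
  let z : ℂˣ := Units.mk0 ζ (hζ.ne_zero (NeZero.ne _))
  have hz : IsPrimitiveRoot z (Nat.card W₂) := IsPrimitiveRoot.coe_units_iff.mp hζ
  have hzinj : ∀ a b : ZMod (Nat.card W₂), z ^ a.val = z ^ b.val → a = b := fun a b e =>
    ZMod.val_injective _ (hz.pow_inj (ZMod.val_lt a) (ZMod.val_lt b) e)
  let θ : (Fin (Nat.card W₁) → (ZMod (Nat.card W₂))ˣ) → (V' →+ ZMod (Nat.card W₂)) := fun e =>
    { toFun := fun v => ∑ i, (e i : ZMod (Nat.card W₂)) * Φ.symm v i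
      map_zero' := by simp
      map_add' := fun v v' => by simp [mul_add, Finset.sum_add_distrib] }
  let ψ : (Fin (Nat.card W₁) → (ZMod (Nat.card W₂))ˣ) → (fittingOf S →* ℂˣ) := fun e =>
    MonoidHom.mk' (fun y => z ^ (θ e (f (r y : G))).val) fun x y => by
      rw [map_mul, Subgroup.coe_mul, m.f_mul _ (r x).2 _ (r y).2, map_add, ZMod.val_add, ← pow_eq_pow_mod _ hz.pow_eq_one,
        pow_add]
  have hsingle : ∀ i : Fin (Nat.card W₁), ∃ y : fittingOf S, (y : G) ∈ fittingHallOf S ∧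
      ∀ e, θ e (f (r y : G)) = (e i : ZMod (Nat.card W₂)) := fun i => by
    obtain ⟨x, hx, hxi⟩ := m.f_surj (Φ (Pi.single i 1))
    refine ⟨⟨x, h.P_le_fitting imp hx⟩, hx, fun e => ?_⟩
    rw [hr _ hx]
    show ∑ k, (e k : ZMod (Nat.card W₂)) * Φ.symm (f x) k = _
    rw [hxi, AddEquiv.symm_apply_apply, Finset.sum_eq_single i (fun k _ hk => by simp [Pi.single_eq_of_ne hk])
      (by simp), Pi.single_eq_same, mul_one]
  have hmem : ∀ e, NonTrivP S (ψ e) ∧ URegular S U (ψ e) := fun e => by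
    refine ⟨?_, fun t ht hfix => ?_⟩
    · obtain ⟨y, hy, hye⟩ := hsingle ⟨0, (h.q_prime imp).pos⟩
      refine ⟨y, hy, fun h1 => ?_⟩
      have h0 := hzinj (θ e (f (r y : G))) 0 (by simpa [ψ] using h1)
      rw [hye] at h0
      exact (e _).ne_zero h0
    · have h1 : π t = 1 := by
        refine L.dual_regular m.lin (θ := θ e) (fun i hi => ?_) fun v => ?_
        · show ∑ k, (e k : ZMod (Nat.card W₂)) * Φ.symm ((T' ^ i) v₀) k ≠ 0
          rw [show (T' ^ i) v₀ = Φ (Pi.single ⟨i, hi⟩ 1) by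
            show _ = ∑ k : Fin (Nat.card W₁), ((Pi.single ⟨i, hi⟩ 1 : Fin (Nat.card W₁) → ZMod (Nat.card W₂)) k).val •
              (T' ^ (k : ℕ)) v₀
            rw [Finset.sum_eq_single ⟨i, hi⟩ (fun k _ hk => by simp [Pi.single_eq_of_ne hk]) (by simp),
              Pi.single_eq_same, ZMod.val_one, one_nsmul]]
          rw [AddEquiv.symm_apply_apply, Finset.sum_eq_single ⟨i, hi⟩ (fun k _ hk => by simp [Pi.single_eq_of_ne hk])
            (by simp), Pi.single_eq_same, mul_one]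
          exact (e _).ne_zero
        · obtain ⟨x, hx, rfl⟩ := m.f_surj v
          have hfx := hfix ⟨x, h.P_le_fitting imp hx⟩ hx
          rw [← m.act _ ht x hx]
          have hx' := (mem_normalizer_iff.mp (le_normalizer_fittingHallOf S t.2) x).mp hx
          refine hzinj _ _ ?_
          simpa [ψ, hr ⟨x, h.P_le_fitting imp hx⟩ hx, hr (conjF S t ⟨x, h.P_le_fitting imp hx⟩) hx', coe_conjF] using hfx
      have h2 := (m.π_one _ ht).mp h1
      rw [h.kernelC_eq imp] at h2
      exact (mem_inf.mp h2).2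
  refine le_of_eq_of_le ?_ (Nat.card_le_card_of_injective (fun e => (⟨ψ e, hmem e⟩ :
    {ψ : fittingOf S →* ℂˣ // NonTrivP S ψ ∧ URegular S U ψ})) fun e e' he => funext fun i => Units.ext ?_)
  · rw [Nat.card_fun, Nat.card_eq_fintype_card (α := Fin (Nat.card W₁)), Fintype.card_fin, Nat.card_units,
      Nat.card_zmod]
  · obtain ⟨y, -, hye⟩ := hsingle i
    rw [← hye e, ← hye e']
    exact hzinj _ _ (DFunLike.congr_fun (congrArg Subtype.val he) y)

variable [Fintype G] [Fintype S] [Fintype (fittingOf S)] [Fintype (derK S)]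

theorem colChar_inv_hyp (ti : IsPrimeTI (derK S) (W₁.subgroupOf S) (W₂.subgroupOf S)) (b : W₂.subgroupOf S →* ℂˣ)
    (x : S) (k k' : derK S) (e : (k' : S) = x * k * x⁻¹) : ti.colChar b k' = ti.colChar b k := by
  rw [show k' = ⟨x * k * x⁻¹, ti.normal.conj_mem (k : S) k.2 x⟩ from Subtype.ext e, ti.colChar_invariant]

/-- A `U`-regular character fixed by an element outside `F(S)` lies under one of the `θ_b`. -/
theorem exists_colChar_of_fixed (ti : IsPrimeTI (derK S) (W₁.subgroupOf S) (W₂.subgroupOf S))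
    {ψ : fittingOf S →* ℂˣ} (hψ : NonTrivP S ψ) (hreg : URegular S U ψ) {g : S} (hg : (g : G) ∉ fittingOf S)
    (hfix : ∀ y, ψ (conjF S g y) = ψ y) :
    ∃ b, b ≠ 1 ∧ classInner (fun y => ti.colChar b (h.jK imp y)) (fun y => (ψ y : ℂ)) ≠ 0 := by
  classical
  haveI := h.jK_normal imp
  have hregK : ∀ k : derK S, (∀ y z, h.jK imp z = k * h.jK imp y * k⁻¹ → ψ z = ψ y) → k ∈ (h.jK imp).range := by
    intro k hk
    obtain ⟨t, ht, hmem, htk⟩ := h.exists_U_conjF imp k
    refine (h.mem_range_jK imp).mpr (hmem.mpr (h.sideC_le_fitting imp ⟨ht, hreg t ht fun y _ => ?_⟩))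
    rw [← htk]; exact hk y _ ((h.jK_conj imp).mpr rfl)
  obtain ⟨θ, O, hθ, -, hmem, -, hval, -, -, huniq⟩ :=
    exists_orbit_of_regular (h.jK imp) (h.jK_injective imp) ψ hregK
  have hne : classInner (fun y => θ (h.jK imp y)) (fun y => (ψ y : ℂ)) = 1 := by
    rw [funext hval, classInner_linear_sum, if_pos hmem]
  haveI := ti.normal
  have hgfix : g ∈ inertia (derK S) θ := by
    refine (mem_inertia _).mpr (huniq _ (isIrr_conjNormFun (derK S) g hθ) (ne_of_eq_of_ne ?_ (one_ne_zero (α := ℂ))))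
    rw [← hne]
    simp only [classInner]
    congr 1
    refine Fintype.sum_equiv (conjF S g).toEquiv _ _ fun y => ?_
    show conjNormFun (derK S) g θ (h.jK imp y) * _ = θ (h.jK imp (conjF S g y)) * _
    rw [show (conjF S g).toEquiv y = conjF S g y from rfl, hfix]
    rfl
  have hle := le_inertia (derK S) (isClassFunction_irr hθ)
  have d := h.typeData imp
  obtain ⟨a, ha, w, hw, hgw⟩ := d.compl_W.2.2.2 _ g.2
  by_cases hw1 : w = 1
  · refine absurd ?_ hg
    have hgK : g ∈ derK S := Subgroup.mem_subgroupOf.mpr (by rw [hgw, hw1, mul_one]; exact ha)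
    exact (h.mem_range_jK imp (g := ⟨g, hgK⟩)).mp (hregK ⟨g, hgK⟩ fun y z e => by
      rw [(h.jK_conj imp).mp e]; exact hfix y)
  have hwI : (⟨w, d.W_le hw⟩ : S) ∈ inertia (derK S) θ := by
    have hmem : (⟨a, commutator_le_self S ha⟩ : S) ∈ derK S := Subgroup.mem_subgroupOf.mpr ha
    have := mul_mem (inv_mem (hle hmem)) hgfix
    rwa [show (⟨a, commutator_le_self S ha⟩ : S)⁻¹ * g = ⟨w, d.W_le hw⟩ from
      Subtype.ext (show a⁻¹ * (g : G) = w by rw [hgw]; group)] at this
  haveI : Fact (Nat.card (W₁.subgroupOf S)).Prime :=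
    ⟨by rw [Nat.card_congr (Subgroup.subgroupOfEquivOfLe d.W_le).toEquiv]; exact h.q_prime imp⟩
  obtain ⟨b, rfl⟩ := ti.exists_colChar_of_invariant hθ fun x hx k => by
    have hz : Subgroup.zpowers (⟨⟨w, d.W_le hw⟩, Subgroup.mem_subgroupOf.mpr hw⟩ : W₁.subgroupOf S) = ⊤ :=
      zpowers_eq_top_of_prime_card rfl fun e => hw1 (congrArg (fun z : W₁.subgroupOf S => ((z : S) : G)) e)
    obtain ⟨n, hn⟩ := Subgroup.mem_zpowers_iff.mp (show (⟨x, hx⟩ : W₁.subgroupOf S) ∈ _ by rw [hz]; trivial)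
    have hxI : x ∈ inertia (derK S) θ := by
      rw [show x = (⟨w, d.W_le hw⟩ : S) ^ n from (congrArg Subtype.val hn).symm]
      exact zpow_mem hwI n
    exact congrFun ((mem_inertia _).mp hxI) k
  refine ⟨b, fun e => ?_, by rw [hne]; exact one_ne_zero⟩
  subst e
  obtain ⟨z, -, hz1⟩ := hψ
  have h0 : classInner (fun y => ti.colChar 1 (h.jK imp y)) (fun y => (ψ y : ℂ)) = 0 := by
    rw [show (fun y => ti.colChar 1 (h.jK imp y)) = fun y : fittingOf S => (((1 : fittingOf S →* ℂˣ) y : ℂˣ) : ℂ) from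
      funext fun y => by simp [ti.colChar_one], classInner_linear, if_neg]
    exact fun e => hz1 (by rw [← e]; rfl)
  rw [h0] at hne
  exact zero_ne_one hne

/-- (13.3)(c). -/
theorem exists_regular (ti : IsPrimeTI (derK S) (W₁.subgroupOf S) (W₂.subgroupOf S))
    (hex : ¬(IsGalois (fittingHallOf S) U ⊥ ∧ Nat.card (sideC S U) = 1 ∧
      (sideC S U).relIndex U = geom (Nat.card W₂) (Nat.card W₁))) :
    ∃ ψ : fittingOf S →* ℂˣ, NonTrivP S ψ ∧ ∀ g : S, (∀ y, ψ (conjF S g y) = ψ y) → (g : G) ∈ fittingOf S := by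
  classical
  by_contra hno
  push Not at hno
  haveI := finite_homC (h.fitting_comm imp)
  haveI := Fintype.ofFinite (fittingOf S →* ℂˣ)
  haveI := finite_homC (H := W₂.subgroupOf S) ti.comm₂
  haveI := Fintype.ofFinite (W₂.subgroupOf S →* ℂˣ)
  let O : (W₂.subgroupOf S →* ℂˣ) → Finset (fittingOf S →* ℂˣ) := fun b => Finset.univ.filter fun ψ =>
    NonTrivP S ψ ∧ classInner (fun y => ti.colChar b (h.jK imp y)) (fun y => (ψ y : ℂ)) ≠ 0
  have hO : ∀ b, (O b).card ≤ (sideC S U).relIndex U := fun b => by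
    by_cases hne : (O b).Nonempty
    · obtain ⟨ψ, hψ⟩ := hne
      obtain ⟨hψ, hψ0⟩ := (Finset.mem_filter.mp hψ).2
      obtain ⟨O', hcard, -, -, hval, -, -⟩ :=
        h.invariant_orbit imp (ti.isIrr_colChar b) (h.colChar_inv_hyp imp ti b) hψ hψ0
      rw [← hcard]
      refine Finset.card_le_card fun φ hφ => ?_
      have h0 := (Finset.mem_filter.mp hφ).2.2
      rw [funext hval, classInner_linear_sum] at h0
      by_contra hn
      exact h0 (if_neg hn)
    · simp [Finset.not_nonempty_iff_eq_empty.mp hne]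
  let B := (Finset.univ.erase (1 : W₂.subgroupOf S →* ℂˣ)).biUnion O
  have hB : B.card ≤ (Nat.card W₂ - 1) * (sideC S U).relIndex U := by
    refine Finset.card_biUnion_le.trans ((Finset.sum_le_sum fun b _ => hO b).trans ?_)
    rw [Finset.sum_const, smul_eq_mul, Finset.card_erase_of_mem (Finset.mem_univ _), Finset.card_univ,
      ← Nat.card_eq_fintype_card, card_homC ti.comm₂, Nat.card_congr (Subgroup.subgroupOfEquivOfLe
        (((h.typeData imp).W2_le).trans (h.typeData imp).H_le)).toEquiv]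
  have hsub : ∀ ψ, NonTrivP S ψ → URegular S U ψ → ψ ∈ B := fun ψ hψ hreg => by
    obtain ⟨g, hfix, hg⟩ := hno ψ hψ
    obtain ⟨b, hb, hne⟩ := h.exists_colChar_of_fixed imp ti hψ hreg hg hfix
    exact Finset.mem_biUnion.mpr ⟨b, Finset.mem_erase.mpr ⟨hb, Finset.mem_univ _⟩,
      Finset.mem_filter.mpr ⟨Finset.mem_univ _, hψ, hne⟩⟩
  have hp := h.p_prime imp
  obtain ⟨-, -, hqu, hule, -⟩ := h.u_facts imp
  have hgeom := geom_mul_pred (p := Nat.card W₂) (q := Nat.card W₁) hp.one_le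
  by_cases hgal : IsGalois (fittingHallOf S) U ⊥
  · refine hex ⟨hgal, ?_⟩
    have h1 : Nat.card {ψ : fittingOf S →* ℂˣ // NonTrivP S ψ} ≤ B.card := by
      rw [Nat.card_eq_fintype_card, Fintype.card_subtype]
      exact Finset.card_le_card fun ψ hψ => hsub ψ (Finset.mem_filter.mp hψ).2
        (h.uRegular_of_galois imp hgal (Finset.mem_filter.mp hψ).2)
    have h2 := h.card_nonTrivP imp
    rw [h.card_fitting imp, ← hgeom, add_mul, one_mul] at h2
    have hc := Nat.card_pos (α := sideC S U)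
    have hp1 : 0 < Nat.card W₂ - 1 := by have := hp.two_le; omega
    have h3 : geom (Nat.card W₂) (Nat.card W₁) * (Nat.card W₂ - 1) * Nat.card (sideC S U) ≤
        (Nat.card W₂ - 1) * (sideC S U).relIndex U := by omega
    have h4 : geom (Nat.card W₂) (Nat.card W₁) * Nat.card (sideC S U) ≤ (sideC S U).relIndex U := by
      refine Nat.le_of_mul_le_mul_right (c := Nat.card W₂ - 1) ?_ hp1
      calc _ = geom (Nat.card W₂) (Nat.card W₁) * (Nat.card W₂ - 1) * Nat.card (sideC S U) := by ring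
        _ ≤ _ := h3
        _ = _ := Nat.mul_comm _ _
    have hg0 := geom_pos (p := Nat.card W₂) (h.q_prime imp).one_le
    have hc1 : Nat.card (sideC S U) = 1 := le_antisymm
      (le_of_mul_le_mul_left (a := geom (Nat.card W₂) (Nat.card W₁)) (by rw [mul_one]; exact h4.trans hule) hg0) hc
    exact ⟨hc1, le_antisymm hule (by rwa [hc1, mul_one] at h4)⟩
  · obtain ⟨a, -, ha3, ha2, -, hua⟩ := h.u_lines imp hgal
    have h1 := h.card_uRegular_lines imp hgal
    have h2 : Nat.card {ψ : fittingOf S →* ℂˣ // NonTrivP S ψ ∧ URegular S U ψ} ≤ B.card := by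
      rw [Nat.card_eq_fintype_card, Fintype.card_subtype]
      exact Finset.card_le_card fun ψ hψ => hsub ψ (Finset.mem_filter.mp hψ).2.1 (Finset.mem_filter.mp hψ).2.2
    have hp1 : 0 < Nat.card W₂ - 1 := by have := hp.two_le; omega
    have hq1 : Nat.card W₁ - 1 ≠ 0 := by have := (h.q_prime imp).two_le; omega
    have h3 : (Nat.card W₂ - 1) ^ (Nat.card W₁ - 1) ≤ (sideC S U).relIndex U := by
      refine le_of_mul_le_mul_left (a := Nat.card W₂ - 1) ?_ hp1
      calc _ = (Nat.card W₂ - 1) ^ Nat.card W₁ := by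
            rw [← pow_succ', Nat.sub_add_cancel (h.q_prime imp).one_le]
        _ ≤ _ := h1.trans (h2.trans hB)
    have hle := Nat.le_of_dvd hp1 ha2
    have h4 := Nat.le_of_dvd (pow_pos (by omega : 0 < a) _) hua
    exact absurd (h3.trans h4) (not_le.mpr (Nat.pow_lt_pow_left (by omega) hq1))

end FTPair

end CfsgLib.OddOrder.S13
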