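import Cfsg.Agent.Lib.OddOrder.S13.Basic
import Cfsg.Agent.Lib.OddOrder.S13.Arith

/-!
Peterfalvi (13.2): the numbers `|F(S)| = p^q c`, `|S| = |F(S)| q u` and the conjugation action on `F(S)`.
-/

set_option autoImplicit false
set_option linter.unusedSectionVars false
set_option linter.style.haveILetI false

namespace CfsgLib.OddOrder.S13

open Subgroup Cfsg CfsgLib.MinSimpleOdd CfsgLib.OddOrder.S9
open scoped commutatorElement

universe u

variable {G : Type u} [Group G]

/-- `C = C_U(P)`. -/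
def sideC (S U : Subgroup G) : Subgroup G := U ⊓ centralizer (fittingHallOf S : Set G)

/-- The action of the normalizer of a subgroup. -/
def conjOn {H : Subgroup G} {g : G} (hg : g ∈ normalizer (H : Set G)) : H ≃* H where
  toFun x := ⟨g * x * g⁻¹, (mem_normalizer_iff.mp hg x).mp x.2⟩
  invFun x := ⟨g⁻¹ * x * g, by
    have h := (mem_normalizer_iff.mp ((normalizer (H : Set G)).inv_mem hg) x).mp x.2
    rwa [inv_inv] at h⟩
  left_inv x := Subtype.ext (by group)
  right_inv x := Subtype.ext (by group)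
  map_mul' x y := Subtype.ext (by simp only [Subgroup.coe_mul]; group)

theorem coe_conjOn {H : Subgroup G} {g : G} (hg : g ∈ normalizer (H : Set G)) (x : H) :
    (conjOn hg x : G) = g * x * g⁻¹ := rfl

/-- The action of `S` on `F(S)`. -/
noncomputable def conjF [Finite G] (S : Subgroup G) (g : S) : fittingOf S ≃* fittingOf S :=
  conjOn (le_normalizer_fittingOf S g.2)

theorem coe_conjF [Finite G] (S : Subgroup G) (g : S) (x : fittingOf S) :
    (conjF S g x : G) = (g : G) * x * (g : G)⁻¹ := rfl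

namespace FTPair

variable [Finite G] {S T W₁ W₂ U V : Subgroup G} (h : FTPair S T W₁ W₂ U V) (imp : FTImports G)
include h imp

theorem P_le_fitting : fittingHallOf S ≤ fittingOf S := (h.fitting_eq imp).1 ▸ le_sup_left

theorem sideC_le_fitting : sideC S U ≤ fittingOf S := (h.fitting_eq imp).1 ▸ le_sup_right

theorem fitting_le_der : fittingOf S ≤ ⁅S, S⁆ :=
  (h.fitting_eq imp).1 ▸ sup_le (h.typeData imp).H_le_der (inf_le_left.trans (h.typeData imp).U_le_der)

theorem fitting_comm (x y : fittingOf S) : x * y = y * x := (h.fitting_eq imp).2.is_comm.comm x y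

theorem inf_P_sideC : fittingHallOf S ⊓ sideC S U = ⊥ :=
  le_bot_iff.mp ((inf_le_inf_left _ inf_le_left).trans (h.typeData imp).inf_HU.le)

theorem commute_P_sideC : ∀ a ∈ fittingHallOf S, ∀ b ∈ sideC S U, a * b = b * a :=
  fun a ha _ hb => (mem_inf.mp hb).2 a ha

theorem fitting_complIn : IsComplIn (fittingHallOf S) (sideC S U) (fittingOf S) := by
  refine ⟨h.P_le_fitting imp, h.sideC_le_fitting imp, h.inf_P_sideC imp, fun x hx => ?_⟩
  rw [(h.fitting_eq imp).1] at hx
  obtain ⟨a, ha, b, hb, e⟩ := CfsgLib.mem_sup_of_le_normalizer (W := fittingHallOf S) (A := sideC S U)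
    (fun b hb => (h.typeData imp).H_normal ((h.typeData imp).U_le (mem_inf.mp hb).1)) hx
  exact ⟨a, ha, b, hb, e.symm⟩

theorem card_fitting : Nat.card (fittingOf S) = Nat.card W₂ ^ Nat.card W₁ * Nat.card (sideC S U) := by
  rw [card_complIn (h.fitting_complIn imp), h.card_P imp]

theorem card_U : Nat.card U = Nat.card (sideC S U) * (sideC S U).relIndex U := by
  rw [← relIndex_bot_left U, ← relIndex_mul_relIndex _ _ _ bot_le (inf_le_left : sideC S U ≤ U), relIndex_bot_left,
    sideC]

theorem card_S : Nat.card S = Nat.card (fittingOf S) * (Nat.card W₁ * (sideC S U).relIndex U) := by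
  rw [(h.typeData imp).card_M, h.card_fitting imp, h.card_U imp, h.card_P imp]
  ring

theorem relIndex_fitting : (fittingOf S).relIndex (⁅S, S⁆ : Subgroup G) = (sideC S U).relIndex U := by
  refine Nat.eq_of_mul_eq_mul_left (Nat.card_pos (α := fittingOf S)) ?_
  rw [← relIndex_bot_left (fittingOf S), relIndex_mul_relIndex _ _ _ bot_le (h.fitting_le_der imp),
    relIndex_bot_left, relIndex_bot_left, card_complIn (h.typeData imp).compl_U, h.card_U imp, h.card_fitting imp,
    h.card_P imp]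
  ring

theorem sideC_eq_kernelC : sideC S U = kernelC (fittingHallOf S) U ⊥ := (h.kernelC_eq imp).symm

theorem u_facts : Odd ((sideC S U).relIndex U) ∧ (sideC S U).relIndex U % Nat.card W₁ = 1 ∧
    Nat.card W₁ < (sideC S U).relIndex U ∧ (sideC S U).relIndex U ≤ geom (Nat.card W₂) (Nat.card W₁) ∧
    (sideC S U).relIndex U ∣ Nat.card U := by
  have hh := (h.coreKernel_bot imp).1.index_facts (h.typeData imp) (h.p_prime imp) (h.card_P' imp)
  rw [← h.sideC_eq_kernelC imp] at hh
  exact ⟨hh.2.1, hh.2.2.1, hh.2.2.2.1, by rw [geom_eq_div (h.p_prime imp).two_le]; exact hh.2.2.2.2, hh.1⟩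

theorem u_galois (hgal : IsGalois (fittingHallOf S) U ⊥) :
    ((sideC S U).relIndex U).Coprime (Nat.card W₂ - 1) ∧
      (sideC S U).relIndex U ∣ geom (Nat.card W₂) (Nat.card W₁) ∧
      ∀ r, r ∣ (sideC S U).relIndex U → r % Nat.card W₁ = 1 := by
  have hh := (h.coreKernel_bot imp).1.galois_facts (h.typeData imp) (h.p_prime imp) (h.card_P' imp) hgal
  rw [← h.sideC_eq_kernelC imp] at hh
  exact ⟨hh.1, by rw [geom_eq_div (h.p_prime imp).two_le]; exact hh.2.1, hh.2.2.1⟩

theorem u_lines (hgal : ¬ IsGalois (fittingHallOf S) U ⊥) :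
    ∃ a : ℕ, Odd a ∧ 3 ≤ a ∧ 2 * a ∣ Nat.card W₂ - 1 ∧ a ∣ (sideC S U).relIndex U ∧
      (sideC S U).relIndex U ∣ a ^ (Nat.card W₁ - 1) := by
  obtain ⟨a, h1, h2, h3, h4, h5, -⟩ :=
    (h.coreKernel_bot imp).1.nonGalois_facts (h.typeData imp) (h.p_prime imp) (h.card_P' imp) hgal
  rw [← h.sideC_eq_kernelC imp] at h4 h5
  exact ⟨a, h1, h2, h3, h4, h5⟩

/-- `C` is normalised by `W₁`. -/
theorem W₁_normalizes_sideC {w : G} (hw : w ∈ W₁) : w ∈ normalizer (sideC S U : Set G) := by
  have d := h.typeData imp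
  refine mem_normalizer_of_conj fun x hx => ⟨(mem_normalizer_iff.mp (d.U_norm hw) x).mp hx.1, fun y hy => ?_⟩
  have hy' : w⁻¹ * y * w ∈ fittingHallOf S := by
    have h0 := (mem_normalizer_iff.mp (d.H_normal (S.inv_mem (d.W_le hw))) y).mp hy
    rwa [inv_inv] at h0
  calc y * (w * x * w⁻¹) = w * (w⁻¹ * y * w * x) * w⁻¹ := by group
    _ = w * (x * (w⁻¹ * y * w)) * w⁻¹ := by rw [(mem_inf.mp hx).2 _ hy']
    _ = w * x * w⁻¹ * y := by group

end FTPair

end CfsgLib.OddOrder.S13
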