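import Cfsg.Agent.Lib.OddOrder.S13.Overgroup
import Cfsg.Agent.Lib.OddOrder.S13.Facts
import Cfsg.Agent.Lib.OddOrder.S8.Tame

/-!
In place of Peterfalvi (13.12): for `q < p` the elements of `U - 1` have no fixed point on `P`.
If `x ∈ U` of prime order `r` has one, so has a conjugate of it under `W₁`; the elements of `N(U)` outside `S` move
all these points away, and there are too few elements of order `r` in `U`.
-/

set_option autoImplicit false
set_option linter.unusedSectionVars false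
set_option linter.style.haveILetI false

namespace CfsgLib.OddOrder.S13

open Subgroup Cfsg CfsgLib.MinSimpleOdd CfsgLib.OddOrder.S9
open scoped commutatorElement Pointwise IsMulCommutative

universe u

variable {G : Type u} [Group G]

/-- If the first `m` powers of `g` move `F` to disjoint places inside `E`, then `m |F| ≤ |E|`. -/
theorem orbit_count [DecidableEq G] {F E : Finset G} {g : G} {m : ℕ}
    (hmaps : ∀ i : ℕ, ∀ e ∈ F, g ^ i * e * (g ^ i)⁻¹ ∈ E)
    (hmove : ∀ d : ℕ, 0 < d → d < m → ∀ e ∈ F, g ^ d * e * (g ^ d)⁻¹ ∉ F) : m * F.card ≤ E.card := by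
  have key : ∀ i j : ℕ, i ≤ j → j < m → ∀ e ∈ F, ∀ e' ∈ F,
      g ^ i * e * (g ^ i)⁻¹ = g ^ j * e' * (g ^ j)⁻¹ → i = j ∧ e = e' := by
    intro i j hij hj e he e' he' heq
    obtain ⟨d, rfl⟩ := Nat.exists_eq_add_of_le hij
    have h1 : e = g ^ d * e' * (g ^ d)⁻¹ := by
      calc e = (g ^ i)⁻¹ * (g ^ i * e * (g ^ i)⁻¹) * g ^ i := by group
        _ = (g ^ i)⁻¹ * (g ^ (i + d) * e' * (g ^ (i + d))⁻¹) * g ^ i := by rw [heq]
        _ = g ^ d * e' * (g ^ d)⁻¹ := by rw [pow_add]; group
    rcases Nat.eq_zero_or_pos d with rfl | hd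
    · exact ⟨rfl, by simpa using h1⟩
    · exact absurd (h1 ▸ he) (hmove d hd (by omega) e' he')
  calc m * F.card = (Finset.range m ×ˢ F).card := by rw [Finset.card_product, Finset.card_range]
    _ ≤ E.card := by
      refine Finset.card_le_card_of_injOn (fun z => g ^ z.1 * z.2 * (g ^ z.1)⁻¹)
        (fun z hz => hmaps z.1 z.2 (Finset.mem_product.mp hz).2) ?_
      intro a ha b hb e
      obtain ⟨ha1, ha2⟩ := Finset.mem_product.mp (Finset.mem_coe.mp ha)
      obtain ⟨hb1, hb2⟩ := Finset.mem_product.mp (Finset.mem_coe.mp hb)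
      rcases le_total a.1 b.1 with hle | hle
      · obtain ⟨e1, e2⟩ := key _ _ hle (Finset.mem_range.mp hb1) _ ha2 _ hb2 e
        exact Prod.ext e1 e2
      · obtain ⟨e1, e2⟩ := key _ _ hle (Finset.mem_range.mp ha1) _ hb2 _ ha2 e.symm
        exact Prod.ext e1.symm e2.symm

theorem mem_of_coprime_pows {H : Subgroup G} {g : G} {a b : ℕ} (hab : a.Coprime b) (ha : g ^ a ∈ H)
    (hb : g ^ b ∈ H) : g ∈ H := by
  have h1 : g = (g ^ a) ^ a.gcdA b * (g ^ b) ^ a.gcdB b := by
    rw [← zpow_natCast, ← zpow_natCast, ← zpow_mul, ← zpow_mul, ← zpow_add, ← Nat.gcd_eq_gcd_ab, hab.gcd_eq_one,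
      Nat.cast_one, zpow_one]
  rw [h1]
  exact H.mul_mem (H.zpow_mem ha _) (H.zpow_mem hb _)

variable [Finite G] {S T W₁ W₂ U V : Subgroup G}

namespace FTPair

variable (h : FTPair S T W₁ W₂ U V) (imp : FTImports G)
include h imp

/-- An element of `S` of order `p` lies in `P`. -/
theorem mem_P_of_order {x : G} (hx : x ∈ S) (ho : orderOf x = Nat.card W₂) : x ∈ fittingHallOf S := by
  have d := h.typeData imp
  refine mem_of_coprime_index d.H_le d.H_normal hx ?_
  rw [show (fittingHallOf S).relIndex S = Nat.card U * Nat.card W₁ by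
    rw [← relIndex_mul_relIndex _ _ _ d.H_le_der (commutator_le_self S), relIndex_of_compl d.compl_U,
      relIndex_of_compl d.compl_W]]
  refine Nat.Coprime.mul_right ?_ ?_
  · rw [ho]
    exact d.copHU.coprime_dvd_left (card_dvd_of_le d.W2_le)
  · rw [ho]
    exact (Nat.coprime_primes (h.p_prime imp) (h.q_prime imp)).mpr (h.p_ne_q imp)

/-- An element of `U - 1` with a fixed point on `P` has its centralizer in `S`. -/
theorem centralizer_le_of_fixed {e y : G} (he : e ∈ U) (he1 : e ≠ 1) (hy : y ∈ fittingHallOf S) (hy1 : y ≠ 1)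
    (hc : e * y = y * e) : centralizer ({e} : Set G) ≤ S := by
  classical
  obtain ⟨hti, hn⟩ := S8.ftPair_typeA0_TI h imp
  have d := h.typeData imp
  have hA : e ∈ typeA0 S := by
    refine Or.inl ?_
    have hcore : y ∈ typeCore S := by
      unfold typeCore
      split
      · exact d.H_le_der hy
      · exact hy
    unfold typeA
    split
    · exact ⟨d.U_le he, he1, y, hy, hy1, hc⟩
    · exact ⟨d.U_le_der he, he1, y, hcore, hy1, hc⟩
  intro g hg
  rw [← hn]
  by_contra hgn
  exact he1 (hti g hgn e hA (by rwa [mem_centralizer_singleton_iff.mp hg, mul_inv_cancel_right]))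

/-- `g` maps one element of `U - 1` with a fixed point on `P` to another only if it lies in `S`. -/
theorem mem_of_fixed_fusion {g e y y' : G} (hy : y ∈ fittingHallOf S) (hy1 : y ≠ 1) (hc : e * y = y * e)
    (he' : g * e * g⁻¹ ∈ U) (he1 : e ≠ 1) (hy' : y' ∈ fittingHallOf S) (hy1' : y' ≠ 1)
    (hc' : g * e * g⁻¹ * y' = y' * (g * e * g⁻¹)) : g ∈ S := by
  have hmem : g * y * g⁻¹ ∈ S :=
    h.centralizer_le_of_fixed imp he' (fun e1 => he1 (conj_eq_one_iff.mp e1)) hy' hy1' hc'
      (mem_centralizer_singleton_iff.mpr (by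
        calc g * y * g⁻¹ * (g * e * g⁻¹) = g * (y * e) * g⁻¹ := by group
          _ = g * (e * y) * g⁻¹ := by rw [hc]
          _ = g * e * g⁻¹ * (g * y * g⁻¹) := by group))
  haveI := Fact.mk (h.p_prime imp)
  have ho : orderOf (g * y * g⁻¹) = Nat.card W₂ := by
    rw [show g * y * g⁻¹ = MulAut.conj g y from rfl, MulEquiv.orderOf_eq]
    exact orderOf_eq_prime ((h.coreKernel_bot imp).2.2 y hy) hy1
  exact h.mem_of_conj_fitting imp (h.P_le_fitting imp hy) hy1 (h.P_le_fitting imp (h.mem_P_of_order imp hmem ho))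

/-- At most `r ^ 2` elements of `U` satisfy `x ^ r = 1` in the reducible case with `q = 3`. -/
theorem torsion_le (hC : sideC S U = ⊥) (hgal : ¬ IsGalois (fittingHallOf S) U ⊥) (hq : Nat.card W₁ = 3)
    {r : ℕ} (hr : 0 < r) (s : Finset G) (hs : ∀ e ∈ s, e ∈ U ∧ e ^ r = 1) : s.card ≤ r ^ 2 := by
  classical
  haveI := Fact.mk (h.p_prime imp)
  have dd := h.typeData imp
  obtain ⟨w, hw, hw1⟩ := dd.exists_W1
  obtain ⟨X, _, _, A, _, _, f, π, ρ, σ, T', m⟩ :=
    (h.coreKernel_bot imp).1.exists_model_of_card dd (h.p_prime imp) (h.card_P' imp) hw hw1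
  obtain ⟨v₀, lam, L⟩ := m.lin.exists_lineBasis fun hh => hgal (m.isGalois_iff.mpr hh)
  have hpow : ∀ e ∈ U, ∀ n : ℕ, π (e ^ n) = π e ^ n := fun e he n => by
    induction n with
    | zero => rw [pow_zero, pow_zero, m.π_map_one]
    | succ n ih => rw [pow_succ, m.π_mul _ (U.pow_mem he n) _ he, ih, pow_succ]
  let R : Finset (ZMod (Nat.card W₂))ˣ := Finset.univ.filter fun a => a ^ r = 1
  have hR : R.card ≤ r := IsCyclic.card_pow_eq_one_le hr
  refine le_trans ?_ (le_of_le_of_eq (Nat.mul_le_mul hR hR) (sq r).symm)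
  rw [← Finset.card_product]
  refine Finset.card_le_card_of_injOn (fun e => (lam (π e), lam ((σ ^ 1)⁻¹ (π e)))) (fun e he => ?_) ?_
  · obtain ⟨heU, her⟩ := hs e he
    have h1 : π e ^ r = 1 := by rw [← hpow e heU, her, m.π_map_one]
    exact Finset.mem_product.mpr ⟨Finset.mem_filter.mpr ⟨Finset.mem_univ _, by rw [← map_pow, h1, map_one]⟩,
      Finset.mem_filter.mpr ⟨Finset.mem_univ _, by rw [← map_pow, ← map_pow, h1, map_one, map_one]⟩⟩
  intro a ha b hb e
  obtain ⟨haU, -⟩ := hs a ha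
  obtain ⟨hbU, -⟩ := hs b hb
  simp only [Prod.mk.injEq] at e
  have hπ : π (a⁻¹ * b) = (π a)⁻¹ * π b := by rw [m.π_mul _ (U.inv_mem haU) _ hbU, m.π_inv haU]
  have hone : (π a)⁻¹ * π b = 1 := by
    have h0 : lam ((π a)⁻¹ * π b) = 1 := by rw [map_mul, map_inv, e.1, inv_mul_cancel]
    have h1 : lam ((σ ^ 1)⁻¹ ((π a)⁻¹ * π b)) = 1 := by rw [map_mul, map_mul, map_inv, map_inv, e.2, inv_mul_cancel]
    refine L.eq_one_of_forall m.lin fun i hi => ?_
    rcases (show i = 0 ∨ i = 1 ∨ i = 2 by omega) with rfl | rfl | rfl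
    · simpa using h0
    · exact h1
    · have h2 := L.prod_eq_one m.lin ((π a)⁻¹ * π b)
      simp only [hq, Finset.prod_range_succ, Finset.prod_range_zero, one_mul, h1] at h2
      rw [pow_zero, inv_one, MulAut.one_apply, h0, one_mul] at h2
      rwa [one_mul] at h2
  have hmem := (m.π_one _ (U.mul_mem (U.inv_mem haU) hbU)).mp (hπ.trans hone)
  rw [← h.sideC_eq_kernelC imp, hC, mem_bot, inv_mul_eq_one] at hmem
  exact hmem

/-- **Replacement of (13.12)**: `U` is fixed point free on `P`. -/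
theorem fpf_of_lt (hC : sideC S U = ⊥) (hD : sideC T V = ⊥) (hcls : IsClassified S T)
    (hlt : Nat.card W₁ < Nat.card W₂) (hu : IsGalois (fittingHallOf S) U ⊥ ∨ Nat.card W₁ = 3) :
    ∀ x ∈ U, x ≠ 1 → fittingHallOf S ⊓ centralizer ({x} : Set G) = ⊥ := by
  classical
  haveI := Fintype.ofFinite G
  intro x₀ hx₀ hx₀1
  have d := h.typeData imp
  set P := fittingHallOf S with hPdef
  have hinCP : ∀ {e : G}, e ∈ U → e ∈ centralizer (P : Set G) → e = 1 := fun {e} he hc => by
    have : e ∈ sideC S U := ⟨he, hc⟩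
    rwa [hC, mem_bot] at this
  by_cases hgal : IsGalois P U ⊥
  · exact h.galois_fixed imp hgal hx₀ fun hc => hx₀1 (hinCP hx₀ hc)
  have hq3 : Nat.card W₁ = 3 := hu.resolve_left hgal
  by_contra hne
  obtain ⟨⟨y, hy⟩, hy1'⟩ := ne_bot_iff_exists_ne_one.mp hne
  have hy1 : y ≠ 1 := fun e => hy1' (Subtype.ext e)
  obtain ⟨hyP, hyc⟩ := mem_inf.mp hy
  -- an element of prime order with a fixed point
  obtain ⟨r, hr, hrd⟩ := Nat.exists_prime_and_dvd (n := Nat.card (zpowers x₀)) fun e => hx₀1 (by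
    rwa [card_eq_one, zpowers_eq_bot] at e)
  haveI := Fact.mk hr
  obtain ⟨⟨x, hxz⟩, hxo⟩ := exists_prime_orderOf_dvd_card' (G := zpowers x₀) r hrd
  rw [Subgroup.orderOf_mk] at hxo
  have hxU : x ∈ U := zpowers_le.mpr hx₀ hxz
  have hx1 : x ≠ 1 := fun e => hr.ne_one (by rw [← hxo, e, orderOf_one])
  have hxy : x * y = y * x := by
    obtain ⟨i, rfl⟩ := hxz
    exact (Commute.zpow_left (show Commute x₀ y from (mem_centralizer_singleton_iff.mp hyc).symm) i).eq
  -- `r` is small
  have hrp : 2 * r ≤ Nat.card W₂ - 1 := by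
    obtain ⟨a, -, -, ha2, -, ha⟩ := h.u_lines imp hgal
    have hrU : r ∣ Nat.card U := hxo ▸ Nat.card_zpowers x ▸ card_dvd_of_le (zpowers_le.mpr hxU)
    rw [h.card_U imp, hC, card_bot, one_mul] at hrU
    rw [hC] at ha
    have hra : r ∣ a := hr.dvd_of_dvd_pow (hrU.trans ha)
    have hp := (h.p_prime imp).two_le
    exact Nat.le_of_dvd (by omega) ((Nat.mul_dvd_mul_left 2 hra).trans ha2)
  -- the points with fixed points
  let E : Finset G := Finset.univ.filter fun e => e ∈ U ∧ e ^ r = 1 ∧ e ≠ 1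
  let F : Finset G := E.filter fun e => ∃ z ∈ P, z ≠ 1 ∧ e * z = z * e
  have hE : E.card + 1 ≤ r ^ 2 := by
    have h1 : (1 : G) ∉ E := by simp [E]
    rw [← Finset.card_insert_of_notMem h1]
    refine h.torsion_le imp hC hgal hq3 hr.pos _ fun e he => ?_
    rcases Finset.mem_insert.mp he with rfl | he
    · exact ⟨U.one_mem, one_pow r⟩
    · exact ⟨(Finset.mem_filter.mp he).2.1, (Finset.mem_filter.mp he).2.2.1⟩
  obtain ⟨w, hw, hw1⟩ := d.exists_W1
  have hwn := d.U_norm hw
  have hwS : w ∈ S := d.W_le hw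
  have hx'U : w * x * w⁻¹ ∈ U := (mem_normalizer_iff.mp hwn x).mp hxU
  have hF : 2 * (r - 1) ≤ F.card := by
    let line : G → Finset G := fun t => (Finset.univ.filter fun e => e ∈ zpowers t).erase 1
    have hline : ∀ t z : G, t ∈ U → orderOf t = r → z ∈ P → z ≠ 1 → t * z = z * t →
        (line t).card = r - 1 ∧ line t ⊆ F := fun t z ht hto hz hz1 htz => by
      refine ⟨?_, fun e he => ?_⟩
      · rw [Finset.card_erase_of_mem (by simp), ← Fintype.card_subtype, ← Nat.card_eq_fintype_card,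
          Nat.card_zpowers, hto]
      · obtain ⟨he1, he⟩ := Finset.mem_erase.mp he
        obtain ⟨i, rfl⟩ := (Finset.mem_filter.mp he).2
        refine Finset.mem_filter.mpr ⟨Finset.mem_filter.mpr ⟨Finset.mem_univ _, U.zpow_mem ht i, ?_, he1⟩,
          z, hz, hz1, (Commute.zpow_left (show Commute t z from htz) i).eq⟩
        rw [← zpow_natCast, ← zpow_mul, mul_comm, zpow_mul, zpow_natCast, ← hto, pow_orderOf_eq_one, one_zpow]
    have hx'o : orderOf (w * x * w⁻¹) = r := by
      rw [show w * x * w⁻¹ = MulAut.conj w x from rfl, MulEquiv.orderOf_eq, hxo]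
    obtain ⟨c1, s1⟩ := hline x y hxU hxo hyP hy1 hxy
    obtain ⟨c2, s2⟩ := hline (w * x * w⁻¹) (w * y * w⁻¹) hx'U hx'o
      ((mem_normalizer_iff.mp (d.H_normal hwS) y).mp hyP) (fun e => hy1 (conj_eq_one_iff.mp e)) (by
        calc w * x * w⁻¹ * (w * y * w⁻¹) = w * (x * y) * w⁻¹ := by group
          _ = w * (y * x) * w⁻¹ := by rw [hxy]
          _ = w * y * w⁻¹ * (w * x * w⁻¹) := by group)
    have hdis : Disjoint (line x) (line (w * x * w⁻¹)) := by
      rw [Finset.disjoint_left]
      intro t ht ht'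
      obtain ⟨ht1, ht⟩ := Finset.mem_erase.mp ht
      have ht2 := (Finset.mem_filter.mp ht).2
      have ht3 := (Finset.mem_filter.mp (Finset.mem_erase.mp ht').2).2
      have hto : orderOf t = r := by
        refine ((Nat.dvd_prime hr).mp (hxo ▸ Nat.card_zpowers x ▸ ?_)).resolve_left fun e =>
          ht1 (orderOf_eq_one_iff.mp e)
        exact Subgroup.orderOf_dvd_natCard _ ht2
      have e1 : zpowers t = zpowers x := eq_of_le_of_card_ge (zpowers_le.mpr ht2)
        (by rw [Nat.card_zpowers, Nat.card_zpowers, hto, hxo])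
      have e2 : zpowers t = zpowers (w * x * w⁻¹) := eq_of_le_of_card_ge (zpowers_le.mpr ht3)
        (by rw [Nat.card_zpowers, Nat.card_zpowers, hto, hx'o])
      have hwx : w * x * w⁻¹ ∈ zpowers x := by rw [← e1, e2]; exact mem_zpowers _
      -- then `C_P(x)` is invariant under `U W₁`
      have hnx : ∀ g ∈ W₁, ∀ z ∈ P ⊓ centralizer ({x} : Set G), g * z * g⁻¹ ∈ P ⊓ centralizer ({x} : Set G) := by
        intro g hg z hz
        refine ⟨(mem_normalizer_iff.mp (d.H_normal (d.W_le hg)) z).mp hz.1, mem_centralizer_singleton_iff.mpr ?_⟩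
        have hgx : g⁻¹ * x * g ∈ zpowers x := by
          have hn : W₁ ≤ normalizer (zpowers x : Set G) := by
            rw [← d.zpowers_eq hw hw1, zpowers_le]
            refine mem_normalizer_of_conj fun s hs => ?_
            obtain ⟨i, rfl⟩ := hs
            rw [← conj_zpow]
            exact zpow_mem hwx i
          have := (mem_normalizer_iff.mp (hn (W₁.inv_mem hg)) x).mp (mem_zpowers x)
          rwa [inv_inv] at this
        obtain ⟨i, hi⟩ := hgx
        have hzc : z * (g⁻¹ * x * g) = g⁻¹ * x * g * z := by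
          rw [← hi]
          exact ((Commute.zpow_left (show Commute x z from (mem_centralizer_singleton_iff.mp hz.2).symm) i).eq).symm
        calc g * z * g⁻¹ * x = g * (z * (g⁻¹ * x * g)) * g⁻¹ := by group
          _ = g * (g⁻¹ * x * g * z) * g⁻¹ := by rw [hzc]
          _ = x * (g * z * g⁻¹) := by group
      have hUn : U ≤ normalizer ((P ⊓ centralizer ({x} : Set G) : Subgroup G) : Set G) := fun g hg =>
        mem_normalizer_of_conj fun z hz => by
          refine ⟨(mem_normalizer_iff.mp (d.H_normal (d.U_le hg)) z).mp hz.1, mem_centralizer_singleton_iff.mpr ?_⟩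
          have hgx : g * x = x * g := congrArg Subtype.val ((h.U_comm imp).is_comm.comm ⟨g, hg⟩ ⟨x, hxU⟩)
          calc g * z * g⁻¹ * x = g * z * (g⁻¹ * (x * g)) * g⁻¹ := by group
            _ = g * z * (g⁻¹ * (g * x)) * g⁻¹ := by rw [hgx]
            _ = g * (z * x) * g⁻¹ := by group
            _ = g * (x * z) * g⁻¹ := by rw [mem_centralizer_singleton_iff.mp hz.2]
            _ = g * x * (z * g⁻¹) := by group
            _ = x * g * (z * g⁻¹) := by rw [hgx]
            _ = x * (g * z * g⁻¹) := by group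
      rcases (h.coreKernel_bot imp).1.eq_or_eq d bot_le inf_le_left hUn
        (fun g hg => mem_normalizer_of_conj (hnx g hg)) with e | e
      · have : y ∈ P ⊓ centralizer ({x} : Set G) := ⟨hyP, mem_centralizer_singleton_iff.mpr hxy.symm⟩
        rw [e, mem_bot] at this
        exact hy1 this
      · exact hx1 (hinCP hxU fun z hz => mem_centralizer_singleton_iff.mp (e.ge hz).2)
    calc 2 * (r - 1) = (line x ∪ line (w * x * w⁻¹)).card := by rw [Finset.card_union_of_disjoint hdis, c1, c2]; ring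
      _ ≤ F.card := Finset.card_le_card (Finset.union_subset s1 s2)
  -- moving the points out
  have hkey : ∀ g : G, ∀ e ∈ F, g * e * g⁻¹ ∈ F → g ∈ S := fun g e he hge => by
    obtain ⟨heE, z, hz, hz1, hez⟩ := Finset.mem_filter.mp he
    obtain ⟨hgE, z', hz', hz1', hez'⟩ := Finset.mem_filter.mp hge
    exact h.mem_of_fixed_fusion imp hz hz1 hez (Finset.mem_filter.mp hgE).2.1 (Finset.mem_filter.mp heE).2.2.2
      hz' hz1' hez'
  have hfinal : ∀ g : G, ∀ m : ℕ, r ≤ m → g ∈ normalizer (U : Set G) → (∀ i, 0 < i → i < m → g ^ i ∉ S) →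
      False := fun g m hm hg hout => by
    have hcount := orbit_count (g := g) (m := m) (F := F) (E := E) (fun i e he => ?_) (fun i hi him e he hge =>
      hout i hi him (hkey _ e he hge))
    · obtain ⟨k, rfl⟩ : ∃ k, r = k + 2 := ⟨r - 2, by have := hr.two_le; omega⟩
      have h3 : (k + 2) * (2 * (k + 1)) ≤ m * F.card := Nat.mul_le_mul hm (by simpa using hF)
      nlinarith
    · have hgi := pow_mem hg i
      obtain ⟨heE, -⟩ := Finset.mem_filter.mp he
      obtain ⟨-, heU, her, he1⟩ := Finset.mem_filter.mp heE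
      exact Finset.mem_filter.mpr ⟨Finset.mem_univ _, (mem_normalizer_iff.mp hgi e).mp heU,
        by rw [conj_pow, her, mul_one, mul_inv_cancel], fun e1 => he1 (conj_eq_one_iff.mp e1)⟩
  -- the overgroup of `N(U)`
  have hII := h.typeII_of_lt imp hlt
  have hUne := h.U_ne imp
  obtain ⟨L, hL, hNU⟩ := (eq_top_or_exists_le_coatom (normalizer (U : Set G))).resolve_left
    (normalizer_ne_top h.hG hUne fun e => h.hS.1 (top_le_iff.mp (e.ge.trans d.U_le)))
  obtain ⟨-, -, hUH, hqH, halt⟩ := h.overgroup imp hC hD hcls hII hL hNU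
  set H := fittingHallOf L with hHdef
  haveI : Group.IsNilpotent H := fittingHallOf_nilpotent L
  have hHS : H ⊓ S ≤ U := by
    rintro z ⟨hzH, hzS⟩
    have hz' : z ∈ (⁅S, S⁆ : Subgroup G) := by
      refine mem_of_coprime_index (commutator_le_self S) le_normalizer_derived hzS ?_
      rw [relIndex_of_compl d.compl_W]
      exact ((h.q_prime imp).coprime_iff_not_dvd.mpr hqH).symm.coprime_dvd_left
        (Subgroup.orderOf_dvd_natCard _ hzH)
    obtain ⟨a, ha, b, hb, rfl⟩ := d.compl_U.2.2.2 z hz'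
    have haH : a ∈ H := by
      have := H.mul_mem hzH (H.inv_mem (hUH hb))
      rwa [mul_inv_cancel_right] at this
    have : a ∈ P ⊓ centralizer (U : Set G) := by
      refine ⟨ha, fun v hv => ?_⟩
      exact (congrArg Subtype.val (CfsgLib.Frob.commute_of_nilpotent_coprime (a := (⟨v, hUH hv⟩ : H))
        (b := ⟨a, haH⟩) (by
          rw [Subgroup.orderOf_mk, Subgroup.orderOf_mk]
          exact (d.copHU.symm.coprime_dvd_left (Subgroup.orderOf_dvd_natCard _ hv)).coprime_dvd_right
            (Subgroup.orderOf_dvd_natCard _ ha))).eq :)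
    rw [h.fixed_U imp, mem_bot] at this
    rwa [this, one_mul]
  by_cases hHU : H ≤ U
  · have hHeq : H = U := le_antisymm hHU hUH
    rcases halt with ⟨-, hsup⟩ | ⟨z, hz, -, hsup⟩
    · refine h.normalizer_U_not_le imp hII (hNU.trans ?_)
      rw [← hsup, hHeq]
      exact sup_le d.U_le d.W_le
    · obtain ⟨⟨b, hb⟩, hb1'⟩ := ne_bot_iff_exists_ne_one.mp d.W2_ne
      have hb1 : b ≠ 1 := fun e => hb1' (Subtype.ext e)
      set g := z * b * z⁻¹ with hg
      have hgL : g ∈ L := hsup ▸ mem_sup_right (mem_sup_right ⟨b, hb, rfl⟩)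
      have hgn : g ∈ normalizer (U : Set G) := hHeq ▸ le_normalizer_fittingHallOf L hgL
      haveI := Fact.mk (h.p_prime imp)
      have hgo : orderOf g = Nat.card W₂ := by
        rw [hg, show z * b * z⁻¹ = MulAut.conj z b from rfl, MulEquiv.orderOf_eq]
        exact orderOf_eq_prime ((h.coreKernel_bot imp).2.2 b (d.W2_le hb)) hb1
      refine hfinal g (Nat.card W₂) (by omega) hgn fun i hi hip hiS => ?_
      have hgS : g ∈ S := mem_of_coprime_pows (Nat.coprime_of_lt_prime hi.ne' hip (h.p_prime imp))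
        (by rw [← hgo, pow_orderOf_eq_one]; exact S.one_mem) hiS
      have hgP := h.mem_P_of_order imp hgS hgo
      have : g ∈ P ⊓ centralizer (U : Set G) := by
        refine ⟨hgP, fun v hv => ?_⟩
        have h1 : g * v * g⁻¹ * v⁻¹ ∈ P ⊓ U := ⟨by
          have := (mem_normalizer_iff.mp (d.H_normal (d.U_le hv)) _).mp (P.inv_mem hgP)
          rw [show g * v * g⁻¹ * v⁻¹ = g * (v * g⁻¹ * v⁻¹) by group]
          exact P.mul_mem hgP this, U.mul_mem ((mem_normalizer_iff.mp hgn v).mp hv) (U.inv_mem hv)⟩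
        rw [d.inf_HU, mem_bot, mul_inv_eq_one, mul_inv_eq_iff_eq_mul] at h1
        exact h1.symm
      rw [h.fixed_U imp, mem_bot] at this
      exact (h.p_prime imp).ne_one (by rw [← hgo, this, orderOf_one])
  · have hlt' : U.subgroupOf H < ⊤ := lt_of_le_of_ne le_top fun e => hHU (subgroupOf_eq_top.mp e)
    obtain ⟨⟨g, hgH⟩, hgn', hgU⟩ := SetLike.exists_of_lt (Group.normalizerCondition_of_isNilpotent _ hlt')
    have hgn : g ∈ normalizer (U : Set G) := mem_normalizer_of_conj fun v hv => by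
      have := (mem_normalizer_iff.mp hgn' ⟨v, hUH hv⟩).mp hv
      exact this
    have hgU' : g ∉ U := fun e => hgU e
    have hxH : x ∈ H := hUH hxU
    obtain ⟨k, m, hm, hmk⟩ := Nat.exists_eq_pow_mul_and_not_dvd (orderOf_pos g).ne' r hr.ne_one
    have hgk : g ^ r ^ k ∈ U := by
      refine hHS ⟨H.pow_mem hgH _, h.centralizer_le_of_fixed imp hxU hx1 hyP hy1 hxy
        (mem_centralizer_singleton_iff.mpr ?_)⟩
      refine (congrArg Subtype.val (CfsgLib.Frob.commute_of_nilpotent_coprime (a := (⟨g ^ r ^ k, H.pow_mem hgH _⟩ : H))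
        (b := ⟨x, hxH⟩) ?_).eq :)
      rw [Subgroup.orderOf_mk, Subgroup.orderOf_mk, hxo]
      refine Nat.Coprime.coprime_dvd_left ?_ (hr.coprime_iff_not_dvd.mpr hm).symm
      exact orderOf_dvd_of_pow_eq_one (by rw [← pow_mul, ← hmk, pow_orderOf_eq_one])
    refine hfinal g r le_rfl hgn fun i hi hir hiS => hgU' ?_
    exact mem_of_coprime_pows ((Nat.coprime_of_lt_prime hi.ne' hir hr).pow_left k) hgk
      (hHS ⟨H.pow_mem hgH i, hiS⟩)

end FTPair

end CfsgLib.OddOrder.S13
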