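import Cfsg.Agent.Lib.OddOrder.S13.Coh
import Cfsg.Agent.Lib.OddOrder.S9b.Main

/-!
Peterfalvi (9.11) for the pair: a subgroup of the pair satisfies the hypothesis of the second half of section 9.
-/

set_option autoImplicit false
set_option linter.unusedSectionVars false
set_option linter.style.haveILetI false

namespace CfsgLib.OddOrder.S13

open Subgroup Cfsg CfsgLib.MinSimpleOdd CfsgLib.OddOrder.S9 CfsgLib.CharTheory CfsgLib.OddOrder.Found CfsgLib.OddOrder.S9b
open scoped commutatorElement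

universe u

variable {G : Type u} [Group G]

theorem map_le_normalizer_map {L : Type u} [Group L] {A X : Subgroup L} (f : L →* G)
    (hA : A ≤ normalizer (X : Set L)) : A.map f ≤ normalizer (X.map f : Set G) :=
  (Subgroup.map_mono hA).trans (Subgroup.le_normalizer_map f)

namespace FTPair

variable [Finite G] {S T W₁ W₂ U V : Subgroup G} (h : FTPair S T W₁ W₂ U V) (imp : FTImports G)
include h imp

theorem sideC_subgroupOf :
    U.subgroupOf S ⊓ centralizer (((fittingHallOf S).subgroupOf S : Subgroup S) : Set S) = (sideC S U).subgroupOf S := by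
  ext x
  simp only [mem_inf, mem_subgroupOf, mem_centralizer_iff, SetLike.mem_coe, sideC]
  refine and_congr_right fun _ => ⟨fun hx y hy => ?_, fun hx y hy => Subtype.ext (hx (y : G) hy)⟩
  exact congrArg Subtype.val (hx ⟨y, (h.typeData imp).H_le hy⟩ hy)

theorem uBar_eq_u : uBar ((fittingHallOf S).subgroupOf S) (U.subgroupOf S) = (sideC S U).relIndex U := by
  rw [uBar, h.sideC_subgroupOf imp, relIndex_subgroupOf (h.typeData imp).U_le]

theorem irred_subgroupOf (X : Subgroup S) (hX : X ≤ (fittingHallOf S).subgroupOf S)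
    (hU : U.subgroupOf S ≤ normalizer (X : Set S)) (hW : W₁.subgroupOf S ≤ normalizer (X : Set S)) :
    X = ⊥ ∨ X = (fittingHallOf S).subgroupOf S := by
  have d := h.typeData imp
  have hU' := map_le_normalizer_map S.subtype hU
  have hW' := map_le_normalizer_map S.subtype hW
  rw [subgroupOf_map_subtype, inf_eq_left.mpr d.U_le] at hU'
  rw [subgroupOf_map_subtype, inf_eq_left.mpr d.W_le] at hW'
  rcases (h.coreKernel_bot imp).1.eq_or_eq d bot_le ((Subgroup.map_mono hX).trans
    ((subgroupOf_map_subtype _ _).trans_le inf_le_left)) hU' hW' with e | e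
  · exact Or.inl ((map_eq_bot_iff_of_injective _ S.subtype_injective).mp e)
  · exact Or.inr (Subgroup.map_injective S.subtype_injective
      (e.trans ((subgroupOf_map_subtype _ _).trans (inf_eq_left.mpr d.H_le)).symm))

variable {A₀ : Set G} {R : G → Subgroup G}
  (d : IsPrimeDade S (derK S) ((fittingHallOf S).subgroupOf S) W₁ W₂ A₀ R)
include d

theorem coreHypOf : CoreHyp (derK S) ((fittingHallOf S).subgroupOf S) (U.subgroupOf S) (W₁.subgroupOf S)
    (W₂.subgroupOf S) (Nat.card W₂) (Nat.card W₁) := by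
  have dd := h.typeData imp
  refine
    { prime := d.ti
      odd := dd.odd
      P_normal := d.normalH
      P_le := d.H_le
      U_le := fun x hx => dd.U_le_der hx
      W₂_le := d.W2_le
      comm_P := fun a ha b hb => Subtype.ext
        (congrArg Subtype.val ((h.P_comm imp).is_comm.comm ⟨(a : G), ha⟩ ⟨(b : G), hb⟩) :)
      comm_U := fun a ha b hb => Subtype.ext
        (congrArg Subtype.val ((h.U_comm imp).is_comm.comm ⟨(a : G), ha⟩ ⟨(b : G), hb⟩) :)
      inf_PU := (comap_inf _ _ _).symm.trans (by rw [dd.inf_HU]; exact bot_subgroupOf S)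
      sup_PU := ?_
      U_inv := fun w hw => mem_normalizer_iff.mpr fun x => mem_normalizer_iff.mp (dd.U_norm hw) (x : G)
      hp := h.p_prime imp
      hq := h.q_prime imp
      card_P := (Nat.card_congr (subgroupOfEquivOfLe dd.H_le).toEquiv).trans (h.card_P imp)
      card_W₁ := Nat.card_congr (subgroupOfEquivOfLe dd.W_le).toEquiv
      card_W₂ := Nat.card_congr (subgroupOfEquivOfLe d.le₂).toEquiv
      irred := h.irred_subgroupOf imp }
  refine le_antisymm (sup_le d.H_le fun x hx => dd.U_le_der hx) fun x hx => ?_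
  obtain ⟨a, ha, b, hb, e⟩ := dd.compl_U.2.2.2 (x : G) hx
  rw [show x = (⟨a, dd.H_le ha⟩ : S) * ⟨b, dd.U_le hb⟩ from Subtype.ext e]
  exact mul_mem_sup ha hb

/-- The alternative of (9.7) inside `S`. -/
theorem exists_case : (∀ X : Subgroup S, X ≤ (fittingHallOf S).subgroupOf S →
      U.subgroupOf S ≤ normalizer (X : Set S) → X = ⊥ ∨ X = (fittingHallOf S).subgroupOf S) ∨
    ∃ (a : ℕ) (ℓ : Fin (Nat.card W₁) → Subgroup S), IsLineSystem ((fittingHallOf S).subgroupOf S)
      (U.subgroupOf S) (W₁.subgroupOf S) (Nat.card W₂) (Nat.card W₁) ℓ a := by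
  classical
  have dd := h.typeData imp
  by_cases hg : IsGalois (fittingHallOf S) U ⊥
  · refine Or.inl fun X hX hU => ?_
    have hU' := map_le_normalizer_map S.subtype hU
    rw [subgroupOf_map_subtype, inf_eq_left.mpr dd.U_le] at hU'
    rcases hg (X.map S.subtype) bot_le ((Subgroup.map_mono hX).trans
      ((subgroupOf_map_subtype _ _).trans_le inf_le_left)) hU' with e | e
    · exact Or.inl ((map_eq_bot_iff_of_injective _ S.subtype_injective).mp e)
    · exact Or.inr (Subgroup.map_injective S.subtype_injective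
        (e.trans ((subgroupOf_map_subtype _ _).trans (inf_eq_left.mpr dd.H_le)).symm))
  refine Or.inr ?_
  set p := Nat.card W₂ with hp_def
  set q := Nat.card W₁ with hq_def
  set P := fittingHallOf S with hP_def
  have k := (h.coreKernel_bot imp).1
  haveI := Fact.mk (h.p_prime imp)
  obtain ⟨w, hw, hw1⟩ := dd.exists_W1
  obtain ⟨V, _, _, A, _, _, f, π, ρ, σ, T', m⟩ :=
    k.exists_model_of_card dd (h.p_prime imp) (h.card_P' imp) hw hw1
  obtain ⟨v₀, lam, L⟩ := m.lin.exists_lineBasis fun hh => hg (m.isGalois_iff.mpr hh)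
  obtain ⟨x₀, hx₀, hfx₀⟩ := m.f_surj v₀
  have hwS : w ∈ S := dd.W_le hw
  let x : ℕ → S := fun i => ⟨w ^ i * x₀ * (w ^ i)⁻¹,
    S.mul_mem (S.mul_mem (S.pow_mem hwS i) (dd.H_le hx₀)) (S.inv_mem (S.pow_mem hwS i))⟩
  have hx : ∀ i, (x i : G) ∈ P := fun i =>
    (mem_normalizer_iff.mp (pow_mem m.w_norm i) x₀).mp hx₀
  have hfx : ∀ i, f (x i : G) = (T' ^ i) v₀ := fun i => by
    induction i with
    | zero => simpa [x] using hfx₀
    | succ i ih =>
      rw [pow_succ', mul_apply', ← ih, ← m.act_w _ (hx i)]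
      congr 1
      simp only [x, pow_succ']
      group
  have hinj : ∀ {a b : G}, a ∈ P → b ∈ P → f a = f b → a = b := fun {a b} ha hb e => by
    have h1 := (m.f_eq_iff ha hb).mp e
    rwa [mem_bot, inv_mul_eq_one] at h1
  have hq0 : ∀ i : Fin q, (x i : G) ≠ 1 := fun i e => L.line_ne_zero m.lin i (by rw [← hfx, e, m.f_one])
  have hexp : ∀ {a : G}, a ∈ P → a ^ p = 1 := fun ha => (h.coreKernel_bot imp).2.2 _ ha
  let ℓ : Fin q → Subgroup S := fun i => zpowers (x i)
  have hℓP : ∀ i, ℓ i ≤ P.subgroupOf S := fun i => zpowers_le.mpr (hx i)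
  have hcard : ∀ i, Nat.card (ℓ i) = p := fun i => by
    show Nat.card (zpowers (x i)) = p
    rw [Nat.card_zpowers]
    exact orderOf_eq_prime (Subtype.ext (by rw [SubmonoidClass.coe_pow]; exact hexp (hx i)))
      fun e => hq0 i (congrArg (fun s : S => (s : G)) e)
  -- the action of `U` on the lines
  have hconjU : ∀ {u : S}, (u : G) ∈ U → ∀ i : ℕ,
      u * x i * u⁻¹ = x i ^ (lam ((σ ^ i)⁻¹ (π (u : G))) : ZMod p).val := fun {u} hu i => by
    refine Subtype.ext (hinj ((mem_normalizer_iff.mp (m.U_norm hu) _).mp (hx i)) ?_ ?_)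
    · rw [SubmonoidClass.coe_pow]; exact P.pow_mem (hx i) _
    · show f ((u : G) * x i * (u : G)⁻¹) = _
      rw [m.act _ hu _ (hx i), hfx, L.act, SubmonoidClass.coe_pow, m.f_pow (hx i), hfx]
  -- the centralizer of a line
  have hindex : ∀ i : Fin q,
      (U.subgroupOf S ⊓ centralizer (ℓ i : Set S)).relIndex (U.subgroupOf S) = Nat.card lam.range := fun i => by
    let πh : U.subgroupOf S →* A :=
      { toFun := fun u => π ((u : S) : G)
        map_one' := m.π_map_one
        map_mul' := fun a b => m.π_mul _ a.2 _ b.2 }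
    let ψ : U.subgroupOf S →* (ZMod p)ˣ :=
      lam.comp ((((σ ^ (i : ℕ))⁻¹ : MulAut A)).toMonoidHom.comp πh)
    have hker : ψ.ker = (U.subgroupOf S ⊓ centralizer (ℓ i : Set S)).subgroupOf (U.subgroupOf S) := by
      ext u
      rw [MonoidHom.mem_ker, mem_subgroupOf, mem_inf]
      show lam _ = 1 ↔ _
      constructor
      · intro e
        refine ⟨u.2, ?_⟩
        show (u : S) ∈ centralizer ((zpowers (x i) : Subgroup S) : Set S)
        rw [zpowers_eq_closure, centralizer_closure, mem_centralizer_singleton_iff]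
        have := hconjU u.2 i
        rw [show (lam ((σ ^ (i : ℕ))⁻¹ (π ((u : S) : G))) : (ZMod p)ˣ) = 1 from e, Units.val_one, ZMod.val_one,
          pow_one, mul_inv_eq_iff_eq_mul] at this
        exact this
      · rintro ⟨-, hc⟩
        have h1 := hc (x i) (mem_zpowers _)
        have h2 := hconjU u.2 i
        rw [← h1, mul_inv_cancel_right] at h2
        refine Units.ext (ZMod.val_injective p ?_)
        rw [Units.val_one, ZMod.val_one]
        have h3 : (1 : ℕ) ≡ (lam ((σ ^ (i : ℕ))⁻¹ (π ((u : S) : G))) : ZMod p).val [MOD p] := by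
          rw [← hcard i, show Nat.card (ℓ i) = orderOf (x i) from Nat.card_zpowers _]
          exact pow_eq_pow_iff_modEq.mp (by rw [pow_one]; exact h2)
        exact (h3.eq_of_lt_of_lt (h.p_prime imp).one_lt (ZMod.val_lt _)).symm
    have hrange : ψ.range = lam.range := by
      refine le_antisymm (by rintro _ ⟨u, rfl⟩; exact ⟨_, rfl⟩) ?_
      rintro _ ⟨a, rfl⟩
      obtain ⟨u, hu, hua⟩ := m.π_surj ((σ ^ (i : ℕ)) a)
      refine ⟨⟨⟨u, dd.U_le hu⟩, hu⟩, ?_⟩
      show lam ((σ ^ (i : ℕ))⁻¹ (π u)) = lam a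
      rw [hua, MulAut.inv_apply_self]
    rw [relIndex, ← hker, index_ker, hrange]
  -- the product of the lines
  have hP' : ∀ a b : ↥(P.subgroupOf S), a * b = b * a := fun a b => Subtype.ext (Subtype.ext
    (congrArg Subtype.val ((h.P_comm imp).is_comm.comm ⟨((a : S) : G), a.2⟩ ⟨((b : S) : G), b.2⟩) :))
  letI : CommGroup ↥(P.subgroupOf S) := { (inferInstance : Group ↥(P.subgroupOf S)) with mul_comm := hP' }
  let e : (∀ i, ℓ i) →* ↥(P.subgroupOf S) :=
    MonoidHom.noncommPiCoprod (fun i => Subgroup.inclusion (hℓP i)) fun i j _ a b => Commute.all _ _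
  have he : ∀ i (z : ℓ i), (e (Pi.mulSingle i z) : S) = z := fun i z => by
    refine (congrArg Subtype.val (MonoidHom.noncommPiCoprod_mulSingle (fun k => Subgroup.inclusion (hℓP k)) i z)).trans ?_
    rfl
  have hesurj : Function.Surjective e := by
    let E : Subgroup S := e.range.map (P.subgroupOf S).subtype
    have hEP : ∀ {y : S}, y ∈ E → (y : G) ∈ P := fun {y} hy => by obtain ⟨z, -, rfl⟩ := hy; exact z.2
    have hall : ∀ v, ∃ y ∈ E, f (y : G) = v := fun v => by
      obtain ⟨c, rfl⟩ := L.bij.2 v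
      dsimp only
      induction (Finset.univ : Finset (Fin q)) using Finset.induction_on with
      | empty => exact ⟨1, E.one_mem, by rw [Finset.sum_empty]; exact m.f_one⟩
      | @insert i s hi ih =>
        obtain ⟨y, hy, hyv⟩ := ih
        refine ⟨x i ^ (c i).val * y, E.mul_mem (E.pow_mem ⟨_, ⟨Pi.mulSingle i ⟨x i, mem_zpowers _⟩, rfl⟩,
          he i ⟨x i, mem_zpowers _⟩⟩ _) hy, ?_⟩
        rw [Subgroup.coe_mul, SubmonoidClass.coe_pow, m.f_mul _ (P.pow_mem (hx i) _) _ (hEP hy),
          m.f_pow (hx i), hfx, hyv, Finset.sum_insert hi]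
    intro y
    obtain ⟨z, ⟨z', hz', hzz⟩, hzy⟩ := hall (f ((y : S) : G))
    obtain ⟨t, rfl⟩ := hz'
    refine ⟨t, Subtype.ext (Subtype.ext (hinj (e t).2 y.2 ?_))⟩
    rw [← hzy, ← hzz]
    rfl
  have hebij : Function.Bijective e := (Nat.bijective_iff_surjective_and_card e).mpr ⟨hesurj, by
    rw [Nat.card_pi, Finset.prod_congr rfl fun i _ => hcard i, Finset.prod_const, Finset.card_univ,
      Fintype.card_fin, Nat.card_congr (subgroupOfEquivOfLe dd.H_le).toEquiv, h.card_P imp]⟩
  have hoddA : Odd (Nat.card A) := m.card_A ▸ (k.index_facts dd (h.p_prime imp) (h.card_P' imp)).2.1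
  obtain ⟨ha1, ha2, ha3⟩ := L.range_odd m.lin hoddA
  refine ⟨Nat.card lam.range, ℓ,
    { le := hℓP
      card := hcard
      U_norm := fun i u hu => mem_normalizer_of_conj fun y hy => ?_
      prod := ⟨MulEquiv.ofBijective e hebij, he⟩
      index := hindex
      trans := fun i j => ?_
      odd := ha1
      three_le := ha2
      two_mul := ha3 (h.p_odd imp)
      bound := ?_ }⟩
  · obtain ⟨n, rfl⟩ := mem_zpowers_iff.mp hy
    rw [← conj_zpow, hconjU hu]
    exact zpow_mem (pow_mem (mem_zpowers _) _) n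
  · refine ⟨(⟨w, hwS⟩ : S) ^ (j : ℕ) * ((⟨w, hwS⟩ : S) ^ (i : ℕ))⁻¹, ?_, ?_⟩
    · rw [mem_subgroupOf, Subgroup.coe_mul, InvMemClass.coe_inv, SubmonoidClass.coe_pow, SubmonoidClass.coe_pow]
      exact W₁.mul_mem (W₁.pow_mem hw _) (W₁.inv_mem (W₁.pow_mem hw _))
    · show zpowers (x j) = (zpowers (x i)).map _
      rw [MonoidHom.map_zpowers]
      congr 1
      refine Subtype.ext ?_
      simp only [MulEquiv.coe_toMonoidHom, MulAut.conj_apply, Subgroup.coe_mul, InvMemClass.coe_inv,
        SubmonoidClass.coe_pow, x]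
      group
  · rw [h.uBar_eq_u imp, h.sideC_eq_kernelC imp, ← m.card_A]
    exact Nat.le_of_dvd (pow_pos Nat.card_pos _) (L.card_dvd m.lin)

/-- (9.11) for a subgroup of the pair. -/
theorem exists_cohDataOf [Fintype G] [Fintype S] [Fintype (W₁.subgroupOf S →* ℂˣ)] {χ : WLin W₁ W₂ → (G → ℂ)}
    (hχ : IsCyclicTIFamily W₁ W₂ χ) :
    ∃ (τ₁ : (S → ℂ) → (G → ℂ)) (ε : ℤ) (π : (W₂.subgroupOf S →* ℂˣ) → (W₂.subgroupOf S →* ℂˣ)),
      CohData d χ τ₁ ε π := by
  classical
  obtain ⟨τ₁, ε, flip, hε, hiso, hag, hcol, horth⟩ :=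
    (h.coreHypOf imp d).nine_eleven d hχ (h.exists_case imp d)
  refine ⟨τ₁, ε, fun b => if flip then b⁻¹ else b, hχ, hiso, hag, hε, fun b hb => ?_, hcol, horth⟩
  show (if flip then b⁻¹ else b) ≠ 1
  split
  · exact fun e => hb (MonoidHom.ext fun x => inv_eq_one.mp (DFunLike.congr_fun e x))
  · exact hb

end FTPair

end CfsgLib.OddOrder.S13
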