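import Cfsg.Agent.Lib.CharTheory.Clifford
import Cfsg.Agent.Lib.CharTheory.CyclicTI
import Cfsg.Agent.Lib.CharTheory.Linear

/-!
Peterfalvi (13.3): irreducible characters induced from linear characters of a normal subgroup with trivial
stabiliser, written on a group mapping isomorphically onto that subgroup.
-/

set_option autoImplicit false
set_option linter.style.haveILetI false
set_option linter.unusedSectionVars false

namespace CfsgLib.OddOrder.S13

open Cfsg CfsgLib.CharTheory
open scoped ComplexConjugate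

universe u

variable {X : Type u} [Group X] [Fintype X] {Y : Type u} [Group Y] [Fintype Y]

open scoped Classical in
theorem classInner_linear_sum (O : Finset (Y →* ℂˣ)) (ψ : Y →* ℂˣ) :
    classInner (fun y => ∑ φ ∈ O, (φ y : ℂ)) (fun y => (ψ y : ℂ)) = if ψ ∈ O then 1 else 0 := by
  classical
  rw [show (fun y => ∑ φ ∈ O, (φ y : ℂ)) = ∑ φ ∈ O, fun y : Y => (φ y : ℂ) by funext y; rw [Finset.sum_apply],
    classInner_sum_left]
  simp only [classInner_linear, Finset.sum_ite_eq']

/-- The character induced from a linear character with trivial stabiliser is irreducible, restricts to the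
orbit sum, and is the only irreducible character over it. -/
theorem exists_orbit_of_regular (j : Y →* X) (hj : Function.Injective j) [hn : j.range.Normal] (ψ : Y →* ℂˣ)
    (hst : ∀ g : X, (∀ y z : Y, j z = g * j y * g⁻¹ → ψ z = ψ y) → g ∈ j.range) :
    ∃ (χ : X → ℂ) (O : Finset (Y →* ℂˣ)), IsIrrCharacter X χ ∧ O.card = j.range.index ∧ ψ ∈ O ∧
      (∀ φ ∈ O, ∃ g : X, ∀ y z : Y, j z = g * j y * g⁻¹ → φ y = ψ z) ∧
      (∀ y : Y, χ (j y) = ∑ φ ∈ O, (φ y : ℂ)) ∧ (∀ x : X, x ∉ j.range → χ x = 0) ∧
      χ = indFun j.range (fun a => (ψ ((MonoidHom.ofInjective hj).symm a) : ℂ)) ∧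
      ∀ θ : X → ℂ, IsIrrCharacter X θ → classInner (fun y : Y => θ (j y)) (fun y => (ψ y : ℂ)) ≠ 0 → θ = χ := by
  classical
  set A := j.range with hA
  set e := MonoidHom.ofInjective hj with he
  haveI := Fintype.ofFinite A
  have hje : ∀ a : A, j (e.symm a) = (a : X) := fun a => by
    conv_rhs => rw [← e.apply_symm_apply a]
    rfl
  let l : A →* ℂˣ := ψ.comp e.symm.toMonoidHom
  set f : A → ℂ := fun a => (l a : ℂ) with hf
  have hfl : IsIrrCharacter A f := isIrrCharacter_linear l
  have hin : inertia A f = A := le_antisymm (fun g hg => hst g fun y z hyz => Units.ext (by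
    have := congrFun ((mem_inertia A).mp hg) (e y)
    simp only [conjNormFun, hf, l, MonoidHom.comp_apply, MulEquiv.coe_toMonoidHom, e.symm_apply_apply] at this
    rw [← this]
    congr 3
    exact hj (by rw [hyz, hje]; rfl))) (le_inertia A (isClassFunction_irr hfl))
  have hirr := isIrrCharacter_indFun_of_inertia_eq A hfl hin
  let conjL : X → (Y →* ℂˣ) := fun g => l.comp ((MulAut.conjNormal g).toMonoidHom.comp e.toMonoidHom)
  let toFun : (Y →* ℂˣ) → (A → ℂ) := fun φ a => (φ (e.symm a) : ℂ)
  have htoFun : ∀ g, toFun (conjL g) = conjNormFun A g f := fun g => by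
    rw [conjNormFun_eq]; funext a; simp [toFun, conjL, hf]
  have hinj : Function.Injective toFun := fun a b h => MonoidHom.ext fun y => Units.ext (by
    simpa [toFun] using congrFun h (e y))
  let O := Finset.univ.image conjL
  have hO : conjOrbit A f = O.image toFun := by
    rw [conjOrbit, Finset.image_image]
    convert Finset.image_congr (s := (Finset.univ : Finset X)) fun g _ => (htoFun g).symm using 3
    rfl
  refine ⟨indFun A f, O, hirr, ?_, Finset.mem_image.mpr ⟨1, Finset.mem_univ _, ?_⟩, ?_, fun y => ?_,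
    fun x hx => indFun_normal_apply_not_mem A _ hx, rfl, fun θ hθ hne => ?_⟩
  · rw [← Finset.card_image_of_injective O hinj, ← hO, card_conjOrbit, hin]
  · ext y; simp [conjL, l]
  · intro φ hφ
    obtain ⟨g, -, rfl⟩ := Finset.mem_image.mp hφ
    refine ⟨g, fun y z hyz => ?_⟩
    simp only [conjL, l, MonoidHom.comp_apply, MulEquiv.coe_toMonoidHom]
    congr 1
    refine hj ((hje _).trans ?_)
    rw [hyz, MulAut.conjNormal_apply]
    rfl
  · have h := congrFun (indFun_res_eq_sum_conj A f) (e y)
    simp only [sum_conjNormFun, hin, smul_smul, Pi.smul_apply,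
      inv_mul_cancel₀ (Nat.cast_ne_zero.mpr (Nat.card_pos (α := A)).ne' : (Nat.card A : ℂ) ≠ 0), one_smul,
      Finset.sum_apply, hO, Finset.sum_image fun a _ b _ e => hinj e] at h
    exact h.trans (Finset.sum_congr rfl fun φ _ => by simp [toFun])
  · by_contra hneq
    refine hne ?_
    have h0 := classInner_irr_ne hθ hirr hneq
    rw [frobenius_reciprocity' A f (isClassFunction_irr hθ)] at h0
    rw [← h0]
    simp only [classInner, Nat.card_congr e.toEquiv]
    congr 1
    exact Fintype.sum_equiv e.toEquiv _ _ fun y => by simp [hf, l, he, MonoidHom.ofInjective_apply]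

theorem classInner_range (j : Y →* X) (hj : Function.Injective j) [Fintype j.range] (f : X → ℂ) (ψ : Y → ℂ) :
    classInner (fun a : j.range => f a) (fun a => ψ ((MonoidHom.ofInjective hj).symm a)) =
      classInner (fun y : Y => f (j y)) ψ := by
  simp only [classInner, Nat.card_congr (MonoidHom.ofInjective hj).toEquiv]
  congr 1
  refine (Fintype.sum_equiv (MonoidHom.ofInjective hj).toEquiv _ _ fun y => ?_).symm
  simp [MonoidHom.ofInjective_apply]

/-- Clifford: two linear constituents on a normal subgroup are conjugate. -/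
theorem exists_conj_of_constituents' (j : Y →* X) (hj : Function.Injective j) [hn : j.range.Normal] {θ : X → ℂ}
    (hθ : IsIrrCharacter X θ) {ψ φ : Y →* ℂˣ} (h1 : classInner (fun y : Y => θ (j y)) (fun y => (ψ y : ℂ)) ≠ 0)
    (h2 : classInner (fun y : Y => θ (j y)) (fun y => (φ y : ℂ)) ≠ 0) :
    ∃ g : X, ∀ y z : Y, j z = g * j y * g⁻¹ → φ y = ψ z := by
  classical
  haveI := Fintype.ofFinite j.range
  set e := MonoidHom.ofInjective hj with he
  rw [← classInner_range j hj θ] at h1 h2
  obtain ⟨g, hg⟩ := exists_conj_of_constituents j.range hθ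
    (θ := fun a => ((ψ.comp e.symm.toMonoidHom) a : ℂ)) (φ := fun a => ((φ.comp e.symm.toMonoidHom) a : ℂ))
    (isIrrCharacter_linear _) (isIrrCharacter_linear _) h1 h2
  refine ⟨g, fun y z hyz => Units.ext ?_⟩
  have h := congrFun hg (e y)
  simp only [conjNormFun, MonoidHom.comp_apply, MulEquiv.coe_toMonoidHom, e.symm_apply_apply] at h
  rw [← h]
  congr 2
  exact hj (by rw [hyz]; exact (congrArg Subtype.val (e.apply_symm_apply _)))

/-- A constituent of a constituent is a constituent. -/
theorem classInner_comp_ne_zero (j : Y →* X) {χ θ : X → ℂ} (hχ : IsCharacter X χ)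
    (hθ : IsIrrCharacter X θ) (h : classInner χ θ ≠ 0) {ψ : Y →* ℂˣ}
    (hψ : classInner (fun y : Y => θ (j y)) (fun y => (ψ y : ℂ)) ≠ 0) :
    classInner (fun y : Y => χ (j y)) (fun y => (ψ y : ℂ)) ≠ 0 := by
  have hs := isCharacter_sub_irr hχ hθ h
  have hψc := isCharacter_of_irr (isIrrCharacter_linear ψ)
  obtain ⟨a, ha⟩ := classInner_char_nat (isCharacter_comp hs j) hψc
  obtain ⟨b, hb⟩ := classInner_char_nat (isCharacter_comp (isCharacter_of_irr hθ) j) hψc
  rw [show (fun y : Y => χ (j y)) = (fun y : Y => (χ - θ) (j y)) + fun y : Y => θ (j y) by funext y; simp,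
    classInner_add_left, ha, hb]
  rw [hb, Nat.cast_ne_zero] at hψ
  rw [← Nat.cast_add, Nat.cast_ne_zero]
  omega

end CfsgLib.OddOrder.S13
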