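import Cfsg.Agent.Lib.OddOrder.S13.Facts
import Cfsg.Agent.Lib.OddOrder.S13.Orbit
import Cfsg.Agent.Lib.OddOrder.Found.PrimeTI

/-!
Peterfalvi (13.3): the orbits of linear characters of `F(S)` under the members of the character set.
-/

set_option autoImplicit false
set_option linter.unusedSectionVars false
set_option linter.style.haveILetI false

namespace CfsgLib.OddOrder.S13

open Subgroup Cfsg CfsgLib.MinSimpleOdd CfsgLib.OddOrder.S9 CfsgLib.CharTheory
open scoped commutatorElement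

universe u

variable {G : Type u} [Group G]

/-- `S'` inside `S`. -/
abbrev derK (S : Subgroup G) : Subgroup ↥S := (⁅S, S⁆ : Subgroup G).subgroupOf S

/-- A linear character of `F(S)` nontrivial on `P`. -/
def NonTrivP (S : Subgroup G) (ψ : fittingOf S →* ℂˣ) : Prop :=
  ∃ z : fittingOf S, (z : G) ∈ fittingHallOf S ∧ ψ z ≠ 1

variable [Finite G]

/-- `F(S) → S`. -/
noncomputable def inclS (S : Subgroup G) : fittingOf S →* S := Subgroup.inclusion (fittingOf_le S)

/-- `F(S) → S'` for `F(S) ≤ S'`. -/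
noncomputable def inclK {S : Subgroup G} (hle : fittingOf S ≤ ⁅S, S⁆) : fittingOf S →* derK S :=
  (inclS S).codRestrict (derK S) fun x => Subgroup.mem_subgroupOf.mpr (hle x.2)

namespace FTPair

variable {S T W₁ W₂ U V : Subgroup G} (h : FTPair S T W₁ W₂ U V) (imp : FTImports G)
include h imp

/-- `F(S) → S'`. -/
noncomputable def jK : fittingOf S →* derK S := inclK (h.fitting_le_der imp)

theorem coe_jK (x : fittingOf S) : ((h.jK imp x : S) : G) = x := rfl

theorem jK_injective : Function.Injective (h.jK imp) := fun x y e =>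
  Subtype.ext (congrArg (fun k : derK S => ((k : S) : G)) e)

theorem jK_normal : (h.jK imp).range.Normal := ⟨by
  rintro _ ⟨x, rfl⟩ g
  exact ⟨conjF S (g : S) x, Subtype.ext (Subtype.ext rfl)⟩⟩

theorem jK_conj {g : derK S} {y z : fittingOf S} : h.jK imp z = g * h.jK imp y * g⁻¹ ↔ z = conjF S (g : S) y :=
  ⟨fun e => Subtype.ext (congrArg (fun k : derK S => ((k : S) : G)) e), fun e => by
    subst e; exact Subtype.ext (Subtype.ext rfl)⟩

theorem mem_range_jK {g : derK S} : g ∈ (h.jK imp).range ↔ ((g : S) : G) ∈ fittingOf S :=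
  ⟨by rintro ⟨x, rfl⟩; exact x.2, fun hg => ⟨⟨_, hg⟩, Subtype.ext (Subtype.ext rfl)⟩⟩

theorem card_derK : Nat.card (derK S) = Nat.card (fittingOf S) * (sideC S U).relIndex U := by
  rw [Nat.card_congr (Subgroup.subgroupOfEquivOfLe (commutator_le_self S)).toEquiv, ← h.relIndex_fitting imp,
    ← relIndex_bot_left (⁅S, S⁆ : Subgroup G), ← relIndex_mul_relIndex _ _ _ bot_le (h.fitting_le_der imp),
    relIndex_bot_left]

theorem index_jK : (h.jK imp).range.index = (sideC S U).relIndex U := by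
  have hr : Nat.card (h.jK imp).range = Nat.card (fittingOf S) :=
    (Nat.card_congr (MonoidHom.ofInjective (h.jK_injective imp)).toEquiv).symm
  refine Nat.eq_of_mul_eq_mul_left (Nat.card_pos (α := fittingOf S)) ?_
  rw [← h.card_derK imp, ← hr, Subgroup.card_mul_index]

/-- Every element of `S'` acts on `F(S)` as an element of `U`. -/
theorem exists_U_conjF (k : derK S) : ∃ t : S, (t : G) ∈ U ∧
    (((k : S) : G) ∈ fittingOf S ↔ (t : G) ∈ fittingOf S) ∧ ∀ y, conjF S (k : S) y = conjF S t y := by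
  have d := h.typeData imp
  obtain ⟨a, ha, t, ht, e⟩ := d.compl_U.2.2.2 _ (Subgroup.mem_subgroupOf.mp k.2)
  have haF := h.P_le_fitting imp ha
  refine ⟨⟨t, d.U_le ht⟩, ht, ?_, fun y => Subtype.ext ?_⟩
  · rw [e]; exact Subgroup.mul_mem_cancel_left _ haF
  · rw [coe_conjF, coe_conjF]
    show ((k : S) : G) * y * ((k : S) : G)⁻¹ = t * y * t⁻¹
    rw [e]
    have hc := congrArg Subtype.val (h.fitting_comm imp ⟨a, haF⟩ (conjF S ⟨t, d.U_le ht⟩ y))
    simp only [Subgroup.coe_mul, coe_conjF] at hc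
    calc a * t * y * (a * t)⁻¹ = a * (t * y * t⁻¹) * a⁻¹ := by group
      _ = t * y * t⁻¹ * a * a⁻¹ := by rw [hc]
      _ = t * y * t⁻¹ := by group

theorem conjF_U_fix {t : S} (ht : (t : G) ∈ U) {y : fittingOf S} (hy : (y : G) ∈ sideC S U) :
    conjF S t y = y := Subtype.ext (by
  have hc := congrArg Subtype.val ((h.U_comm imp).is_comm.comm ⟨(t : G), ht⟩ ⟨(y : G), (mem_inf.mp hy).1⟩)
  simp only [Subgroup.coe_mul] at hc
  rw [coe_conjF, hc, mul_inv_cancel_right])

theorem conjF_mem_P (g : S) {y : fittingOf S} : (conjF S g y : G) ∈ fittingHallOf S ↔ (y : G) ∈ fittingHallOf S :=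
  (mem_normalizer_iff.mp (le_normalizer_fittingHallOf S g.2) y).symm

/-- The elements of `U` fixing a character of `P` all of whose `S`-conjugates are `U`-conjugates centralize `P`. -/
theorem mem_centralizer_of_fix {ψ : fittingOf S →* ℂˣ} (hψ : NonTrivP S ψ)
    (horb : ∀ g : S, ∃ t : S, (t : G) ∈ U ∧ ∀ y : fittingOf S, (y : G) ∈ fittingHallOf S →
      ψ (conjF S g y) = ψ (conjF S t y)) {t : S} (ht : (t : G) ∈ U)
    (hfix : ∀ y : fittingOf S, (y : G) ∈ fittingHallOf S → ψ (conjF S t y) = ψ y) :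
    (t : G) ∈ centralizer (fittingHallOf S : Set G) := by
  have d := h.typeData imp
  let N : Subgroup G :=
    { carrier := {x | x ∈ fittingHallOf S ∧ ∀ y : fittingOf S, (y : G) = x → ∀ g : S, ψ (conjF S g y) = 1}
      one_mem' := ⟨one_mem _, fun y hy g => by rw [show y = 1 from Subtype.ext hy, map_one, map_one]⟩
      mul_mem' := fun {a b} ha hb => ⟨mul_mem ha.1 hb.1, fun y hy g => by
        rw [show y = (⟨a, h.P_le_fitting imp ha.1⟩ : fittingOf S) * ⟨b, h.P_le_fitting imp hb.1⟩ from Subtype.ext hy,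
          map_mul, map_mul, ha.2 _ rfl g, hb.2 _ rfl g, one_mul]⟩
      inv_mem' := fun {a} ha => ⟨inv_mem ha.1, fun y hy g => by
        rw [show y = (⟨a, h.P_le_fitting imp ha.1⟩ : fittingOf S)⁻¹ from Subtype.ext hy, map_inv, map_inv,
          ha.2 _ rfl g, inv_one]⟩ }
  have hN : ∀ x, x ∈ N ↔ x ∈ fittingHallOf S ∧ ∀ y : fittingOf S, (y : G) = x → ∀ g : S, ψ (conjF S g y) = 1 :=
    fun x => Iff.rfl
  have hconj : ∀ (g g' : S) (y : fittingOf S), conjF S g (conjF S g' y) = conjF S (g * g') y := fun g g' y =>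
    Subtype.ext (by simp only [coe_conjF, Subgroup.coe_mul]; group)
  have hnorm : S ≤ normalizer (N : Set G) := fun s hs => mem_normalizer_of_conj fun x hx => (hN _).mpr
    ⟨(mem_normalizer_iff.mp (le_normalizer_fittingHallOf S hs) x).mp ((hN x).mp hx).1, fun y hy g => by
      rw [show y = conjF S ⟨s, hs⟩ ⟨x, h.P_le_fitting imp ((hN x).mp hx).1⟩ from Subtype.ext hy, hconj]
      exact ((hN x).mp hx).2 _ rfl _⟩
  have hbot : N = ⊥ := by
    by_contra hb
    obtain ⟨z, hz, hz1⟩ := hψ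
    have hlt : N < fittingHallOf S := lt_of_le_of_ne (fun x hx => ((hN x).mp hx).1) fun e => hz1 (by
      have := ((hN (z : G)).mp (e ▸ hz)).2 z rfl 1
      rwa [show conjF S 1 z = z from Subtype.ext (by simp [coe_conjF])] at this)
    exact (h.coreKernel_bot imp).1.maximal N (bot_lt_iff_ne_bot.mpr hb) hlt hnorm
  intro x hx
  let y : fittingOf S := ⟨x, h.P_le_fitting imp hx⟩
  let z : fittingOf S := conjF S t y * y⁻¹
  have hzN : (z : G) ∈ N := (hN _).mpr ⟨Subgroup.mul_mem _ ((h.conjF_mem_P imp t).mpr hx) (inv_mem hx),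
    fun w hw g => by
      rw [show w = z from Subtype.ext hw]
      obtain ⟨t', ht', e⟩ := horb g
      have hc : t' * t = t * t' := Subtype.ext (by
        have := congrArg Subtype.val ((h.U_comm imp).is_comm.comm ⟨(t' : G), ht'⟩ ⟨(t : G), ht⟩)
        exact this)
      rw [map_mul, map_mul, map_inv, map_inv, e _ ((h.conjF_mem_P imp t).mpr hx), e _ hx, hconj, hc, ← hconj,
        hfix _ ((h.conjF_mem_P imp t').mpr hx), mul_inv_cancel]⟩
  rw [hbot, mem_bot] at hzN
  have e : (t : G) * x * (t : G)⁻¹ * x⁻¹ = 1 := hzN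
  calc x * (t : G) = 1 * x * t := by group
    _ = (t : G) * x * (t : G)⁻¹ * x⁻¹ * x * t := by rw [e]
    _ = (t : G) * x := by group

/-- A character of `C` fixed by a nontrivial element of `W₁` is trivial. -/
theorem trivial_on_sideC {ψ : fittingOf S →* ℂˣ} {w : S} (hw : (w : G) ∈ W₁) (hw1 : w ≠ 1)
    (hfix : ∀ y : fittingOf S, (y : G) ∈ sideC S U → ψ (conjF S w y) = ψ y) {y : fittingOf S}
    (hy : (y : G) ∈ sideC S U) : ψ y = 1 := by
  have d := h.typeData imp
  have hwC := h.W₁_normalizes_sideC imp hw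
  let f : sideC S U → sideC S U := fun x => conjOn hwC x * x⁻¹
  have hf : Function.Injective f := fun a b e => by
    have e' : (w : G) * a * (w : G)⁻¹ * (a : G)⁻¹ = (w : G) * b * (w : G)⁻¹ * (b : G)⁻¹ := congrArg Subtype.val e
    have hab : (a : G) * b = b * a := congrArg Subtype.val
      ((h.U_comm imp).is_comm.comm ⟨(a : G), (mem_inf.mp a.2).1⟩ ⟨(b : G), (mem_inf.mp b.2).1⟩)
    have hc : (w : G) * ((b : G)⁻¹ * a) = (b : G)⁻¹ * a * w := by
      calc (w : G) * ((b : G)⁻¹ * a) = (w : G) * (b : G)⁻¹ * (w : G)⁻¹ * ((w : G) * a * (w : G)⁻¹ * (a : G)⁻¹) * a * w := by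
            group
        _ = (w : G) * (b : G)⁻¹ * (w : G)⁻¹ * ((w : G) * b * (w : G)⁻¹ * (b : G)⁻¹) * a * w := by rw [e']
        _ = (b : G)⁻¹ * a * w := by group
    exact Subtype.ext (inv_mul_eq_one.mp (d.fpf' w hw (fun e => hw1 (Subtype.ext e)) _
      (mul_mem (inv_mem (mem_inf.mp b.2).1) (mem_inf.mp a.2).1) hc)).symm
  obtain ⟨x, hx⟩ := Finite.injective_iff_surjective.mp hf ⟨(y : G), hy⟩
  let x' : fittingOf S := ⟨(x : G), h.sideC_le_fitting imp x.2⟩
  rw [show y = conjF S w x' * x'⁻¹ from Subtype.ext (congrArg Subtype.val hx).symm, map_mul, map_inv,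
    hfix x' x.2, mul_inv_cancel]

variable [Fintype G] [Fintype (fittingOf S)] [Fintype (derK S)]

/-- (13.3): the orbit of an invariant irreducible character of `S'` over a character nontrivial on `P`. -/
theorem invariant_orbit {θ : derK S → ℂ} (hθ : IsIrrCharacter (derK S) θ)
    (hinv : ∀ (x : S) (k k' : derK S), (k' : S) = x * k * x⁻¹ → θ k' = θ k) {ψ : fittingOf S →* ℂˣ}
    (hψ : NonTrivP S ψ)
    (hne : classInner (fun y => θ (h.jK imp y)) (fun y => (ψ y : ℂ)) ≠ 0) :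
    ∃ O : Finset (fittingOf S →* ℂˣ), O.card = (sideC S U).relIndex U ∧ ψ ∈ O ∧
      (∀ φ ∈ O, NonTrivP S φ ∧ ∀ y : fittingOf S, (y : G) ∈ sideC S U → φ y = 1) ∧
      (∀ y, θ (h.jK imp y) = ∑ φ ∈ O, (φ y : ℂ)) ∧
      (∀ k : derK S, ((k : S) : G) ∉ fittingOf S → θ k = 0) ∧
      ∀ θ' : derK S → ℂ, IsIrrCharacter (derK S) θ' →
        classInner (fun y => θ' (h.jK imp y)) (fun y => (ψ y : ℂ)) ≠ 0 → θ' = θ := by
  classical
  haveI := h.jK_normal imp
  have hact : ∀ g : S, ∃ t : S, (t : G) ∈ U ∧ ∀ y, ψ (conjF S g y) = ψ (conjF S t y) := fun g => by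
    obtain ⟨k, hk⟩ := exists_conj_of_constituents' (h.jK imp) (h.jK_injective imp) hθ hne
      (φ := ψ.comp (conjF S g).toMonoidHom) (by
        refine ne_of_eq_of_ne ?_ hne
        simp only [classInner]
        congr 1
        refine Fintype.sum_equiv (conjF S g).toEquiv _ _ fun y => ?_
        rw [hinv g (h.jK imp y) (h.jK imp ((conjF S g) y)) (Subtype.ext rfl) |>.symm]
        rfl)
    obtain ⟨t, ht, -, htk⟩ := h.exists_U_conjF imp k
    exact ⟨t, ht, fun y => (hk y _ ((h.jK_conj imp).mpr rfl)).trans (congrArg ψ (htk y))⟩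
  have hreg : ∀ g : derK S, (∀ y z, h.jK imp z = g * h.jK imp y * g⁻¹ → ψ z = ψ y) → g ∈ (h.jK imp).range := by
    intro g hg
    obtain ⟨t, ht, hmem, htk⟩ := h.exists_U_conjF imp g
    refine (h.mem_range_jK imp).mpr (hmem.mpr (h.sideC_le_fitting imp ⟨ht, ?_⟩))
    refine h.mem_centralizer_of_fix imp hψ (fun x => ?_) ht fun y _ => by
      rw [← htk]; exact hg y _ ((h.jK_conj imp).mpr rfl)
    obtain ⟨t', ht', e⟩ := hact x
    exact ⟨t', ht', fun y _ => e y⟩
  obtain ⟨χ, O, -, hcard, hmem, hO, hval, hvan, -, huniq⟩ :=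
    exists_orbit_of_regular (h.jK imp) (h.jK_injective imp) ψ hreg
  have hθχ := huniq θ hθ hne
  obtain ⟨⟨w, hw⟩, hw1⟩ := Subgroup.ne_bot_iff_exists_ne_one.mp h.hSP.W₁_ne
  let wS : S := ⟨w, (h.typeData imp).W_le hw⟩
  have hψC : ∀ y : fittingOf S, (y : G) ∈ sideC S U → ψ y = 1 := fun y hy => by
    refine h.trivial_on_sideC imp (w := wS) hw (fun e => hw1 (Subtype.ext (congrArg (fun z : S => (z : G)) e))) (fun x hx => ?_) hy
    obtain ⟨t, ht, e⟩ := hact wS
    rw [e, h.conjF_U_fix imp ht hx]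
  refine ⟨O, hcard.trans (h.index_jK imp), hmem, fun φ hφ => ?_, fun y => hθχ ▸ hval y,
    fun k hk => hθχ ▸ hvan k fun hr => hk ((h.mem_range_jK imp).mp hr),
    fun θ' hθ' hne' => (huniq θ' hθ' hne').trans hθχ.symm⟩
  obtain ⟨k, hk⟩ := hO φ hφ
  have hφe : ∀ y, φ y = ψ (conjF S (k : S) y) := fun y => hk y _ ((h.jK_conj imp).mpr rfl)
  obtain ⟨t, ht, -, htk⟩ := h.exists_U_conjF imp k
  refine ⟨?_, fun y hy => by rw [hφe, htk, h.conjF_U_fix imp ht hy, hψC y hy]⟩
  obtain ⟨z, hz, hz1⟩ := hψ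
  refine ⟨(conjF S (k : S)).symm z, ?_, by rwa [hφe, MulEquiv.apply_symm_apply]⟩
  rw [← h.conjF_mem_P imp (k : S), MulEquiv.apply_symm_apply]
  exact hz

end FTPair

end CfsgLib.OddOrder.S13
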