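import Cfsg.Agent.Lib.OddOrder.S13.Basic
import Cfsg.Agent.Lib.Frobenius.Complement

/-!
Peterfalvi (13.16), (13.17): the normalizer of `W₁` and the maximal subgroup over `N(U)`.
-/

set_option autoImplicit false
set_option linter.unusedSectionVars false
set_option linter.style.haveILetI false

namespace CfsgLib.OddOrder.S13

open Subgroup Cfsg CfsgLib.MinSimpleOdd CfsgLib.OddOrder.S9
open scoped Pointwise commutatorElement IsMulCommutative

universe u

variable {G : Type u} [Group G] [Finite G]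

/-- An element of order prime to the index of a normal subgroup lies in it. -/
theorem mem_of_coprime_index {N L : Subgroup G} (hNL : N ≤ L) (hn : L ≤ normalizer (N : Set G)) {x : G} (hx : x ∈ L)
    (hcop : (orderOf x).Coprime (N.relIndex L)) : x ∈ N := by
  haveI : (N.subgroupOf L).Normal := (normal_subgroupOf_iff_le_normalizer hNL).mpr hn
  have h1 : orderOf (QuotientGroup.mk' (N.subgroupOf L) ⟨x, hx⟩) ∣ orderOf x :=
    (orderOf_map_dvd _ _).trans (by rw [Subgroup.orderOf_mk])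
  have h2 : orderOf (QuotientGroup.mk' (N.subgroupOf L) ⟨x, hx⟩) ∣ N.relIndex L := orderOf_dvd_natCard _
  exact mem_subgroupOf.mp ((QuotientGroup.eq_one_iff _).mp
    (orderOf_eq_one_iff.mp (Nat.eq_one_of_dvd_coprimes hcop h1 h2)))

theorem le_of_coprime_index {N L X : Subgroup G} (hNL : N ≤ L) (hn : L ≤ normalizer (N : Set G)) (hX : X ≤ L)
    (hcop : (Nat.card X).Coprime (N.relIndex L)) : X ≤ N := fun x hx =>
  mem_of_coprime_index hNL hn (hX hx)
    (hcop.coprime_dvd_left (Nat.card_zpowers x ▸ card_dvd_of_le (zpowers_le.mpr hx)))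

variable {S T W₁ W₂ U V : Subgroup G}

namespace FTPair

variable (h : FTPair S T W₁ W₂ U V) (imp : FTImports G)
include h imp

theorem W₁_le_Q : W₁ ≤ fittingHallOf T := (h.swap.typeData imp).W2_le

theorem fittingHall_le_fitting : fittingHallOf S ≤ fittingOf S := (h.fitting_eq imp).1 ▸ le_sup_left

theorem QW_centralizes : fittingHallOf T ⊔ W₂ ≤ centralizer (W₁ : Set G) :=
  sup_le (fun a ha w hw => congrArg Subtype.val ((h.swap.P_comm imp).is_comm.comm ⟨w, h.W₁_le_Q imp hw⟩ ⟨a, ha⟩))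
    (fun b hb w hw => h.hSP.selfNormalizing.2.2.2.1 w hw b hb)

/-- PF (13.16), given `C_V(Q) = 1`. -/
theorem normalizer_W1 (hD : V ⊓ centralizer (fittingHallOf T : Set G) = ⊥) :
    normalizer (W₁ : Set G) = centralizer (W₁ : Set G) ∧
      centralizer (W₁ : Set G) = fittingHallOf T ⊔ W₂ := by
  have d := h.swap.typeData imp
  have k := (h.swap.coreKernel_bot imp).1
  have hQW := h.QW_centralizes imp
  have hCN : centralizer (W₁ : Set G) ≤ normalizer (W₁ : Set G) := fun g hg => mem_normalizer_of_conj fun x hx => by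
    rw [← hg x hx, mul_inv_cancel_right]
    exact hx
  have hW2N : W₂ ≤ normalizer (W₁ : Set G) := le_sup_right.trans (hQW.trans hCN)
  obtain ⟨⟨w₁, hw₁⟩, hw₁1⟩ := ne_bot_iff_exists_ne_one.mp h.hSP.W₁_ne
  have hNT : normalizer (W₁ : Set G) ≤ T := fun g hg =>
    h.swap.mem_of_conj_fitting imp (h.swap.fittingHall_le_fitting imp (h.W₁_le_Q imp hw₁))
      (fun e => hw₁1 (Subtype.ext e))
      (h.swap.fittingHall_le_fitting imp (h.W₁_le_Q imp ((mem_normalizer_iff.mp hg w₁).mp hw₁)))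
  set X : Subgroup G := V ⊓ normalizer (W₁ : Set G) with hX
  set X1 : Subgroup G := X ⊓ centralizer (W₁ : Set G) with hX1
  have hXn : W₂ ≤ normalizer (X : Set G) :=
    (le_inf d.U_norm (hW2N.trans Subgroup.le_normalizer)).trans inf_normalizer_le_normalizer_inf
  have hX1n : W₂ ≤ normalizer (X1 : Set G) :=
    (le_inf hXn (hW2N.trans (normalizer_le_normalizer_centralizer W₁))).trans inf_normalizer_le_normalizer_inf
  have hXX1 : X ≤ normalizer (X1 : Set G) :=
    (le_inf Subgroup.le_normalizer (inf_le_right.trans (normalizer_le_normalizer_centralizer W₁))).trans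
      inf_normalizer_le_normalizer_inf
  haveI := d.U_nil
  have hsolX : Group.IsSolvable X :=
    Group.isSolvable_of_isSolvable_injective (f := inclusion (inf_le_left : X ≤ V)) (inclusion_injective _)
  have hXle : X ≤ X1 := by
    intro x hx
    obtain ⟨c, hc, hc'⟩ := CfsgLib.coprime_fixed_quotient hXn
      ((d.copW.coprime_dvd_right (card_dvd_of_le (inf_le_left.trans d.U_le_der)))) (Or.inr hsolX)
      (inf_le_left : X1 ≤ X) hXX1 hX1n hx (fun a ha => by
        have hax : a * x * a⁻¹ ∈ X := (mem_normalizer_iff.mp (hXn ha) x).mp hx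
        refine mem_inf.mpr ⟨X.mul_mem hax (X.inv_mem hx), fun t ht => ?_⟩
        have hat : a * t = t * a := (hQW (mem_sup_right ha) t ht).symm
        have ht' : x * t * x⁻¹ ∈ W₁ := (mem_normalizer_iff.mp (mem_inf.mp hx).2 t).mp ht
        have ht'' : x⁻¹ * t * x ∈ W₁ := (mem_normalizer_iff''.mp (mem_inf.mp hx).2 t).mp ht
        have hat' : a * (x⁻¹ * t * x) = x⁻¹ * t * x * a := (hQW (mem_sup_right ha) _ ht'').symm
        calc t * (a * x * a⁻¹ * x⁻¹) = (t * a) * x * a⁻¹ * x⁻¹ := by group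
          _ = a * x * (x⁻¹ * t * x) * a⁻¹ * x⁻¹ := by rw [← hat]; group
          _ = a * x * (a⁻¹ * (a * (x⁻¹ * t * x))) * a⁻¹ * x⁻¹ := by group
          _ = a * x * a⁻¹ * x⁻¹ * t := by rw [hat']; group)
    have hc1 : c = 1 := by
      obtain ⟨w, hw, hw1⟩ := d.exists_W1
      exact d.fpf' w hw hw1 c hc.1.1 ((mem_inf.mp hc).2 w hw)
    rw [hc1, mul_one] at hc'
    have := X1.inv_mem hc'
    rwa [inv_inv] at this
  have hX1bot : X1 = ⊥ := by
    set K : Subgroup G := fittingHallOf T ⊓ centralizer (X1 : Set G) with hK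
    have hVX1 : V ≤ normalizer (X1 : Set G) := fun v hv => mem_normalizer_of_conj fun x hx => by
      rwa [show v * x = x * v from congrArg Subtype.val
        ((h.swap.U_comm imp).is_comm.comm ⟨v, hv⟩ ⟨x, hx.1.1⟩), mul_inv_cancel_right]
    have hKV : V ≤ normalizer (K : Set G) := (le_inf (d.U_le.trans d.H_normal)
      (hVX1.trans (normalizer_le_normalizer_centralizer X1))).trans inf_normalizer_le_normalizer_inf
    have hKW : W₂ ≤ normalizer (K : Set G) := (le_inf (d.W_le.trans d.H_normal)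
      (hX1n.trans (normalizer_le_normalizer_centralizer X1))).trans inf_normalizer_le_normalizer_inf
    rcases k.eq_or_eq d bot_le inf_le_left hKV hKW with e | e
    · refine absurd (le_bot_iff.mp (le_trans (le_inf (h.W₁_le_Q imp) ?_) e.le)) h.hSP.W₁_ne
      exact fun w hw x hx => ((mem_inf.mp hx).2 w hw).symm
    · exact le_bot_iff.mp (hD ▸ le_inf (inf_le_left.trans inf_le_left) (le_centralizer_iff.mp (inf_eq_left.mp e)))
  have hN : normalizer (W₁ : Set G) ≤ fittingHallOf T ⊔ W₂ := fun g hg => by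
    obtain ⟨y, hy, b, hb, rfl⟩ := d.compl_W.2.2.2 g (hNT hg)
    obtain ⟨a, ha, v, hv, rfl⟩ := d.compl_U.2.2.2 y hy
    have hv' : v ∈ X := ⟨hv, by
      have := mul_mem (mul_mem (inv_mem (hCN (hQW (mem_sup_left ha)))) hg) (inv_mem (hW2N hb))
      rwa [show a⁻¹ * (a * v * b) * b⁻¹ = v by group] at this⟩
    have hv1 : v = 1 := mem_bot.mp (hX1bot ▸ hXle hv')
    rw [hv1, mul_one]
    exact mul_mem_sup ha hb
  exact ⟨le_antisymm (hN.trans hQW) hCN, le_antisymm (hCN.trans hN) hQW⟩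

/-- For type II, `N(U)` is not in `S`. -/
theorem normalizer_U_not_le (hII : IsOfTypeII S) : ¬ normalizer (U : Set G) ≤ S := by
  obtain ⟨K, hK⟩ := CfsgLib.exists_isPiHallOf (kappa S) (M := S) (solvable_of_ne_top h.hG h.hS.1)
  obtain ⟨U₀, hKU⟩ := exists_sigmaDecomposition h.hG h.hS (kappaHall_cyclic h.hG h.hS hK) hK
  obtain ⟨hK1, hU1⟩ := (Cfsg.Agent.S1381.result h.hG S h.hS K U₀ hKU).mp hII
  obtain ⟨hd, -, -, -⟩ := typeData_two h.hG h.hS hKU hK1 hU1
  obtain ⟨e, he, heq⟩ := compl_conj h.hG h.hS h.hSP.U_compl hd.compl_U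
  intro hN
  refine (Cfsg.Agent.S1363.result h.hG S h.hS K U₀ hKU hK1).2 fun g hg => ?_
  have h1 : e * g * e⁻¹ ∈ normalizer (U : Set G) := heq ▸ normalizer_conj_mem hg
  have heS : e ∈ S := commutator_le_self S he
  simpa [mul_assoc] using S.mul_mem (S.mul_mem (S.inv_mem heS) (hN h1)) heS

/-- PF (13.17), first part: a maximal subgroup over `N(U)` has `κ = ∅`. -/
theorem overgroup_kappa (hcls : IsClassified S T) (hII : IsOfTypeII S) {L : Subgroup G} (hL : IsCoatom L)
    (hNU : normalizer (U : Set G) ≤ L) : kappa L = ∅ := by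
  have d := h.typeData imp
  have d' := h.swap.typeData imp
  have hUL : U ≤ L := Subgroup.le_normalizer.trans hNU
  have hWL : W₁ ≤ L := d.U_norm.trans hNU
  refine (hcls L hL).resolve_right ?_
  rintro ⟨g, hg | hg⟩
  · -- conjugate to `S`
    have hU' : MulAut.conj g⁻¹ • U ≤ S := fun y hy => by
      rw [CfsgLib.mem_conj_smul_iff, inv_inv] at hy
      obtain ⟨z, hz, hze⟩ := hg.le (hUL hy)
      have : z = y := (MulAut.conj g).injective (hze.trans rfl)
      exact this ▸ hz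
    have hcard : Nat.card ↥(MulAut.conj g⁻¹ • U) = Nat.card U := CfsgLib.card_conj_smul _ _
    have hU'der : MulAut.conj g⁻¹ • U ≤ ⁅S, S⁆ := le_of_coprime_index (commutator_le_self S) le_normalizer_derived hU'
      (by
        rw [hcard, relIndex_of_compl d.compl_W, d.cardW]
        exact (d.hq.coprime_iff_not_dvd.mpr d.q_not_dvd_U).symm)
    obtain ⟨e, he, heq⟩ := conj_of_card h.hG h.hS d.compl_U hU'der hcard
    rw [CfsgLib.conj_smul_mul] at heq
    have hn : e * g⁻¹ ∈ L := hNU (mem_normalizer_of_conj_smul heq)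
    have hLS : L = S := by
      have h1 : MulAut.conj (e * g⁻¹) • L = L := conj_smul_eq_of_mem_normalizer (Subgroup.le_normalizer hn)
      have h2 : MulAut.conj (e * g⁻¹) • L = S := by
        rw [hg, show S.map (MulAut.conj g).toMonoidHom = MulAut.conj g • S from rfl, CfsgLib.conj_smul_mul,
          inv_mul_cancel_right]
        exact conj_smul_eq_of_mem_normalizer (Subgroup.le_normalizer (commutator_le_self S he))
      exact h1.symm.trans h2
    exact h.normalizer_U_not_le imp hII (hLS ▸ hNU)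
  · -- conjugate to `T`
    have hpull : ∀ x ∈ L, g⁻¹ * x * g ∈ T := fun x hx => by
      obtain ⟨z, hz, hze⟩ := hg.le hx
      rw [← hze]
      simpa [mul_assoc] using hz
    have hqQ : Nat.card W₁ ∣ Nat.card (fittingHallOf T) := card_dvd_of_le (h.W₁_le_Q imp)
    have hidx : (fittingHallOf T).relIndex T = Nat.card V * Nat.card W₂ := by
      rw [← relIndex_mul_relIndex _ _ _ d'.H_le_der (commutator_le_self T), relIndex_of_compl d'.compl_U,
        relIndex_of_compl d'.compl_W]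
    have hcopq : (Nat.card W₁).Coprime ((fittingHallOf T).relIndex T) := by
      rw [hidx]
      refine Nat.Coprime.mul_right (d'.copHU.coprime_dvd_left hqQ) ?_
      exact (Nat.coprime_primes (h.q_prime imp) (h.p_prime imp)).mpr (h.p_ne_q imp).symm
    have hwQ : ∀ w ∈ W₁, g⁻¹ * w * g ∈ fittingHallOf T := fun w hw => by
      refine mem_of_coprime_index d'.H_le d'.H_normal (hpull w (hWL hw)) (hcopq.coprime_dvd_left ?_)
      rw [show g⁻¹ * w * g = g⁻¹ * w * g⁻¹⁻¹ by group, ← MulAut.conj_apply, MulEquiv.orderOf_eq]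
      exact Nat.card_zpowers w ▸ card_dvd_of_le (zpowers_le.mpr hw)
    obtain ⟨w, hw, hw1⟩ := d.exists_W1
    refine h.U_ne imp ((eq_bot_iff_forall _).mpr fun u hu => d.fpf' w hw hw1 u hu ?_)
    set c := u * w * u⁻¹ * w⁻¹ with hc
    have hcU : c ∈ U := by
      have := (mem_normalizer_iff.mp (d.U_norm hw) _).mp (U.inv_mem hu)
      have := U.mul_mem hu this
      rwa [show u * (w * u⁻¹ * w⁻¹) = c by rw [hc]; group] at this
    have hcQ : g⁻¹ * c * g ∈ fittingHallOf T := by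
      have h1 := (mem_normalizer_iff.mp (d'.H_normal (hpull u (hUL hu))) _).mp (hwQ w hw)
      have h2 := mul_mem h1 (inv_mem (hwQ w hw))
      rwa [show g⁻¹ * u * g * (g⁻¹ * w * g) * (g⁻¹ * u * g)⁻¹ * (g⁻¹ * w * g)⁻¹ = g⁻¹ * c * g by
        rw [hc]; group] at h2
    have hc1 : c = 1 := by
      have ho : orderOf (g⁻¹ * c * g) = orderOf c := by
        rw [show g⁻¹ * c * g = g⁻¹ * c * g⁻¹⁻¹ by group, ← MulAut.conj_apply, MulEquiv.orderOf_eq]
      have hd1 : orderOf c ∣ Nat.card U := Nat.card_zpowers c ▸ card_dvd_of_le (zpowers_le.mpr hcU)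
      have hd2 : orderOf c ∣ Nat.card W₁ ^ Nat.card W₂ := by
        rw [← h.swap.card_P imp, ← ho, ← Nat.card_zpowers]
        exact card_dvd_of_le (zpowers_le.mpr hcQ)
      exact orderOf_eq_one_iff.mp (Nat.eq_one_of_dvd_coprimes
        (((d.cardW ▸ d.hq.coprime_iff_not_dvd.mpr d.q_not_dvd_U) : (Nat.card W₁).Coprime (Nat.card U)).pow_left _)
        hd2 hd1)
    rw [hc, mul_inv_eq_one, mul_inv_eq_iff_eq_mul] at hc1
    exact hc1.symm

/-- PF (13.17): the structure of a maximal subgroup over `N(U)`, given `C_U(P) = 1` and `C_V(Q) = 1`. -/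
theorem overgroup (hC : U ⊓ centralizer (fittingHallOf S : Set G) = ⊥)
    (hD : V ⊓ centralizer (fittingHallOf T : Set G) = ⊥) (hcls : IsClassified S T) (hII : IsOfTypeII S)
    {L : Subgroup G} (hL : IsCoatom L) (hNU : normalizer (U : Set G) ≤ L) :
    kappa L = ∅ ∧ (∀ x ∈ fittingHallOf L, x ≠ 1 → L ⊓ centralizer ({x} : Set G) ≤ fittingHallOf L) ∧
      U ≤ fittingHallOf L ∧ ¬ Nat.card W₁ ∣ Nat.card (fittingHallOf L) ∧
      ((fittingHallOf L ⊓ W₁ = ⊥ ∧ fittingHallOf L ⊔ W₁ = L) ∨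
        ∃ y ∈ fittingHallOf T, fittingHallOf L ⊓ (W₁ ⊔ W₂.map (MulAut.conj y).toMonoidHom) = ⊥ ∧
          fittingHallOf L ⊔ (W₁ ⊔ W₂.map (MulAut.conj y).toMonoidHom) = L) := by
  have hI := h.overgroup_kappa imp hcls hII hL hNU
  have hfr := imp.frobI L hL hI
  have d := h.typeData imp
  have hUL : U ≤ L := Subgroup.le_normalizer.trans hNU
  have hWL : W₁ ≤ L := d.U_norm.trans hNU
  set H := fittingHallOf L with hH
  have hHL : H ≤ L := fittingHallOf_le L
  have hHn : L ≤ normalizer (H : Set G) := le_normalizer_fittingHallOf L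
  have hHnil : Group.IsNilpotent H := fittingHallOf_nilpotent L
  have hHcop : (Nat.card H).Coprime (H.relIndex L) := (fittingHallOf_hall h.hG hL).1
  have hH1 : H ≠ ⊥ := by
    rw [hH, fittingHallOf_eq h.hG hL (nilpotent_of_kappa_empty h.hG hL hI)]
    exact sigmaCore_ne_bot h.hG hL
  obtain ⟨w, hw, hw1⟩ := d.exists_W1
  haveI := Fact.mk d.hq
  -- `W₁` meets the kernel trivially
  have hWH : ¬ W₁ ≤ H := fun hle => by
    refine h.U_ne imp ((eq_bot_iff_forall _).mpr fun u hu => d.fpf' w hw hw1 u hu ?_)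
    set c := w * u * w⁻¹ * u⁻¹ with hc
    have hcU : c ∈ U := U.mul_mem ((mem_normalizer_iff.mp (d.U_norm hw) u).mp hu) (U.inv_mem hu)
    have hcH : c ∈ H := by
      have h1 := (mem_normalizer_iff.mp (hHn (hUL hu)) _).mp (H.inv_mem (hle hw))
      have h2 := H.mul_mem (hle hw) h1
      rwa [show w * (u * w⁻¹ * u⁻¹) = c by rw [hc]; group] at h2
    haveI := hHnil
    have hcw : c * w = w * c := congrArg Subtype.val (CfsgLib.Frob.commute_of_nilpotent_coprime
      (a := (⟨c, hcH⟩ : H)) (b := ⟨w, hle hw⟩) (by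
        rw [Subgroup.orderOf_mk, Subgroup.orderOf_mk]
        exact ((d.cardW ▸ d.hq.coprime_iff_not_dvd.mpr d.q_not_dvd_U : (Nat.card W₁).Coprime (Nat.card U)).symm.coprime_dvd_left
          (Nat.card_zpowers c ▸ card_dvd_of_le (zpowers_le.mpr hcU))).coprime_dvd_right
          (Nat.card_zpowers w ▸ card_dvd_of_le (zpowers_le.mpr hw))))
    have hc1 := d.fpf' w hw hw1 c hcU hcw.symm
    rw [hc, mul_inv_eq_one, mul_inv_eq_iff_eq_mul] at hc1
    exact hc1
  have hq : ¬ Nat.card W₁ ∣ Nat.card H := fun hd => hWH (le_of_coprime_index hHL hHn hWL (hHcop.coprime_dvd_left hd))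
  have hWH' : W₁ ⊓ H = ⊥ := disjoint_iff.mp
    (disjoint_of_coprime_natCard (d.cardW ▸ d.hq.coprime_iff_not_dvd.mpr (d.cardW ▸ hq)))
  -- `U` lies in the kernel
  have hUH : U ≤ H := by
    by_contra hne
    obtain ⟨x, hxU, hxH⟩ := SetLike.not_le_iff_exists.mp hne
    haveI := h.U_comm imp
    set n := H.relIndex L with hn
    let U₂ : Subgroup G :=
      { carrier := {y | y ∈ U ∧ y ^ n = 1}
        one_mem' := ⟨U.one_mem, one_pow n⟩
        mul_mem' := fun {a b} ha hb => ⟨U.mul_mem ha.1 hb.1, by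
          rw [Commute.mul_pow (show Commute a b from congrArg Subtype.val
            ((IsMulCommutative.is_comm (M := U)).comm ⟨a, ha.1⟩ ⟨b, hb.1⟩)), ha.2, hb.2, one_mul]⟩
        inv_mem' := fun {a} ha => ⟨U.inv_mem ha.1, by rw [inv_pow, ha.2, inv_one]⟩ }
    have hU₂U : U₂ ≤ U := fun y hy => hy.1
    have hU₂n : W₁ ≤ normalizer (U₂ : Set G) := fun a ha => mem_normalizer_of_conj fun y hy =>
      ⟨(mem_normalizer_iff.mp (d.U_norm ha) y).mp hy.1, by rw [conj_pow, hy.2, mul_one, mul_inv_cancel]⟩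
    have hdisj : ∀ y ∈ U₂, y ∈ H → y = 1 := fun y hy hyH => orderOf_eq_one_iff.mp (Nat.eq_one_of_dvd_coprimes hHcop
      (Nat.card_zpowers y ▸ card_dvd_of_le (zpowers_le.mpr hyH)) (orderOf_dvd_of_pow_eq_one hy.2))
    have hU₂1 : U₂ ≠ ⊥ := fun e => by
      have hcardL : Nat.card L = Nat.card H * n := by
        rw [hn, ← relIndex_bot_left H, relIndex_mul_relIndex _ _ _ bot_le hHL, relIndex_bot_left]
      have h1 : x ^ Nat.card H ∈ U₂ := ⟨U.pow_mem hxU _, by
        rw [← pow_mul, ← hcardL]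
        exact congrArg Subtype.val (pow_card_eq_one' (x := (⟨x, hUL hxU⟩ : L)))⟩
      rw [e, mem_bot] at h1
      exact hxH (mem_of_coprime_index hHL hHn (hUL hxU) (hHcop.coprime_dvd_left (orderOf_dvd_of_pow_eq_one h1)))
    have hfix : ∀ {A : Subgroup G} {a : G}, A ≤ L → a ∈ A → a ≠ 1 → (a ∈ H → a = 1) →
        H ⊓ centralizer (A : Set G) = ⊥ := fun {A a} hA ha ha1 hdis => (eq_bot_iff_forall _).mpr fun y hy => by
      by_contra hy1
      exact ha1 (hdis (hfr y hy.1 hy1 ⟨hA ha, mem_centralizer_singleton_iff.mpr ((mem_inf.mp hy).2 a ha)⟩))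
    obtain ⟨⟨a, ha⟩, ha1⟩ := ne_bot_iff_exists_ne_one.mp hU₂1
    have e1 := hfix (hU₂U.trans hUL) ha (fun e => ha1 (Subtype.ext e)) (hdisj a ha)
    have e2 := hfix hWL hw hw1 (fun hwH => by
      have : w ∈ W₁ ⊓ H := ⟨hw, hwH⟩
      rwa [hWH', mem_bot] at this)
    haveI : IsMulCommutative U₂ := ⟨⟨fun a b => Subtype.ext (congrArg Subtype.val
      ((IsMulCommutative.is_comm (M := U)).comm ⟨a, hU₂U a.2⟩ ⟨b, hU₂U b.2⟩) :)⟩⟩
    haveI : Group.IsNilpotent U₂ := CommGroup.isNilpotent (G := U₂)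
    have hcopH : (Nat.card ↥(U₂ ⊔ W₁)).Coprime (Nat.card H) := by
      have hc := card_complIn (complIn_sup hU₂n (le_bot_iff.mp ((inf_le_inf_left W₁ hU₂U).trans
        (inf_comm (a := W₁) (b := U) ▸ d.inf_UW.le))))
      rw [sup_comm, hc]
      refine Nat.Coprime.mul_left (d.cardW ▸ d.hq.coprime_iff_not_dvd.mpr (d.cardW ▸ hq)) ?_
      refine Nat.coprime_of_dvd fun r hr h1 h2 => ?_
      haveI := Fact.mk hr
      obtain ⟨⟨y, hy⟩, hyo⟩ := exists_prime_orderOf_dvd_card' (G := U₂) r h1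
      rw [Subgroup.orderOf_mk] at hyo
      exact hr.ne_one (Nat.eq_one_of_dvd_coprimes hHcop h2 (hyo ▸ orderOf_dvd_of_pow_eq_one hy.2))
    have hform := CfsgLib.FrobAction.order_formula U₂ W₁ hU₂n
      (fun e he he1 u hu => d.fpf' e he he1 u (hU₂U hu)) H (sup_le (hU₂U.trans hUL) hWL |>.trans hHn) hcopH
      (by haveI := hHnil; infer_instance)
    rw [centralizer_sup', inf_left_comm, e2, inf_bot_eq, e1, card_bot, one_pow, one_mul, mul_one] at hform
    exact hH1 (card_eq_one.mp hform)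
  -- a complement containing `W₁`
  obtain ⟨E, hE, hWE⟩ := exists_hall_ge (π := {r | ¬ r ∣ Nat.card H}) (solvable_of_ne_top h.hG hL.1) hWL
    fun r hr hd hdH => hq ((Nat.prime_dvd_prime_iff_eq hr (h.q_prime imp)).mp hd ▸ hdH)
  have hHE : H ⊓ E = ⊥ := disjoint_iff.mp (disjoint_of_coprime_natCard
    (Nat.coprime_of_dvd fun r hr h1 h2 => hE.2.1 r hr h2 h1))
  have hsup : H ⊔ E = L := by
    refine le_antisymm (sup_le hHL hE.1) (relIndex_eq_one.mp (Nat.eq_one_iff_not_exists_prime_dvd.mpr fun r hr hd => ?_))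
    by_cases hrH : r ∣ Nat.card H
    · refine hr.ne_one (Nat.eq_one_of_dvd_coprimes hHcop hrH (hd.trans ?_))
      exact Dvd.intro_left _ (relIndex_mul_relIndex H (H ⊔ E) L le_sup_left (sup_le hHL hE.1))
    · exact hE.2.2 r hr hrH (hd.trans (Dvd.intro_left _ (relIndex_mul_relIndex E (H ⊔ E) L le_sup_right (sup_le hHL hE.1))))
  -- an abelian module
  set Z : Subgroup G := (center H).map H.subtype with hZ
  haveI : IsMulCommutative Z := ⟨⟨fun a b => by
    obtain ⟨a', ha', ea⟩ := a.2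
    obtain ⟨b', hb', eb⟩ := b.2
    apply Subtype.ext
    show (a : G) * b = b * a
    rw [← ea, ← eb, ← map_mul, ← map_mul, mem_center_iff.mp hb' a']⟩⟩
  have hZ1 : Z ≠ ⊥ := by
    rw [hZ, Ne, map_eq_bot_iff_of_injective _ H.subtype_injective]
    haveI : Nontrivial H := (nontrivial_iff_ne_bot H).mpr hH1
    haveI := hHnil
    have h2 := CfsgLib.inf_center_ne_bot_of_nilpotent (G := H) (N := ⊤) bot_lt_top.ne'
    rwa [top_inf_eq] at h2
  have hEZ : E ≤ normalizer (Z : Set G) := (CfsgLib.le_normalizer_map_characteristic (hE.1.trans hHn) _).1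
  have hEfpf : ∀ x ∈ E, x ≠ 1 → Z ⊓ centralizer {x} = ⊥ := fun x hx hx1 => (eq_bot_iff_forall _).mpr fun y hy => by
    by_contra hy1
    have hyH : y ∈ H := map_subtype_le _ hy.1
    have : x ∈ H ⊓ E := ⟨hfr y hyH hy1 ⟨hE.1 hx, mem_centralizer_singleton_iff.mpr
      (mem_centralizer_singleton_iff.mp hy.2).symm⟩, hx⟩
    rw [hHE, mem_bot] at this
    exact hx1 this
  obtain ⟨hN, hQW⟩ := h.normalizer_W1 imp hD
  obtain ⟨hN', hPW⟩ := h.swap.normalizer_W1 imp hC
  have d' := h.swap.typeData imp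
  have hp := h.p_prime imp
  haveI := Fact.mk hp
  have hqw : orderOf w = Nat.card W₁ := by rw [← Nat.card_zpowers, d.zpowers_eq hw hw1]
  have hWdec : ∀ {s : G}, s ∈ fittingHallOf T ⊔ W₂ → ∃ a ∈ fittingHallOf T, ∃ b ∈ W₂, s = a * b := fun {s} hs => by
    obtain ⟨a, ha, b, hb, e⟩ := CfsgLib.mem_sup_of_le_normalizer (d'.W_le.trans d'.H_normal) hs
    exact ⟨a, ha, b, hb, e.symm⟩
  have hQWne : fittingHallOf T ⊔ W₂ ≠ ⊤ := fun e => h.hT.1 (top_le_iff.mp (e.ge.trans (sup_le d'.H_le d'.W_le)))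
  have hcardQW : Nat.card ↥(fittingHallOf T ⊔ W₂) = Nat.card W₂ * Nat.card (fittingHallOf T) := by
    rw [sup_comm]
    exact card_complIn (complIn_sup (d'.W_le.trans d'.H_normal) (disjoint_iff.mp
      (disjoint_of_coprime_natCard d'.cop_W1_H)))
  have hW2hall : IsPiHallOf {Nat.card W₂} W₂ (fittingHallOf T ⊔ W₂) := by
    refine ⟨le_sup_right, fun r hr hd => (Nat.prime_dvd_prime_iff_eq hr hp).mp hd, fun r hr hrp hd => ?_⟩
    have e : W₂.relIndex (fittingHallOf T ⊔ W₂) = Nat.card (fittingHallOf T) := by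
      refine Nat.eq_of_mul_eq_mul_left (Nat.card_pos (α := W₂)) ?_
      rw [← relIndex_bot_left W₂, relIndex_mul_relIndex _ _ _ bot_le le_sup_right, relIndex_bot_left,
        relIndex_bot_left, hcardQW]
    rw [Set.mem_singleton_iff] at hrp
    exact d'.q_not_dvd_H (hrp ▸ e ▸ hd)
  have hpsub : ∀ {x : G}, x ∈ fittingHallOf T ⊔ W₂ → orderOf x = Nat.card W₂ →
      ∃ e ∈ fittingHallOf T ⊔ W₂, MulAut.conj e • zpowers x = W₂ := fun {x} hx hxo => by
    obtain ⟨e, he, hle⟩ := conj_into_hall h.hG hQWne hW2hall (zpowers_le.mpr hx) fun r hr hd => by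
      rw [Nat.card_zpowers, hxo] at hd
      exact (Nat.prime_dvd_prime_iff_eq hr hp).mp hd
    exact ⟨e, he, eq_of_le_of_card_ge hle (by rw [CfsgLib.card_conj_smul, Nat.card_zpowers, hxo])⟩
  -- `E` centralises `W₁`
  have hEQW : E ≤ fittingHallOf T ⊔ W₂ := by
    rw [← hQW]
    have hodd : Odd (Nat.card E) := Odd.of_dvd_nat h.hG.1 (card_subgroup_dvd_card _)
    have hE1 : E ≠ ⊥ := fun e => h.hSP.W₁_ne (le_bot_iff.mp (e ▸ hWE))
    have hc := CfsgLib.Frob.center_ne_bot_of_odd hZ1 hEZ hEfpf hodd hE1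
    obtain ⟨r, hr, hrd⟩ := Nat.exists_prime_and_dvd fun e => hc (card_eq_one.mp e)
    haveI := Fact.mk hr
    obtain ⟨⟨⟨z, hzE⟩, hzc⟩, hzo⟩ := exists_prime_orderOf_dvd_card' (G := center E) r hrd
    rw [Subgroup.orderOf_mk, Subgroup.orderOf_mk] at hzo
    have hzcomm : ∀ s ∈ E, s * z = z * s := fun s hs => congrArg Subtype.val (mem_center_iff.mp hzc ⟨s, hs⟩)
    by_cases hrq : r = Nat.card W₁
    · have hwz := CfsgLib.Frob.no_elementary_fpf hZ1 hr hEZ hEfpf hzE (hWE hw) hzo (hqw.trans hrq.symm)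
        (hzcomm w (hWE hw)).symm
      have hzz : W₁ ≤ zpowers z := d.zpowers_eq hw hw1 ▸ zpowers_le.mpr hwz
      intro s hs t ht
      obtain ⟨i, rfl⟩ := hzz ht
      exact ((show Commute s z from hzcomm s hs).zpow_right i).eq.symm
    · have hzQ : z ∈ fittingHallOf T ⊔ W₂ := hQW ▸ fun t ht => hzcomm t (hWE ht)
      have hrp : r = Nat.card W₂ := by
        have h1 : r ∣ Nat.card ↥(fittingHallOf T ⊔ W₂) := hzo ▸ Nat.card_zpowers z ▸ card_dvd_of_le (zpowers_le.mpr hzQ)
        rw [hcardQW, h.swap.card_P imp] at h1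
        rcases hr.dvd_mul.mp h1 with h2 | h2
        · exact (Nat.prime_dvd_prime_iff_eq hr hp).mp h2
        · exact absurd ((Nat.prime_dvd_prime_iff_eq hr (h.q_prime imp)).mp (hr.dvd_of_dvd_pow h2)) hrq
      obtain ⟨e, he, heq⟩ := hpsub hzQ (hzo.trans hrp)
      have heC : e ∈ centralizer (W₁ : Set G) := hQW.ge he
      have hez : e * z * e⁻¹ ∈ W₂ := heq.le ⟨z, mem_zpowers z, rfl⟩
      have hez1 : e * z * e⁻¹ ≠ 1 := fun e1 => hr.ne_one (by rw [← hzo, conj_eq_one_iff.mp e1, orderOf_one])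
      intro s hs
      have hs' : e * s * e⁻¹ ∈ fittingHallOf S ⊔ W₁ := by
        rw [← hPW]
        intro t ht
        rw [← (h.swap.typeData imp).zpowers_eq hez hez1] at ht
        obtain ⟨i, rfl⟩ := ht
        refine (Commute.zpow_left ?_ i).eq
        show e * z * e⁻¹ * (e * s * e⁻¹) = e * s * e⁻¹ * (e * z * e⁻¹)
        calc e * z * e⁻¹ * (e * s * e⁻¹) = e * (z * s) * e⁻¹ := by group
          _ = e * (s * z) * e⁻¹ := by rw [hzcomm s hs]
          _ = e * s * e⁻¹ * (e * z * e⁻¹) := by group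
      obtain ⟨y, hy, b, hb, hyb⟩ := CfsgLib.mem_sup_of_le_normalizer (d.W_le.trans d.H_normal) hs'
      have hbe : e⁻¹ * b * e = b := by rw [mul_assoc, ← (show e * b = b * e from (heC b hb).symm), inv_mul_cancel_left]
      have hy'E : e⁻¹ * y * e ∈ E := by
        have : e⁻¹ * y * e = s * b⁻¹ := by
          rw [eq_mul_inv_iff_mul_eq]
          calc e⁻¹ * y * e * b = e⁻¹ * y * e * (e⁻¹ * b * e) := by rw [hbe]
            _ = e⁻¹ * (y * b) * e := by group
            _ = s := by rw [hyb]; group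
        rw [this]
        exact E.mul_mem hs (E.inv_mem (hWE hb))
      have hyW : y ∈ centralizer (W₁ : Set G) := by
        rcases eq_or_ne y 1 with rfl | hy1
        · exact one_mem _
        have hyo : orderOf y = Nat.card W₂ := orderOf_eq_prime ((h.coreKernel_bot imp).2.2 y hy) hy1
        have hy' := CfsgLib.Frob.no_elementary_fpf hZ1 hp hEZ hEfpf hzE hy'E (hzo.trans hrp) (by
          rw [show e⁻¹ * y * e = e⁻¹ * y * e⁻¹⁻¹ by group, ← MulAut.conj_apply, MulEquiv.orderOf_eq, hyo])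
          (hzcomm _ hy'E).symm
        obtain ⟨i, hi⟩ := hy'
        have : y ∈ W₂ := by
          have h2 : (e * z * e⁻¹) ^ i ∈ W₂ := W₂.zpow_mem hez i
          rwa [conj_zpow, show z ^ i = e⁻¹ * y * e from hi,
            show e * (e⁻¹ * y * e) * e⁻¹ = y by group] at h2
        exact h.QW_centralizes imp (mem_sup_right this)
      have hbW : b ∈ centralizer (W₁ : Set G) := fun t ht => by
        haveI : IsCyclic W₁ := h.hSP.W₁_cyclic
        exact congrArg Subtype.val ((IsCyclic.commGroup (α := W₁)).mul_comm ⟨t, ht⟩ ⟨b, hb⟩)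
      have := mul_mem (mul_mem (inv_mem heC) (mul_mem hyW hbW)) heC
      rwa [hyb, show e⁻¹ * (e * s * e⁻¹) * e = s by group] at this
  have hEQ : E ⊓ fittingHallOf T ≤ W₁ := fun x hx => by
    rcases eq_or_ne x 1 with rfl | hx1
    · exact one_mem _
    have hxo : orderOf x = Nat.card W₁ := orderOf_eq_prime ((h.swap.coreKernel_bot imp).2.2 x hx.2) hx1
    have := CfsgLib.Frob.no_elementary_fpf hZ1 d.hq hEZ hEfpf (hWE hw) hx.1 hqw hxo
      (congrArg Subtype.val ((h.swap.P_comm imp).is_comm.comm ⟨w, h.W₁_le_Q imp hw⟩ ⟨x, hx.2⟩))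
    rwa [d.zpowers_eq hw hw1] at this
  refine ⟨hI, hfr, hUH, hq, ?_⟩
  by_cases hpE : Nat.card W₂ ∣ Nat.card E
  · obtain ⟨⟨x, hxE⟩, hxo⟩ := exists_prime_orderOf_dvd_card' (G := E) (Nat.card W₂) hpE
    rw [Subgroup.orderOf_mk] at hxo
    obtain ⟨e, he, heq⟩ := hpsub (hEQW hxE) hxo
    obtain ⟨y, hy, b, hb, heyb⟩ := hWdec (inv_mem he)
    refine Or.inr ⟨y, hy, ?_⟩
    have hconj : W₂.map (MulAut.conj y).toMonoidHom = zpowers x := by
      show MulAut.conj y • W₂ = _
      have h1 : MulAut.conj e⁻¹ • W₂ = zpowers x := by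
        rw [← heq, CfsgLib.conj_smul_mul, inv_mul_cancel, map_one, one_smul]
      rw [← h1, heyb, ← CfsgLib.conj_smul_mul, conj_smul_eq_of_mem_normalizer (Subgroup.le_normalizer hb)]
    have hEeq : W₁ ⊔ W₂.map (MulAut.conj y).toMonoidHom = E := by
      refine le_antisymm (sup_le hWE (hconj ▸ zpowers_le.mpr hxE)) fun s hs => ?_
      obtain ⟨a, ha, b', hb', rfl⟩ := hWdec (hEQW hs)
      set b'' := y * b' * y⁻¹ with hb''
      have hb''E : b'' ∈ W₂.map (MulAut.conj y).toMonoidHom := ⟨b', hb', rfl⟩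
      have ha' : a * b' * b''⁻¹ ∈ E ⊓ fittingHallOf T := ⟨E.mul_mem hs
        (E.inv_mem (zpowers_le.mpr hxE (hconj.le hb''E))), by
          rw [show a * b' * b''⁻¹ = a * (b' * y * b'⁻¹) * y⁻¹ by rw [hb'']; group]
          exact (fittingHallOf T).mul_mem ((fittingHallOf T).mul_mem ha
            ((mem_normalizer_iff.mp (d'.H_normal (d'.W_le hb')) y).mp hy)) ((fittingHallOf T).inv_mem hy)⟩
      have := mul_mem_sup (hEQ ha') hb''E
      rwa [inv_mul_cancel_right] at this
    rw [hEeq]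
    exact ⟨hHE, hsup⟩
  · left
    have hEW : E = W₁ := by
      refine le_antisymm (fun s hs => hEQ ⟨hs, ?_⟩) hWE
      refine mem_of_coprime_index le_sup_left (sup_le Subgroup.le_normalizer (d'.W_le.trans d'.H_normal)) (hEQW hs) ?_
      rw [show (fittingHallOf T).relIndex (fittingHallOf T ⊔ W₂) = Nat.card W₂ by
        refine Nat.eq_of_mul_eq_mul_left (Nat.card_pos (α := fittingHallOf T)) ?_
        rw [← relIndex_bot_left (fittingHallOf T), relIndex_mul_relIndex _ _ _ bot_le le_sup_left,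
          relIndex_bot_left, relIndex_bot_left, hcardQW, mul_comm]]
      exact ((hp.coprime_iff_not_dvd.mpr hpE).symm).coprime_dvd_left
        (Nat.card_zpowers s ▸ card_dvd_of_le (zpowers_le.mpr hs))
    rw [← hEW]
    exact ⟨hHE, hsup⟩

end FTPair

end CfsgLib.OddOrder.S13
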