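import Mathlib
import Cfsg.Prelude.Def_OddOrderLocal

/-!
Peterfalvi (13.1): the pair `(S, T)`, and the results of other sections used in section 13.
-/

set_option autoImplicit false

namespace CfsgLib.OddOrder.S13

open Subgroup Cfsg

universe u

variable {G : Type u} [Group G]

/-- PF (13.1): two maximal subgroups of type P sharing `W = W₁ × W₂`. -/
structure FTPair (S T W₁ W₂ U V : Subgroup G) : Prop where
  hG : IsMinSimpleOddOrder G
  hS : IsCoatom S
  hT : IsCoatom T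
  hSP : IsTypePWith S W₁ U W₂
  hTP : IsTypePWith T W₂ V W₁
  hST : S ⊓ T = W₁ ⊔ W₂
  hII : IsOfTypeII S ∨ IsOfTypeII T
  hS25 : IsOfTypeII S ∨ IsOfTypeIII S ∨ IsOfTypeIV S ∨ IsOfTypeV S
  hT25 : IsOfTypeII T ∨ IsOfTypeIII T ∨ IsOfTypeIV T ∨ IsOfTypeV T

/-- The pair with the two sides exchanged. -/
theorem FTPair.swap {S T W₁ W₂ U V : Subgroup G} (h : FTPair S T W₁ W₂ U V) : FTPair T S W₂ W₁ V U :=
  ⟨h.hG, h.hT, h.hS, h.hTP, h.hSP, by rw [inf_comm, h.hST, sup_comm], h.hII.symm, h.hT25, h.hS25⟩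

/-- What section 13 uses from sections 10, 11 and 12. -/
structure FTImports (G : Type u) [Group G] : Prop where
  /-- PF (10.10) and (11.9): there is no subgroup of type IV or V. -/
  no45 : ∀ M : Subgroup G, IsCoatom M → ¬ IsOfTypeIV M ∧ ¬ IsOfTypeV M
  /-- PF (11.9) for type III. -/
  typeIII : ∀ M W₁ U W₂ : Subgroup G, IsCoatom M → IsTypePWith M W₁ U W₂ → IsOfTypeIII M →
    Nat.card W₂ < Nat.card W₁ ∧ fittingHallOf M ⊓ centralizer (U : Set G) = ⊥
  /-- PF (12.x): a subgroup with `κ = ∅` is a Frobenius group. -/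
  frobI : ∀ L : Subgroup G, IsCoatom L → kappa L = ∅ → ∀ x ∈ fittingHallOf L, x ≠ 1 →
    L ⊓ centralizer ({x} : Set G) ≤ fittingHallOf L

/-- PF (8.x): every maximal subgroup has `κ = ∅` or is conjugate to `S` or `T`. -/
def IsClassified (S T : Subgroup G) : Prop :=
  ∀ M : Subgroup G, IsCoatom M → kappa M = ∅ ∨
    ∃ g : G, M = S.map (MulAut.conj g).toMonoidHom ∨ M = T.map (MulAut.conj g).toMonoidHom

theorem IsClassified.swap {S T : Subgroup G} (h : IsClassified S T) : IsClassified T S := fun M hM =>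
  (h M hM).imp id fun ⟨g, hg⟩ => ⟨g, hg.symm⟩

end CfsgLib.OddOrder.S13
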