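import Cfsg.Agent.Lib.OddOrder.S13.Trace
import Cfsg.Agent.Lib.CharTheory.Linear

/-!
Peterfalvi (13.5), (13.7), (13.8): functions on an abelian group `X` with a subgroup `P`, whose Fourier
coefficients are known, up to a common constant, on the characters nontrivial on `P`.
-/

set_option autoImplicit false

namespace CfsgLib.OddOrder.S13

open Cfsg CfsgLib.CharTheory
open scoped ComplexConjugate

universe u

variable {X : Type u} [CommGroup X] [Fintype X]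

/-- `F = a · ΣO + g` away from the identity, with `g` constant on the cosets of `P`. -/
structure IsShape (P : Subgroup X) (O : Finset (X →* ℂˣ)) (a : ℤ) (F g : X → ℂ) : Prop where
  periodic : ∀ x : X, ∀ z ∈ P, g (x * z) = g x
  eq : ∀ x : X, x ≠ 1 → F x = (a : ℂ) * ∑ ψ ∈ O, (ψ x : ℂ) + g x

/-- No member of `O` is trivial on `P`. -/
structure IsEdgeFree (P : Subgroup X) (O : Finset (X →* ℂˣ)) : Prop where
  ne_one : ∀ ψ ∈ O, ∃ z ∈ P, ψ z ≠ 1

variable {P : Subgroup X} {O : Finset (X →* ℂˣ)} {a : ℤ} {F g : X → ℂ}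

theorem isGenChar_linearSum (O : Finset (X →* ℂˣ)) :
    IsGeneralizedCharacter X (fun x => ∑ ψ ∈ O, (ψ x : ℂ)) := by
  have e : (fun x => ∑ ψ ∈ O, (ψ x : ℂ)) = ∑ ψ ∈ O, fun x : X => (ψ x : ℂ) := by
    funext x; rw [Finset.sum_apply]
  rw [e]
  exact isGenChar_sum _ _ fun ψ _ => isGenChar_of_char (isCharacter_of_irr (isIrrCharacter_linear ψ))

theorem eq_sum_linear (F : X → ℂ) [Fintype (X →* ℂˣ)] :
    F = ∑ ψ : X →* ℂˣ, classInner F (fun x => (ψ x : ℂ)) • fun x => (ψ x : ℂ) := by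
  classical
  have hcl : IsClassFunction X F := fun x y => by rw [mul_comm y x, mul_inv_cancel_right]
  conv_lhs => rw [eq_sum_irr hcl]
  refine (Fintype.sum_bijective (fun ψ : X →* ℂˣ => (⟨_, isIrrCharacter_linear ψ⟩ : IrrCharacter X))
    ⟨fun a b e => MonoidHom.ext fun w => Units.ext (congrFun (congrArg Subtype.val e) w), fun ψ => ?_⟩ _ _
    fun ω => rfl).symm
  obtain ⟨b, hb⟩ := exists_hom_of_degree_one (isCharacter_of_irr ψ.2) (degree_one_of_commutative mul_comm ψ.2)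
  exact ⟨b, Subtype.ext hb.symm⟩

/-- (13.5). -/
theorem exists_shape (P : Subgroup X) (O : Finset (X →* ℂˣ)) (a : ℤ) (F : X → ℂ) (k : ℂ)
    (hO : ∀ ψ ∈ O, ∃ z ∈ P, ψ z ≠ 1)
    (hk : ∀ ψ : X →* ℂˣ, (∃ z ∈ P, ψ z ≠ 1) → ψ ∈ O → classInner F (fun x => (ψ x : ℂ)) = a + k)
    (hk' : ∀ ψ : X →* ℂˣ, (∃ z ∈ P, ψ z ≠ 1) → ψ ∉ O → classInner F (fun x => (ψ x : ℂ)) = k) :
    ∃ g : X → ℂ, IsShape P O a F g := by
  classical
  haveI : Finite (X →* ℂˣ) := Nat.finite_of_card_ne_zero (by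
    rw [CommGroup.card_monoidHom_of_hasEnoughRootsOfUnity]; exact Nat.card_pos.ne')
  haveI := Fintype.ofFinite (X →* ℂˣ)
  set e : X → ℂ := fun x => if x = 1 then (Nat.card X : ℂ) else 0 with he
  have hecoef : ∀ ψ : X →* ℂˣ, classInner e (fun x => (ψ x : ℂ)) = 1 := fun ψ => by
    simp only [classInner, he, ite_mul, zero_mul, Finset.sum_ite_eq', Finset.mem_univ, if_true]
    simp [inv_mul_cancel₀ (Nat.cast_ne_zero.mpr (Nat.card_pos (α := X)).ne' : (Nat.card X : ℂ) ≠ 0)]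
  let c : (X →* ℂˣ) → ℂ := fun ψ =>
    classInner F (fun x => (ψ x : ℂ)) - k - (if ψ ∈ O then (a : ℂ) else 0)
  refine ⟨fun x => ∑ ψ : X →* ℂˣ, c ψ * (ψ x : ℂ), ⟨fun x z hz => Finset.sum_congr rfl fun ψ _ => ?_, fun x hx => ?_⟩⟩
  · by_cases hψ : ∀ y ∈ P, ψ y = 1
    · rw [map_mul, hψ z hz, mul_one]
    · push Not at hψ
      have : c ψ = 0 := by
        by_cases hm : ψ ∈ O
        · simp [c, hm, hk ψ hψ hm]
        · simp [c, hm, hk' ψ hψ hm]
      rw [this, zero_mul, zero_mul]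
  · have h1 := congrFun (eq_sum_linear F) x
    have h2 := congrFun (eq_sum_linear e) x
    simp only [Finset.sum_apply, Pi.smul_apply, smul_eq_mul, hecoef, one_mul] at h1 h2
    rw [he] at h2
    simp only [if_neg hx] at h2
    simp only [c, sub_mul, Finset.sum_sub_distrib, ite_mul, zero_mul, Finset.sum_ite_mem, Finset.univ_inter,
      ← Finset.mul_sum, ← h1, ← h2, mul_zero, sub_zero]
    ring

theorem sum_mul_periodic {ψ : X →* ℂˣ} (hψ : ∃ z ∈ P, ψ z ≠ 1) {h : X → ℂ}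
    (hh : ∀ x : X, ∀ z ∈ P, h (x * z) = h x) (s : Finset X) (hs : ∀ x : X, ∀ z ∈ P, x * z ∈ s ↔ x ∈ s) :
    ∑ x ∈ s, (ψ x : ℂ) * h x = 0 := by
  obtain ⟨z, hz, hz1⟩ := hψ
  have e : ∑ x ∈ s, (ψ x : ℂ) * h x = (ψ z : ℂ) * ∑ x ∈ s, (ψ x : ℂ) * h x := by
    rw [Finset.mul_sum]
    refine Finset.sum_bij' (fun x _ => x * z⁻¹) (fun x _ => x * z) (fun x hx => (hs _ _ (inv_mem hz)).mpr hx)
      (fun x hx => (hs _ _ hz).mpr hx) (fun x _ => by simp) (fun x _ => by simp) fun x _ => ?_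
    rw [hh x z⁻¹ (inv_mem hz), ← mul_assoc, ← Units.val_mul, ← map_mul, mul_comm z, inv_mul_cancel_right]
  refine (mul_eq_zero.mp (show ((ψ z : ℂ) - 1) * ∑ x ∈ s, (ψ x : ℂ) * h x = 0 by
    rw [sub_mul, one_mul, ← e, sub_self])).resolve_left ?_
  rw [sub_eq_zero]
  exact fun h1 => hz1 (Units.ext (by rw [h1, Units.val_one]))

theorem conj_linear (ψ : X →* ℂˣ) (x : X) : conj ((ψ x : ℂ)) = ((ψ⁻¹ x : ℂˣ) : ℂ) := by
  rw [MonoidHom.inv_apply, Units.val_inv_eq_inv_val]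
  refine (Complex.inv_eq_conj (Complex.norm_eq_one_of_pow_eq_one (n := Nat.card X) ?_ Nat.card_pos.ne')).symm
  rw [← Units.val_pow_eq_pow_val, ← map_pow, pow_card_eq_one', map_one, Units.val_one]

/-- The norm of a shape over the whole group, in terms of the orbit sum and the periodic part. -/
theorem sum_normSq_univ (hO : IsEdgeFree P O) (hg : ∀ x : X, ∀ z ∈ P, g (x * z) = g x) (a : ℤ) (ha : a * a = 1) :
    ∑ x : X, Complex.normSq ((a : ℂ) * (∑ ψ ∈ O, (ψ x : ℂ)) + g x) =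
      Nat.card X * O.card + ∑ x : X, Complex.normSq (g x) := by
  classical
  have hcross : ∑ x : X, (∑ ψ ∈ O, (ψ x : ℂ)) * conj (g x) = 0 := by
    simp only [Finset.sum_mul]
    rw [Finset.sum_comm]
    exact Finset.sum_eq_zero fun ψ hψ => sum_mul_periodic (hO.ne_one ψ hψ) (h := fun x => conj (g x))
      (fun x z hz => congrArg conj (hg x z hz)) _ fun _ _ _ => by simp
  have hsq : ∑ x : X, (∑ ψ ∈ O, (ψ x : ℂ)) * conj (∑ ψ ∈ O, (ψ x : ℂ)) = (Nat.card X * O.card : ℕ) := by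
    simp only [map_sum, Finset.sum_mul_sum]
    rw [Finset.sum_comm]
    have : ∀ ψ ∈ O, ∑ x : X, ∑ φ ∈ O, (ψ x : ℂ) * conj ((φ x : ℂ)) = (Nat.card X : ℂ) := fun ψ hψ => by
      rw [Finset.sum_comm, Finset.sum_eq_single ψ]
      · have : ∀ x ∈ (Finset.univ : Finset X), (ψ x : ℂ) * conj ((ψ x : ℂ)) = 1 := fun x _ => by
          rw [conj_linear, ← Units.val_mul, MonoidHom.inv_apply, mul_inv_cancel, Units.val_one]
        rw [Finset.sum_congr rfl this, Finset.sum_const, nsmul_eq_mul, mul_one, Finset.card_univ,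
          Nat.card_eq_fintype_card]
      · intro φ hφ hne
        have hz : ∃ z ∈ (⊤ : Subgroup X), (ψ * φ⁻¹) z ≠ 1 := by
          by_contra h
          push Not at h
          exact hne (MonoidHom.ext fun z => (mul_inv_eq_one.mp (h z trivial)).symm)
        rw [← sum_mul_periodic hz (h := fun _ => 1) (fun _ _ _ => rfl) Finset.univ fun _ _ _ => by simp]
        exact Finset.sum_congr rfl fun x _ => by
          rw [mul_one, conj_linear, ← Units.val_mul, MonoidHom.mul_apply]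
      · exact fun h => absurd hψ h
    rw [Finset.sum_congr rfl this, Finset.sum_const, nsmul_eq_mul, Nat.cast_mul, mul_comm]
  apply Complex.ofReal_injective
  push_cast
  have ha' : (a : ℂ) * (a : ℂ) = 1 := by exact_mod_cast ha
  have hpt : ∀ x, ((Complex.normSq ((a : ℂ) * (∑ ψ ∈ O, (ψ x : ℂ)) + g x) : ℝ) : ℂ) =
      ((a : ℂ) * a) * ((∑ ψ ∈ O, (ψ x : ℂ)) * conj (∑ ψ ∈ O, (ψ x : ℂ))) +
      (a : ℂ) * ((∑ ψ ∈ O, (ψ x : ℂ)) * conj (g x)) +
      (a : ℂ) * conj ((∑ ψ ∈ O, (ψ x : ℂ)) * conj (g x)) + ((Complex.normSq (g x) : ℝ) : ℂ) := fun x => by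
    rw [← Complex.mul_conj, ← Complex.mul_conj, map_add, map_mul, map_intCast, map_mul, Complex.conj_conj]
    ring
  rw [Finset.sum_congr rfl fun x _ => hpt x, Finset.sum_add_distrib, Finset.sum_add_distrib,
    Finset.sum_add_distrib, ← Finset.mul_sum, ← Finset.mul_sum, ← Finset.mul_sum, ← map_sum, hcross, hsq, ha']
  push_cast
  simp

theorem sum_split [DecidablePred (· ∈ P)] (f : X → ℝ) [DecidableEq X] :
    ∑ x ∈ Finset.univ.erase 1, f x =
      ∑ x ∈ (Finset.univ.filter (· ∈ P)).erase 1, f x + ∑ x ∈ Finset.univ.filter (· ∉ P), f x := by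
  rw [← Finset.sum_union]
  · refine Finset.sum_congr ?_ fun _ _ => rfl
    ext x
    simp only [Finset.mem_erase, Finset.mem_univ, Finset.mem_union, Finset.mem_filter, and_true, true_and]
    refine ⟨fun h => (em (x ∈ P)).imp (fun h' => ⟨h, h'⟩) id, ?_⟩
    rintro (⟨h, -⟩ | h)
    · exact h
    · exact fun e => h (e ▸ one_mem P)
  · rw [Finset.disjoint_left]
    intro x hx hx'
    exact (Finset.mem_filter.mp hx').2 (Finset.mem_filter.mp (Finset.mem_of_mem_erase hx)).2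

/-- The sum over the non-identity elements. -/
theorem sum_total [DecidablePred (· ∈ P)] [DecidableEq X] (hO : IsEdgeFree P O) (ha : a * a = 1)
    (hF : IsShape P O a F g) {t : ℤ} (ht : g 1 = t) :
    ∑ x ∈ Finset.univ.erase 1, Complex.normSq (F x) =
      (Nat.card X : ℝ) * O.card + ((Nat.card P : ℝ) - 1) * t ^ 2 - 2 * a * O.card * t - (O.card : ℝ) ^ 2 +
        ∑ x ∈ Finset.univ.filter (· ∉ P), Complex.normSq (g x) := by
  set s := Finset.univ.filter (· ∈ P) with hs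
  have hcard : s.card = Nat.card P := by
    rw [Nat.card_eq_fintype_card, ← Fintype.card_subtype]
  have hgP : ∀ x ∈ s.erase 1, Complex.normSq (g x) = (t : ℝ) ^ 2 := fun x hx => by
    rw [show g x = g 1 by rw [← hF.periodic 1 x (Finset.mem_filter.mp (Finset.mem_of_mem_erase hx)).2, one_mul],
      ht, ← Complex.ofReal_intCast, Complex.normSq_ofReal, sq]
  have h1 := sum_normSq_univ hO hF.periodic a ha
  rw [← Finset.add_sum_erase _ _ (Finset.mem_univ (1 : X)), ← Finset.add_sum_erase _ _ (Finset.mem_univ (1 : X)),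
    sum_split (P := P) (fun x => Complex.normSq (g x)), Finset.sum_congr rfl hgP, Finset.sum_const,
    Finset.card_erase_of_mem (show (1 : X) ∈ s by simp [hs]), hcard, nsmul_eq_mul, Nat.cast_sub Nat.card_pos,
    Nat.cast_one] at h1
  rw [Finset.sum_congr rfl fun x hx => by rw [hF.eq x (Finset.ne_of_mem_erase hx)]]
  have h0 : Complex.normSq ((a : ℂ) * (∑ ψ ∈ O, ((ψ 1 : ℂˣ) : ℂ)) + g 1) = ((a : ℝ) * O.card + t) ^ 2 := by
    rw [ht]
    simp only [map_one, Units.val_one, Finset.sum_const, nsmul_eq_mul, mul_one]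
    rw [show (a : ℂ) * (O.card : ℂ) + (t : ℂ) = (((a : ℝ) * O.card + t : ℝ) : ℂ) by push_cast; rfl,
      Complex.normSq_ofReal, sq]
  rw [h0, show Complex.normSq (g 1) = (t : ℝ) ^ 2 by
    rw [ht, ← Complex.ofReal_intCast, Complex.normSq_ofReal, sq]] at h1
  have ha' : (a : ℝ) * a = 1 := by exact_mod_cast ha
  linear_combination h1 - (O.card : ℝ) ^ 2 * ha'

/-- (13.7). -/
theorem sBound [DecidablePred (· ∈ P)] [DecidableEq X] {O : Finset (X →* ℂˣ)} {a : ℤ}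
    {F₁ F₂ g₁ g₂ : X → ℂ} (hO : IsEdgeFree P O) (ha : a * a = 1)
    (h1 : IsShape P ∅ 1 F₁ g₁) (h2 : IsShape P O a F₂ g₂) {t₁ t₂ : ℤ} (ht₁ : g₁ 1 = t₁) (ht₂ : g₂ 1 = t₂)
    (h10 : t₁ ≠ 0) {q : ℕ} (hq : 0 < q) (hq2 : (q : ℤ) ∣ t₂) (hn : 2 * O.card + q ≤ q * Nat.card P)
    (hoff : ((Finset.univ.filter (· ∉ P)).card : ℝ) ≤
      ∑ x ∈ Finset.univ.filter (· ∉ P), (Complex.normSq (g₁ x) + Complex.normSq (g₂ x))) :
    (Nat.card X : ℝ) - 1 + (Nat.card X : ℝ) * O.card - (O.card : ℝ) ^ 2 ≤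
      ∑ x ∈ Finset.univ.erase 1, (Complex.normSq (F₁ x) + Complex.normSq (F₂ x)) := by
  have hE : IsEdgeFree P (∅ : Finset (X →* ℂˣ)) := ⟨by simp⟩
  rw [Finset.sum_add_distrib, sum_total hE (by norm_num) h1 ht₁, sum_total hO ha h2 ht₂]
  rw [Finset.sum_add_distrib] at hoff
  have hPc : ((Finset.univ.filter (· ∉ P)).card : ℝ) = (Nat.card X : ℝ) - Nat.card P := by
    have h := Finset.card_filter_add_card_filter_not (s := (Finset.univ : Finset X)) (· ∈ P)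
    rw [Finset.card_univ, ← Nat.card_eq_fintype_card, ← Fintype.card_subtype, ← Nat.card_eq_fintype_card] at h
    rw [← h]; push_cast; ring
  have hP1 : (1 : ℝ) ≤ Nat.card P := by exact_mod_cast Nat.card_pos
  have ht1 : (1 : ℝ) ≤ (t₁ : ℝ) ^ 2 := by
    have : (0 : ℤ) < t₁ ^ 2 := by positivity
    exact_mod_cast this
  obtain ⟨m, rfl⟩ := hq2
  have hn' : 2 * (O.card : ℝ) + q ≤ q * Nat.card P := by exact_mod_cast hn
  have key : 2 * (a : ℝ) * O.card * ((q : ℝ) * m) ≤ ((Nat.card P : ℝ) - 1) * ((q : ℝ) * m) ^ 2 := by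
    have hab : (a : ℝ) * m ≤ (m : ℝ) ^ 2 := by
      have : a * m ≤ m ^ 2 := by
        rcases Int.eq_one_or_neg_one_of_mul_eq_one ha with rfl | rfl <;> nlinarith [Int.le_self_sq m, Int.le_self_sq (-m)]
      exact_mod_cast this
    calc 2 * (a : ℝ) * O.card * ((q : ℝ) * m) = 2 * O.card * q * ((a : ℝ) * m) := by ring
      _ ≤ 2 * O.card * q * (m : ℝ) ^ 2 := mul_le_mul_of_nonneg_left hab (by positivity)
      _ ≤ ((q : ℝ) * Nat.card P - q) * q * (m : ℝ) ^ 2 := by gcongr; linarith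
      _ = _ := by ring
  simp only [Finset.card_empty]
  push_cast
  nlinarith [mul_le_mul_of_nonneg_left ht1 (sub_nonneg.mpr hP1)]

/-- (13.8). -/
theorem tBound [DecidablePred (· ∈ P)] [DecidableEq X] {O₁ O₂ : Finset (X →* ℂˣ)} {a₁ a₂ : ℤ}
    {F₁ F₂ g₁ g₂ : X → ℂ} (hO₁ : IsEdgeFree P O₁) (hO₂ : IsEdgeFree P O₂) (ha₁ : a₁ * a₁ = 1) (ha₂ : a₂ * a₂ = 1)
    (h1 : IsShape P O₁ a₁ F₁ g₁) (h2 : IsShape P O₂ a₂ F₂ g₂) {t₁ t₂ : ℤ} (ht₁ : g₁ 1 = t₁) (ht₂ : g₂ 1 = t₂)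
    (h10 : t₁ ≠ 0 ∨ t₂ ≠ 0) (hle : 2 * O₁.card ≤ O₂.card) (hM : O₂.card + 1 ≤ Nat.card P)
    (hoff : ((Finset.univ.filter (· ∉ P)).card : ℝ) ≤
      ∑ x ∈ Finset.univ.filter (· ∉ P), (Complex.normSq (g₁ x) + Complex.normSq (g₂ x))) :
    (Nat.card X : ℝ) - 1 + (Nat.card X : ℝ) * O₁.card - (O₁.card : ℝ) ^ 2 - O₂.card ≤
      ∑ x ∈ Finset.univ.erase 1, (Complex.normSq (F₁ x) + Complex.normSq (F₂ x)) := by
  rw [Finset.sum_add_distrib, sum_total hO₁ ha₁ h1 ht₁, sum_total hO₂ ha₂ h2 ht₂]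
  rw [Finset.sum_add_distrib] at hoff
  have hPc : ((Finset.univ.filter (· ∉ P)).card : ℝ) = (Nat.card X : ℝ) - Nat.card P := by
    have h := Finset.card_filter_add_card_filter_not (s := (Finset.univ : Finset X)) (· ∈ P)
    rw [Finset.card_univ, ← Nat.card_eq_fintype_card, ← Fintype.card_subtype, ← Nat.card_eq_fintype_card] at h
    rw [← h]; push_cast; ring
  have hXP : (Nat.card P : ℝ) ≤ Nat.card X := by
    exact_mod_cast Nat.le_of_dvd Nat.card_pos (Subgroup.card_subgroup_dvd_card P)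
  set M : ℝ := (Nat.card P : ℝ) - 1 with hM'
  set n : ℝ := (O₁.card : ℝ) with hn
  set N : ℝ := (O₂.card : ℝ) with hN
  have hnn : (0 : ℝ) ≤ n := Nat.cast_nonneg _
  have hNn : (0 : ℝ) ≤ N := Nat.cast_nonneg _
  have hle' : 2 * n ≤ N := by rw [hn, hN]; exact_mod_cast hle
  have hMN : N ≤ M := by
    have : (O₂.card : ℝ) + 1 ≤ Nat.card P := by exact_mod_cast hM
    linarith
  have habs : ∀ a t : ℤ, a * a = 1 → ∀ s : ℝ, 0 ≤ s → 2 * (a : ℝ) * s * t ≤ 2 * s * |(t : ℝ)| := fun a t ha s hs => by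
    rcases Int.eq_one_or_neg_one_of_mul_eq_one ha with rfl | rfl <;>
      push_cast <;> nlinarith [mul_le_mul_of_nonneg_left (le_abs_self (t : ℝ)) hs,
        mul_le_mul_of_nonneg_left (neg_le_abs (t : ℝ)) hs]
  have b1 := habs a₁ t₁ ha₁ n hnn
  have b2 := habs a₂ t₂ ha₂ N hNn
  have s1 : (t₁ : ℝ) ^ 2 = |(t₁ : ℝ)| ^ 2 := (sq_abs _).symm
  have s2 : (t₂ : ℝ) ^ 2 = |(t₂ : ℝ)| ^ 2 := (sq_abs _).symm
  have hint : ∀ t : ℤ, t ≠ 0 → (1 : ℝ) ≤ |(t : ℝ)| := fun t ht => by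
    rw [← Int.cast_abs]; exact_mod_cast Int.one_le_abs ht
  have hoff' : 0 ≤ ((Nat.card X : ℝ) - Nat.card P) * N := mul_nonneg (by linarith) hNn
  by_cases h0 : t₁ = 0
  · subst h0
    have ht := hint t₂ (h10.resolve_left fun h => h rfl)
    push_cast at b1 ⊢
    nlinarith [mul_nonneg (sub_nonneg.mpr hMN) hNn,
      mul_nonneg (sub_nonneg.mpr ht) (add_nonneg (mul_nonneg (by linarith : (0 : ℝ) ≤ M) (sub_nonneg.mpr ht))
        (by linarith : (0 : ℝ) ≤ 2 * (M - N)))]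
  · have ht := hint t₁ h0
    nlinarith [mul_nonneg hNn (sq_nonneg (|(t₂ : ℝ)| - 1)),
      mul_nonneg (sub_nonneg.mpr hMN) (add_nonneg (sq_nonneg |(t₂ : ℝ)|) hNn),
      mul_nonneg (sub_nonneg.mpr ht) (add_nonneg (mul_nonneg (by linarith : (0 : ℝ) ≤ M) (sub_nonneg.mpr ht))
        (by linarith : (0 : ℝ) ≤ 2 * (M - n)))]

/-- The periodic part takes an integral value on `P` for a generalized character. -/
theorem shape_value_int (hP : P ≠ ⊥) (hF : IsShape P O a F g) (hgen : IsGeneralizedCharacter X F) :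
    ∃ t : ℤ, g 1 = t := by
  classical
  set D : X → ℂ := F - (a : ℂ) • fun x => ∑ ψ ∈ O, (ψ x : ℂ) with hD
  have hDg : IsGeneralizedCharacter X D := isGenChar_sub hgen (isGenChar_intSmul a (isGenChar_linearSum O))
  have hval : ∀ z ∈ P, z ≠ 1 → D z = g 1 := fun z hz hz1 => by
    rw [hD, Pi.sub_apply, Pi.smul_apply, smul_eq_mul, hF.eq z hz1, ← hF.periodic 1 z hz, one_mul]
    ring
  obtain ⟨⟨z₀, hz₀⟩, hz₀'⟩ := Subgroup.ne_bot_iff_exists_ne_one.mp hP
  have hz₁ : z₀ ≠ 1 := fun e => hz₀' (Subtype.ext e)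
  -- rationality: compare the sum over `P` with the inner product against the trivial character of `P`
  have hres : IsGeneralizedCharacter P (fun z : P => D z) := by
    obtain ⟨b, c, hb, hc, e⟩ := hDg
    exact ⟨_, _, isCharacter_restrict hb P, isCharacter_restrict hc P, funext fun z => congrFun e z⟩
  obtain ⟨k, hk⟩ := (isGenChar_iff_coeff_int.mp hres).2 _ (isIrrCharacter_linear (1 : P →* ℂˣ))
  obtain ⟨d, hd⟩ : ∃ d : ℤ, D 1 = d := by
    obtain ⟨b, c, hb, hc, e⟩ := hDg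
    obtain ⟨nb, ρb, rfl⟩ := hb
    obtain ⟨nc, ρc, rfl⟩ := hc
    exact ⟨(nb : ℤ) - nc, by rw [e, Pi.sub_apply, ρb.char_one, ρc.char_one]; simp⟩
  have hsum : ((Nat.card P : ℂ) - 1) * g 1 = (k : ℂ) * Nat.card P - d := by
    simp only [classInner, MonoidHom.one_apply, Units.val_one, map_one, mul_one] at hk
    rw [← hd, ← hk, mul_comm ((Nat.card P : ℂ)⁻¹ * _), ← mul_assoc,
      mul_inv_cancel₀ (Nat.cast_ne_zero.mpr (Nat.card_pos (α := P)).ne'), one_mul,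
      ← Finset.add_sum_erase _ _ (Finset.mem_univ (1 : P))]
    rw [Finset.sum_congr rfl fun z hz => hval _ z.2 fun e => Finset.ne_of_mem_erase hz (Subtype.ext e),
      Finset.sum_const, Finset.card_erase_of_mem (Finset.mem_univ _), Finset.card_univ, ← Nat.card_eq_fintype_card,
      nsmul_eq_mul, Nat.cast_sub Nat.card_pos]
    push_cast
    ring
  have hP2 : (1 : ℕ) < Nat.card P := (Subgroup.one_lt_card_iff_ne_bot P).mpr hP
  have hne : (Nat.card P : ℂ) - 1 ≠ 0 := sub_ne_zero.mpr (by exact_mod_cast hP2.ne')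
  have hrat : g 1 = ((((k : ℚ) * Nat.card P - d) / ((Nat.card P : ℚ) - 1) : ℚ) : ℂ) := by
    push_cast
    rw [eq_div_iff hne, mul_comm, hsum]
  have hint : IsIntegral ℤ (g 1) := hval z₀ hz₀ hz₁ ▸ isIntegral_of_genChar hDg z₀
  rw [hrat] at hint
  obtain ⟨t, ht⟩ := exists_int_of_isIntegral_ratCast hint
  exact ⟨t, by rw [hrat, ht]; simp⟩

/-- Off `P` the periodic parts of two generalized characters satisfy (T2). -/
theorem off_bound [DecidablePred (· ∈ P)] {O₁ O₂ : Finset (X →* ℂˣ)} {a₁ a₂ : ℤ} {F₁ F₂ g₁ g₂ : X → ℂ}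
    (hF₁ : IsShape P O₁ a₁ F₁ g₁) (hF₂ : IsShape P O₂ a₂ F₂ g₂) (hg₁ : IsGeneralizedCharacter X F₁)
    (hg₂ : IsGeneralizedCharacter X F₂) (hne : ∀ x ∉ P, g₁ x ≠ 0 ∨ g₂ x ≠ 0) :
    ((Finset.univ.filter (· ∉ P)).card : ℝ) ≤
      ∑ x ∈ Finset.univ.filter (· ∉ P), (Complex.normSq (g₁ x) + Complex.normSq (g₂ x)) := by
  classical
  have hx1 : ∀ x ∈ Finset.univ.filter (· ∉ P), x ≠ 1 := fun x hx e =>
    (Finset.mem_filter.mp hx).2 (e ▸ one_mem P)
  have h := card_le_pair (Finset.univ.filter (· ∉ P))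
    (fun m hm x hx => by
      simp only [Finset.mem_filter, Finset.mem_univ, true_and] at hx ⊢
      exact fun h => hx ((pow_mem_iff_of_coprime hm).mp h))
    (isGenChar_sub hg₁ (isGenChar_intSmul a₁ (isGenChar_linearSum O₁)))
    (isGenChar_sub hg₂ (isGenChar_intSmul a₂ (isGenChar_linearSum O₂))) (fun x hx => by
      have := hne x (Finset.mem_filter.mp hx).2
      simpa [hF₁.eq x (hx1 x hx), hF₂.eq x (hx1 x hx)] using this)
  refine h.trans (le_of_eq (Finset.sum_congr rfl fun x hx => ?_))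
  simp [hF₁.eq x (hx1 x hx), hF₂.eq x (hx1 x hx)]

end CfsgLib.OddOrder.S13
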