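import Cfsg.Agent.Lib.CharTheory.GaloisBound
import Cfsg.Agent.Lib.CharTheory.PowerMap
import Cfsg.Agent.Lib.CharTheory.Irr
import Cfsg.Agent.Lib.CharTheory.Integral

/-!
Peterfalvi section 13, tool (T2): two generalized characters without common zero on a set closed under
coprime powers have sum of square norms at least the number of elements.
-/

set_option autoImplicit false

namespace CfsgLib.OddOrder.S13

open Cfsg CfsgLib.CharTheory
open scoped ComplexConjugate

universe u

variable {G : Type u} [Group G] [Fintype G]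

theorem genChar_mem_rootField {D : G → ℂ} (hD : IsGeneralizedCharacter G D) (g : G) :
    D g ∈ rootField (Nat.card G) := by
  obtain ⟨a, b, ha, hb, rfl⟩ := hD
  exact sub_mem (char_mem_rootField ha g) (char_mem_rootField hb g)

theorem galois_apply_genChar {D : G → ℂ} (hD : IsGeneralizedCharacter G D) (g : G) {m : ℕ}
    (σ : rootField (Nat.card G) →ₐ[ℚ] ℂ)
    (hσ : ∀ x : rootField (Nat.card G), (x : ℂ) ^ Nat.card G = 1 → σ x = (x : ℂ) ^ m) :
    σ ⟨D g, genChar_mem_rootField hD g⟩ = D (g ^ m) := by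
  obtain ⟨a, b, ha, hb, rfl⟩ := hD
  have e : (⟨(a - b) g, genChar_mem_rootField ⟨a, b, ha, hb, rfl⟩ g⟩ : rootField (Nat.card G)) =
      ⟨a g, char_mem_rootField ha g⟩ - ⟨b g, char_mem_rootField hb g⟩ := rfl
  rw [e, map_sub, galois_apply_char ha g σ hσ, galois_apply_char hb g σ hσ]
  rfl

/-- (T2). -/
theorem card_le_pair (Ω : Finset G) (hΩ : ∀ m : ℕ, m.Coprime (Nat.card G) → ∀ g ∈ Ω, g ^ m ∈ Ω)
    {D₁ D₂ : G → ℂ} (h₁ : IsGeneralizedCharacter G D₁) (h₂ : IsGeneralizedCharacter G D₂)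
    (hne : ∀ g ∈ Ω, D₁ g ≠ 0 ∨ D₂ g ≠ 0) :
    (Ω.card : ℝ) ≤ ∑ g ∈ Ω, (Complex.normSq (D₁ g) + Complex.normSq (D₂ g)) := by
  classical
  set n := Nat.card G with hn
  have hn0 : n ≠ 0 := Nat.card_pos.ne'
  haveI : NeZero n := ⟨hn0⟩
  let z₁ : G → rootField n := fun g => ⟨D₁ g, genChar_mem_rootField h₁ g⟩
  let z₂ : G → rootField n := fun g => ⟨D₂ g, genChar_mem_rootField h₂ g⟩
  have hc : ∀ z : rootField n, conj (z : ℂ) ∈ rootField n := fun z => (conj_galois hn0 (rootField n).val z.2).1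
  let c : rootField n → rootField n := fun z => ⟨conj (z : ℂ), hc z⟩
  have hσc : ∀ (σ : rootField n →ₐ[ℚ] ℂ) (z : rootField n), σ (c z) = conj (σ z) := fun σ z =>
    (conj_galois hn0 σ z.2).2
  let w : G → rootField n := fun g => z₁ g * c (z₁ g) + z₂ g * c (z₂ g)
  have hw : ∀ (σ : rootField n →ₐ[ℚ] ℂ) (g : G),
      σ (w g) = ((Complex.normSq (σ (z₁ g)) + Complex.normSq (σ (z₂ g)) : ℝ) : ℂ) := fun σ g => by
    simp only [w, map_add, map_mul, hσc, Complex.mul_conj, Complex.ofReal_add]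
  have hlow : ∀ g ∈ Ω, (Fintype.card (rootField n →ₐ[ℚ] ℂ) : ℝ) ≤
      ∑ σ : rootField n →ₐ[ℚ] ℂ, (σ (w g)).re := fun g hg => by
    refine card_le_sum_pos (w g) ?_ fun σ => ⟨_, ?_, hw σ g⟩
    · exact ((isIntegral_of_genChar h₁ g).mul ((isIntegral_of_genChar h₁ g).map
        ((Complex.conjAe.toAlgHom).restrictScalars ℤ))).add ((isIntegral_of_genChar h₂ g).mul
          ((isIntegral_of_genChar h₂ g).map ((Complex.conjAe.toAlgHom).restrictScalars ℤ)))
    · rcases hne g hg with h | h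
      · exact add_pos_of_pos_of_nonneg (Complex.normSq_pos.mpr fun e => h
          (congrArg Subtype.val ((map_eq_zero_iff σ σ.injective).mp e))) (Complex.normSq_nonneg _)
      · exact add_pos_of_nonneg_of_pos (Complex.normSq_nonneg _) (Complex.normSq_pos.mpr fun e => h
          (congrArg Subtype.val ((map_eq_zero_iff σ σ.injective).mp e)))
  set T := ∑ g ∈ Ω, (Complex.normSq (D₁ g) + Complex.normSq (D₂ g)) with hT
  have hperm : ∀ σ : rootField n →ₐ[ℚ] ℂ, ∑ g ∈ Ω, (σ (w g)).re = T := fun σ => by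
    obtain ⟨m, hm, hσ⟩ := exists_pow_of_galois_hom hn0 σ
    have hinj : Function.Injective (fun g : G => g ^ m) := (powCoprime hm.symm).injective
    have himg : Ω.image (fun g => g ^ m) = Ω := by
      refine Finset.eq_of_subset_of_card_le (fun x hx => ?_) ?_
      · obtain ⟨g, hg, rfl⟩ := Finset.mem_image.mp hx
        exact hΩ m hm g hg
      · rw [Finset.card_image_of_injective _ hinj]
    calc ∑ g ∈ Ω, (σ (w g)).re
        = ∑ g ∈ Ω, (Complex.normSq (D₁ (g ^ m)) + Complex.normSq (D₂ (g ^ m))) :=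
          Finset.sum_congr rfl fun g _ => by
            rw [hw, Complex.ofReal_re, galois_apply_genChar h₁ g σ hσ, galois_apply_genChar h₂ g σ hσ]
      _ = ∑ g ∈ Ω.image (fun g => g ^ m), (Complex.normSq (D₁ g) + Complex.normSq (D₂ g)) :=
          (Finset.sum_image (f := fun g => Complex.normSq (D₁ g) + Complex.normSq (D₂ g))
            fun a _ b _ e => hinj e).symm
      _ = T := by rw [himg]
  have hsum := Finset.sum_le_sum hlow
  rw [Finset.sum_comm, Finset.sum_congr rfl fun σ _ => hperm σ, Finset.sum_const, Finset.sum_const,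
    nsmul_eq_mul, nsmul_eq_mul, Finset.card_univ, mul_comm] at hsum
  exact le_of_mul_le_mul_left hsum (by exact_mod_cast Fintype.card_pos_iff.2 ⟨(rootField n).val⟩)

end CfsgLib.OddOrder.S13
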