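import Cfsg.Agent.Lib.OddOrder.S13.Adapter
import Cfsg.Agent.Lib.OddOrder.S13.FromCore
import Cfsg.Agent.Lib.OddOrder.S13.Overgroup
import Cfsg.Agent.S1502

/-!
Peterfalvi (13.11): `C = 1` and the values of `u`.
-/

set_option autoImplicit false
set_option linter.unusedSectionVars false
set_option linter.style.haveILetI false

namespace CfsgLib.OddOrder.S13

open Subgroup Cfsg CfsgLib.MinSimpleOdd CfsgLib.OddOrder.S9 CfsgLib.CharTheory CfsgLib.OddOrder.Found CfsgLib.Dade
open scoped commutatorElement Pointwise IsMulCommutative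

universe u

variable {G : Type u} [Group G]

namespace FTPair

section Local

variable [Finite G] {S T W₁ W₂ U V : Subgroup G} (h : FTPair S T W₁ W₂ U V) (imp : FTImports G)
include h imp

/-- `W₁` is fixed point free on `C`. -/
theorem sideC_card_mod : Nat.card (sideC S U) % Nat.card W₁ = 1 := by
  classical
  have d := h.typeData imp
  have hq := h.q_prime imp
  haveI := Fact.mk hq
  let φ : W₁ →* MulAut (sideC S U) := (normalizerMonoidHom (sideC S U)).comp
    (inclusion fun w hw => h.W₁_normalizes_sideC imp hw)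
  letI : MulAction W₁ (sideC S U) := MulAction.compHom _ φ
  have hsmul : ∀ (w : W₁) (x : sideC S U), ((w • x : sideC S U) : G) = (w : G) * x * (w : G)⁻¹ := fun _ _ => rfl
  have hone : MulAction.fixedPoints W₁ (sideC S U) = {1} := by
    refine Set.eq_singleton_iff_unique_mem.mpr ⟨fun w => Subtype.ext (by rw [hsmul]; simp), fun x hx => Subtype.ext ?_⟩
    obtain ⟨w, hw, hw1⟩ := d.exists_W1
    have hxw := congrArg Subtype.val (hx ⟨w, hw⟩)
    rw [hsmul] at hxw
    have hmem : (x : G) ∈ (⁅S, S⁆ : Subgroup G) ⊓ centralizer ({w} : Set G) :=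
      ⟨d.U_le_der (mem_inf.mp x.2).1, mem_centralizer_singleton_iff.mpr (mul_inv_eq_iff_eq_mul.mp hxw).symm⟩
    rw [d.W2_eq w hw hw1] at hmem
    have := d.inf_HU.le ⟨d.W2_le hmem, (mem_inf.mp x.2).1⟩
    rwa [mem_bot] at this
  have hW : IsPGroup (Nat.card W₁) W₁ := IsPGroup.of_card (n := 1) (by rw [pow_one])
  have hmod := hW.card_modEq_card_fixedPoints (sideC S U)
  rw [hone, Nat.card_coe_set_eq, Set.ncard_singleton] at hmod
  exact Eq.trans hmod ((Nat.one_mod_eq_one.mpr hq.ne_one))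

theorem sideC_card_cases : Nat.card (sideC S U) = 1 ∨
    (2 * Nat.card W₁ + 1 ≤ Nat.card (sideC S U) ∧ Nat.card (sideC S U) % Nat.card W₁ = 1 ∧
      Odd (Nat.card (sideC S U))) := by
  by_cases h1 : Nat.card (sideC S U) = 1
  · exact Or.inl h1
  have hodd : Odd (Nat.card (sideC S U)) := Odd.of_dvd_nat h.hG.1 (card_subgroup_dvd_card _)
  refine Or.inr ⟨?_, h.sideC_card_mod imp, hodd⟩
  obtain ⟨k, hk⟩ := hodd
  obtain ⟨l, hl⟩ := h.q_odd imp
  have hd := Nat.div_add_mod (Nat.card (sideC S U)) (Nat.card W₁)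
  rw [h.sideC_card_mod imp] at hd
  generalize Nat.card (sideC S U) / Nat.card W₁ = j at hd
  rcases j with - | - | j
  · omega
  · omega
  · nlinarith

theorem q_not_dvd_u : ¬ Nat.card W₁ ∣ (sideC S U).relIndex U := fun hd => by
  have := (h.u_facts imp).2.1
  have h0 := Nat.mod_eq_zero_of_dvd hd
  omega

/-- `C` is not a Hall subgroup of `U` other than `1` when `S` has type II. -/
theorem sideC_eq_one_of_coprime (hII : IsOfTypeII S)
    (hcop : (Nat.card (sideC S U)).Coprime ((sideC S U).relIndex U)) : Nat.card (sideC S U) = 1 := by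
  by_contra hne
  obtain ⟨⟨x, hx⟩, hx1⟩ := ne_bot_iff_exists_ne_one.mp fun e : sideC S U = ⊥ => hne (by rw [e, card_bot])
  refine h.normalizer_U_not_le imp hII fun g hg => ?_
  have hgx : g * x * g⁻¹ ∈ U := (mem_normalizer_iff.mp hg x).mp (mem_inf.mp hx).1
  have hn : U ≤ normalizer (sideC S U : Set G) := fun a ha => mem_normalizer_of_conj fun y hy => by
    have e : a * y = y * a := congrArg Subtype.val ((h.U_comm imp).is_comm.comm ⟨a, ha⟩ ⟨y, (mem_inf.mp hy).1⟩)
    rw [e, mul_inv_cancel_right]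
    exact hy
  have hmem : g * x * g⁻¹ ∈ sideC S U := mem_of_coprime_index inf_le_left hn hgx <| by
    refine hcop.coprime_dvd_left ?_
    rw [show g * x * g⁻¹ = MulAut.conj g x from rfl, MulEquiv.orderOf_eq]
    exact Nat.card_zpowers x ▸ card_dvd_of_le (zpowers_le.mpr hx)
  exact h.mem_of_conj_fitting imp (h.sideC_le_fitting imp hx) (fun e => hx1 (Subtype.ext e))
    (h.sideC_le_fitting imp hmem)

end Local

variable [Fintype G] {S T W₁ W₂ U V : Subgroup G} (h : FTPair S T W₁ W₂ U V) (imp : FTImports G)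
  {A₀ A₀' : Set G} {R R' : G → Subgroup G}
  (dS : IsPrimeDade S (derK S) ((fittingHallOf S).subgroupOf S) W₁ W₂ A₀ R)
  (dT : IsPrimeDade T (derK T) ((fittingHallOf T).subgroupOf T) W₂ W₁ A₀' R')
include h imp dS dT

/-- (13.10) without coherence hypotheses. -/
theorem main_inequality (hex : ¬ FullGalois S U W₁ W₂) :
    mBound (Nat.card W₂) (Nat.card W₁) * (Nat.card W₂ : ℝ) ^ (Nat.card W₁ - 1) * Nat.card (sideC S U) <
      (Nat.card W₁ : ℝ) * ((sideC S U).relIndex U : ℕ) := by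
  classical
  haveI := Fintype.ofFinite S
  haveI := Fintype.ofFinite T
  haveI := finite_homC (H := W₁.subgroupOf S) dS.ti.comm₁
  haveI := Fintype.ofFinite (W₁.subgroupOf S →* ℂˣ)
  haveI := finite_homC (H := W₂.subgroupOf T) dT.ti.comm₁
  haveI := Fintype.ofFinite (W₂.subgroupOf T →* ℂˣ)
  obtain ⟨χ, hχ⟩ := Cfsg.Agent.S1502.result _ _ dS.selfNormG dS.oddW
  obtain ⟨χ', hχ'⟩ := Cfsg.Agent.S1502.result _ _ dT.selfNormG dT.oddW
  obtain ⟨τS, εS, πS, hcS⟩ := h.exists_cohDataOf imp dS hχ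
  obtain ⟨τT, εT, πT, hcT⟩ := h.swap.exists_cohDataOf imp dT hχ'
  exact h.mBound_lt imp dS dT hcS hcT hex

/-- **(13.11)**: `C = 1`, and the values of `u`. -/
theorem values : Nat.card (sideC S U) = 1 ∧
    ((IsGalois (fittingHallOf S) U ⊥ ∧
        ((sideC S U).relIndex U = geom (Nat.card W₂) (Nat.card W₁) ∨
          Nat.card W₁ * (sideC S U).relIndex U = geom (Nat.card W₂) (Nat.card W₁))) ∨
      (¬ IsGalois (fittingHallOf S) U ⊥ ∧ Nat.card W₁ = 3)) := by
  have hp := h.p_prime imp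
  have hq := h.q_prime imp
  have hp2 : Nat.card W₂ ≠ 2 := fun e => by have := h.p_odd imp; rw [e] at this; exact absurd this (by decide)
  have hq2 : Nat.card W₁ ≠ 2 := fun e => by have := h.q_odd imp; rw [e] at this; exact absurd this (by decide)
  by_cases hex : FullGalois S U W₁ W₂
  · exact ⟨hex.2.1, Or.inl ⟨hex.1, Or.inl hex.2.2⟩⟩
  have hineq := h.main_inequality imp dS dT hex
  obtain ⟨-, -, hqu, -, -⟩ := h.u_facts imp
  by_cases hgal : IsGalois (fittingHallOf S) U ⊥
  · rcases values_galois hp hp2 hq hq2 (h.p_ne_q imp) (h.u_galois imp hgal).2.1 (h.q_not_dvd_u imp)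
      (hq.one_lt.trans hqu) (h.sideC_card_cases imp) hineq with ⟨hc, hu⟩ | ⟨hp5, hq3, hc7, hu31⟩
    · exact ⟨hc, Or.inl ⟨hgal, hu⟩⟩
    · exfalso
      have := h.sideC_eq_one_of_coprime imp (h.typeII_of_lt imp (by omega)) (by rw [hc7, hu31]; norm_num)
      omega
  · obtain ⟨a, -, -, ha, -, hu⟩ := h.u_lines imp hgal
    obtain ⟨hc, hq3⟩ := values_lines hp hp2 hq hq2 (h.p_ne_q imp) hu ha Nat.card_pos hineq
    exact ⟨hc, Or.inr ⟨hgal, hq3⟩⟩

/-- `C = 1`. -/
theorem sideC_eq_bot : sideC S U = ⊥ := card_eq_one.mp (h.values imp dS dT).1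

/-- The larger side is in case (A). -/
theorem full_of_lt (hlt : Nat.card W₂ < Nat.card W₁) :
    IsGalois (fittingHallOf S) U ⊥ ∧ (sideC S U).relIndex U = geom (Nat.card W₂) (Nat.card W₁) := by
  have hp := h.p_prime imp
  have hp2 : 3 ≤ Nat.card W₂ := by
    obtain ⟨k, hk⟩ := h.p_odd imp
    have := hp.two_le
    omega
  rcases (h.values imp dS dT).2 with ⟨hgal, e | e⟩ | ⟨-, e⟩
  · exact ⟨hgal, e⟩
  · exfalso
    have hq := h.q_prime imp
    haveI := Fact.mk hq
    have h1 : ((geom (Nat.card W₂) (Nat.card W₁) : ℕ) : ZMod (Nat.card W₁)) = 0 := by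
      rw [← e, Nat.cast_mul, ZMod.natCast_self, zero_mul]
    have h2 := congrArg (fun n : ℕ => (n : ZMod (Nat.card W₁))) (geom_mul_pred (q := Nat.card W₁) hp.one_le)
    simp only [Nat.cast_add, Nat.cast_mul, h1, zero_mul, zero_add, Nat.cast_one, Nat.cast_pow, ZMod.pow_card] at h2
    have h3 : 1 % Nat.card W₁ = Nat.card W₂ % Nat.card W₁ :=
      (ZMod.natCast_eq_natCast_iff' _ _ _).mp (by simpa using h2)
    rw [Nat.mod_eq_of_lt hlt, Nat.mod_eq_of_lt hq.one_lt] at h3
    omega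
  · omega

end FTPair

end CfsgLib.OddOrder.S13
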